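import Mathlib
import Cfsg.Agent.Helper2.SylU

set_option autoImplicit false
set_option linter.unusedSectionVars false

namespace Cfsg.Agent.Helper28.S4349i

open Cfsg.Agent.Helper2.SylU

variable {α : Type*} [Fintype α] [DecidableEq α]

/-- if `y` maps the half `B` off `B`, it maps `O \ B` into `B`. -/
theorem off_back (O B : Finset α) (hBO : B ⊆ O) (hcard : 2 * B.card = O.card)
    (y : Equiv.Perm α) (hyO : ∀ a ∈ O, y a ∈ O) (hoff : ∀ a ∈ B, y a ∉ B) :
    ∀ c ∈ O, c ∉ B → y c ∈ B := by
  have himg : B.image y = O \ B := by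
    apply Finset.eq_of_subset_of_card_le
    · intro z hz
      obtain ⟨a, ha, rfl⟩ := Finset.mem_image.mp hz
      exact Finset.mem_sdiff.mpr ⟨hyO a (hBO ha), hoff a ha⟩
    · rw [Finset.card_image_of_injective _ y.injective, Finset.card_sdiff_of_subset hBO]
      omega
  intro c hcO hcB
  by_contra hyc
  have h1 : y c ∈ B.image y := by
    rw [himg]
    exact Finset.mem_sdiff.mpr ⟨hyO c hcO, hyc⟩
  obtain ⟨b, hb, hbc⟩ := Finset.mem_image.mp h1
  exact hcB (y.injective hbc ▸ hb)

/-- if `y` maps `B` into `B`, it maps the complement into the complement. -/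
theorem in_compl (B : Finset α) (y : Equiv.Perm α) (hin : ∀ a ∈ B, y a ∈ B) :
    ∀ c, c ∉ B → y c ∉ B := by
  have himg : B.image y = B := by
    apply Finset.eq_of_subset_of_card_le
    · intro z hz
      obtain ⟨a, ha, rfl⟩ := Finset.mem_image.mp hz
      exact hin a ha
    · rw [Finset.card_image_of_injective _ y.injective]
  intro c hcB hyc
  rw [← himg] at hyc
  obtain ⟨b, hb, hbc⟩ := Finset.mem_image.mp hyc
  exact hcB (y.injective hbc ▸ hb)

theorem pow_in (B : Finset α) (y : Equiv.Perm α) (hin : ∀ a ∈ B, y a ∈ B) :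
    ∀ (k : ℕ), ∀ a ∈ B, (y ^ k) a ∈ B := by
  intro k
  induction k with
  | zero => intro a ha; simpa using ha
  | succ k ih =>
    intro a ha
    rw [pow_succ', Equiv.Perm.mul_apply]
    exact hin _ (ih a ha)

theorem pow_out (B : Finset α) (y : Equiv.Perm α) (hout : ∀ c, c ∉ B → y c ∉ B) :
    ∀ (k : ℕ), ∀ a, a ∉ B → (y ^ k) a ∉ B := by
  intro k
  induction k with
  | zero => intro a ha; simpa using ha
  | succ k ih =>
    intro a ha
    rw [pow_succ', Equiv.Perm.mul_apply]
    exact hout _ (ih a ha)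

theorem pow_parity (O B : Finset α) (y : Equiv.Perm α) (hyO : ∀ a ∈ O, y a ∈ O)
    (hBO : B ⊆ O) (hoff : ∀ a ∈ B, y a ∉ B) (hback : ∀ c ∈ O, c ∉ B → y c ∈ B)
    (a0 : α) (ha0 : a0 ∈ B) :
    ∀ k : ℕ, (y ^ k) a0 ∈ O ∧ ((y ^ k) a0 ∈ B ↔ Even k) := by
  intro k
  induction k with
  | zero => exact ⟨by simpa using hBO ha0, by simpa using ha0⟩
  | succ k ih =>
    rw [pow_succ', Equiv.Perm.mul_apply]
    refine ⟨hyO _ ih.1, ?_⟩
    by_cases hk : Even k
    · have h1 := hoff _ (ih.2.mpr hk)
      constructor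
      · intro h; exact absurd h h1
      · intro h
        exact absurd hk (by rw [Nat.even_add_one] at h; exact h)
    · have h1 : (y ^ k) a0 ∉ B := fun h => hk (ih.2.mp h)
      constructor
      · intro _
        rw [Nat.even_add_one]; exact hk
      · intro _
        exact hback _ ih.1 h1

/-- `[P9]`. -/
theorem half_unique (D : Subgroup (Equiv.Perm α)) (O : Finset α) (hO : IsOrb D O)
    (y : Equiv.Perm α) (hy : y ∈ D) (B₁ B₂ : Finset α) (h1 : IsHalf D O B₁)
    (h2 : IsHalf D O B₂) (hAR : TransOrFix y O) : B₂ = B₁ ∨ B₂ = O \ B₁ := by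
  have hyO : ∀ a ∈ O, y a ∈ O := fun a ha => hO.1 y hy a ha
  rcases hAR with htr | ⟨a, ha, b, hb, hab, hya, hyb, C, hCO, hCcard, hCcyc, hCinv⟩
  · -- transitive case
    have hoff : ∀ B : Finset α, IsHalf D O B → ∀ x ∈ B, y x ∉ B := by
      intro B hB
      rcases hB.2.2 y hy with hin | hoff
      · intro x hx
        exfalso
        have hlt : B.card < O.card := by
          have : 0 < B.card := Finset.card_pos.mpr ⟨x, hx⟩
          have := hB.2.1
          omega
        obtain ⟨c, hcO, hcB⟩ := Finset.exists_mem_notMem_of_card_lt_card hlt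
        obtain ⟨k, hk⟩ := (htr x (hB.1 hx) c hcO).exists_nat_pow_eq
        exact hcB (hk ▸ pow_in B y hin k x hx)
      · exact hoff
    have hback : ∀ B : Finset α, IsHalf D O B → ∀ c ∈ O, c ∉ B → y c ∈ B :=
      fun B hB => off_back O B hB.1 hB.2.1 y hyO (hoff B hB)
    by_cases hne : (B₁ ∩ B₂).Nonempty
    · left
      obtain ⟨a0, ha0⟩ := hne
      have ha1 := (Finset.mem_inter.mp ha0).1
      have ha2 := (Finset.mem_inter.mp ha0).2
      ext c
      by_cases hcO : c ∈ O
      · obtain ⟨k, hk⟩ := (htr a0 (h1.1 ha1) c hcO).exists_nat_pow_eq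
        have p1 := (pow_parity O B₁ y hyO h1.1 (hoff B₁ h1) (hback B₁ h1) a0 ha1 k).2
        have p2 := (pow_parity O B₂ y hyO h2.1 (hoff B₂ h2) (hback B₂ h2) a0 ha2 k).2
        rw [hk] at p1 p2
        exact p2.trans p1.symm
      · exact ⟨fun h => absurd (h2.1 h) hcO, fun h => absurd (h1.1 h) hcO⟩
    · right
      apply Finset.eq_of_subset_of_card_le
      · intro c hc
        refine Finset.mem_sdiff.mpr ⟨h2.1 hc, fun hc1 => hne ⟨c, Finset.mem_inter.mpr ⟨hc1, hc⟩⟩⟩
      · rw [Finset.card_sdiff_of_subset h1.1]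
        have := h1.2.1
        have := h2.2.1
        omega
  · -- fixed point case
    have hOpos : 0 < O.card := Finset.card_pos.mpr ⟨a, ha⟩
    have hCne : C.Nonempty := by
      rw [← Finset.card_pos]; omega
    obtain ⟨c0, hc0⟩ := hCne
    have key : ∀ B : Finset α, IsHalf D O B → B = C ∨ B = O \ C := by
      intro B hB
      have hin : ∀ x ∈ B, y x ∈ B := by
        rcases hB.2.2 y hy with hin | hoff
        · exact hin
        · exfalso
          by_cases haB : a ∈ B
          · exact hoff a haB (hya.symm ▸ haB)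
          · have := off_back O B hB.1 hB.2.1 y hyO hoff a ha haB
            rw [hya] at this
            exact haB this
      have hout := in_compl B y hin
      by_cases hc0B : c0 ∈ B
      · left
        symm
        apply Finset.eq_of_subset_of_card_le
        · intro c hc
          obtain ⟨k, hk⟩ := (hCcyc c0 hc0 c hc).exists_nat_pow_eq
          exact hk ▸ pow_in B y hin k c0 hc0B
        · have := hB.2.1
          omega
      · right
        have hCeq : C = O \ B := by
          apply Finset.eq_of_subset_of_card_le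
          · intro c hc
            obtain ⟨k, hk⟩ := (hCcyc c0 hc0 c hc).exists_nat_pow_eq
            exact Finset.mem_sdiff.mpr ⟨hCO hc, hk ▸ pow_out B y hout k c0 hc0B⟩
          · rw [Finset.card_sdiff_of_subset hB.1]
            have := hB.2.1
            omega
        rw [hCeq, Finset.sdiff_sdiff_eq_self hB.1]
    rcases key B₁ h1 with e1 | e1 <;> rcases key B₂ h2 with e2 | e2
    · left; rw [e1, e2]
    · right; rw [e1, e2]
    · right; rw [e1, e2, Finset.sdiff_sdiff_eq_self hCO]
    · left; rw [e1, e2]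

end Cfsg.Agent.Helper28.S4349i
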