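import Mathlib
import Cfsg.Agent.Helper28.GolayChain

set_option autoImplicit false

namespace Cfsg.Agent.Helper28
namespace Golay

open Cfsg

/-- transversal at level 1 -/
def U1 : List (List Nat) :=
  [[23, 22, 11, 15, 17, 9, 19, 13, 20, 5, 16, 2, 21, 7, 18, 3, 10, 4, 14, 6, 8, 12, 1, 0],
   [23, 0, 12, 16, 18, 10, 20, 14, 21, 6, 17, 3, 22, 8, 19, 4, 11, 5, 15, 7, 9, 13, 2, 1],
   [23, 1, 13, 17, 19, 11, 21, 15, 22, 7, 18, 4, 0, 9, 20, 5, 12, 6, 16, 8, 10, 14, 3, 2],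
   [23, 2, 14, 18, 20, 12, 22, 16, 0, 8, 19, 5, 1, 10, 21, 6, 13, 7, 17, 9, 11, 15, 4, 3],
   [23, 3, 15, 19, 21, 13, 0, 17, 1, 9, 20, 6, 2, 11, 22, 7, 14, 8, 18, 10, 12, 16, 5, 4],
   [23, 4, 16, 20, 22, 14, 1, 18, 2, 10, 21, 7, 3, 12, 0, 8, 15, 9, 19, 11, 13, 17, 6, 5],
   [23, 5, 17, 21, 0, 15, 2, 19, 3, 11, 22, 8, 4, 13, 1, 9, 16, 10, 20, 12, 14, 18, 7, 6],
   [11, 22, 5, 19, 20, 17, 18, 9, 15, 3, 10, 6, 0, 13, 16, 2, 23, 12, 21, 1, 14, 8, 4, 7],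
   [12, 0, 6, 20, 21, 18, 19, 10, 16, 4, 11, 7, 1, 14, 17, 3, 23, 13, 22, 2, 15, 9, 5, 8],
   [0, 17, 10, 8, 1, 18, 22, 14, 11, 16, 12, 13, 15, 21, 23, 20, 3, 5, 6, 2, 7, 4, 19, 9],
   [22, 21, 6, 3, 5, 1, 11, 2, 0, 12, 13, 16, 23, 4, 7, 8, 20, 18, 9, 19, 15, 17, 14, 10],
   [0, 22, 7, 4, 6, 2, 12, 3, 1, 13, 14, 17, 23, 5, 8, 9, 21, 19, 10, 20, 16, 18, 15, 11],
   [1, 0, 8, 5, 7, 3, 13, 4, 2, 14, 15, 18, 23, 6, 9, 10, 22, 20, 11, 21, 17, 19, 16, 12],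
   [2, 1, 9, 6, 8, 4, 14, 5, 3, 15, 16, 19, 23, 7, 10, 11, 0, 21, 12, 22, 18, 20, 17, 13],
   [3, 2, 10, 7, 9, 5, 15, 6, 4, 16, 17, 20, 23, 8, 11, 12, 1, 22, 13, 0, 19, 21, 18, 14],
   [0, 11, 18, 14, 8, 21, 1, 10, 23, 20, 6, 9, 22, 16, 12, 19, 7, 13, 4, 5, 2, 3, 17, 15],
   [1, 12, 19, 15, 9, 22, 2, 11, 23, 21, 7, 10, 0, 17, 13, 20, 8, 14, 5, 6, 3, 4, 18, 16],
   [0, 15, 3, 6, 12, 7, 23, 4, 22, 5, 8, 19, 11, 2, 1, 13, 18, 20, 14, 16, 21, 10, 9, 17],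
   [1, 16, 4, 7, 13, 8, 23, 5, 0, 6, 9, 20, 12, 3, 2, 14, 19, 21, 15, 17, 22, 11, 10, 18],
   [0, 9, 4, 12, 23, 3, 11, 6, 15, 2, 1, 20, 17, 7, 22, 5, 10, 16, 8, 21, 18, 14, 13, 19],
   [1, 10, 5, 13, 23, 4, 12, 7, 16, 3, 2, 21, 18, 8, 0, 6, 11, 17, 9, 22, 19, 15, 14, 20],
   [22, 23, 20, 9, 13, 15, 7, 17, 11, 18, 3, 14, 0, 19, 5, 16, 1, 8, 2, 12, 4, 6, 10, 21],
   [0, 23, 21, 10, 14, 16, 8, 18, 12, 19, 4, 15, 1, 20, 6, 17, 2, 9, 3, 13, 5, 7, 11, 22],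
   [0, 1, 2, 3, 4, 5, 6, 7, 8, 9, 10, 11, 12, 13, 14, 15, 16, 17, 18, 19, 20, 21, 22, 23]]

def prog1 : List Step :=
  [Step.pushAll, Step.pushF, Step.bxor 1 0]

/-- transversal at level 2 -/
def U2 : List (List Nat) :=
  [[0, 1, 2, 3, 4, 5, 6, 7, 8, 9, 10, 11, 12, 13, 14, 15, 16, 17, 18, 19, 20, 21, 22, 23],
   [1, 2, 3, 4, 5, 6, 7, 8, 9, 10, 11, 12, 13, 14, 15, 16, 17, 18, 19, 20, 21, 22, 0, 23],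
   [2, 3, 4, 5, 6, 7, 8, 9, 10, 11, 12, 13, 14, 15, 16, 17, 18, 19, 20, 21, 22, 0, 1, 23],
   [3, 4, 5, 6, 7, 8, 9, 10, 11, 12, 13, 14, 15, 16, 17, 18, 19, 20, 21, 22, 0, 1, 2, 23],
   [4, 5, 6, 7, 8, 9, 10, 11, 12, 13, 14, 15, 16, 17, 18, 19, 20, 21, 22, 0, 1, 2, 3, 23],
   [5, 6, 7, 8, 9, 10, 11, 12, 13, 14, 15, 16, 17, 18, 19, 20, 21, 22, 0, 1, 2, 3, 4, 23],
   [6, 7, 8, 9, 10, 11, 12, 13, 14, 15, 16, 17, 18, 19, 20, 21, 22, 0, 1, 2, 3, 4, 5, 23],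
   [7, 8, 9, 10, 11, 12, 13, 14, 15, 16, 17, 18, 19, 20, 21, 22, 0, 1, 2, 3, 4, 5, 6, 23],
   [8, 9, 10, 11, 12, 13, 14, 15, 16, 17, 18, 19, 20, 21, 22, 0, 1, 2, 3, 4, 5, 6, 7, 23],
   [9, 10, 11, 12, 13, 14, 15, 16, 17, 18, 19, 20, 21, 22, 0, 1, 2, 3, 4, 5, 6, 7, 8, 23],
   [10, 11, 12, 13, 14, 15, 16, 17, 18, 19, 20, 21, 22, 0, 1, 2, 3, 4, 5, 6, 7, 8, 9, 23],
   [11, 12, 13, 14, 15, 16, 17, 18, 19, 20, 21, 22, 0, 1, 2, 3, 4, 5, 6, 7, 8, 9, 10, 23],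
   [12, 13, 14, 15, 16, 17, 18, 19, 20, 21, 22, 0, 1, 2, 3, 4, 5, 6, 7, 8, 9, 10, 11, 23],
   [13, 14, 15, 16, 17, 18, 19, 20, 21, 22, 0, 1, 2, 3, 4, 5, 6, 7, 8, 9, 10, 11, 12, 23],
   [14, 15, 16, 17, 18, 19, 20, 21, 22, 0, 1, 2, 3, 4, 5, 6, 7, 8, 9, 10, 11, 12, 13, 23],
   [15, 16, 17, 18, 19, 20, 21, 22, 0, 1, 2, 3, 4, 5, 6, 7, 8, 9, 10, 11, 12, 13, 14, 23],
   [16, 17, 18, 19, 20, 21, 22, 0, 1, 2, 3, 4, 5, 6, 7, 8, 9, 10, 11, 12, 13, 14, 15, 23],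
   [17, 18, 19, 20, 21, 22, 0, 1, 2, 3, 4, 5, 6, 7, 8, 9, 10, 11, 12, 13, 14, 15, 16, 23],
   [18, 19, 20, 21, 22, 0, 1, 2, 3, 4, 5, 6, 7, 8, 9, 10, 11, 12, 13, 14, 15, 16, 17, 23],
   [19, 20, 21, 22, 0, 1, 2, 3, 4, 5, 6, 7, 8, 9, 10, 11, 12, 13, 14, 15, 16, 17, 18, 23],
   [20, 21, 22, 0, 1, 2, 3, 4, 5, 6, 7, 8, 9, 10, 11, 12, 13, 14, 15, 16, 17, 18, 19, 23],
   [21, 22, 0, 1, 2, 3, 4, 5, 6, 7, 8, 9, 10, 11, 12, 13, 14, 15, 16, 17, 18, 19, 20, 23],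
   [22, 0, 1, 2, 3, 4, 5, 6, 7, 8, 9, 10, 11, 12, 13, 14, 15, 16, 17, 18, 19, 20, 21, 23]]

def prog2 : List Step :=
  [Step.pushAll, Step.pushF, Step.bxor 1 0]

/-- transversal at level 3 -/
def U3 : List (List Nat) :=
  [[0, 4, 1, 3, 6, 20, 18, 21, 13, 8, 5, 22, 16, 12, 11, 15, 9, 19, 2, 14, 7, 10, 17, 23],
   [0, 1, 2, 3, 4, 5, 6, 7, 8, 9, 10, 11, 12, 13, 14, 15, 16, 17, 18, 19, 20, 21, 22, 23],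
   [0, 16, 3, 8, 2, 11, 13, 19, 9, 4, 15, 7, 1, 12, 5, 17, 6, 22, 18, 14, 10, 21, 20, 23],
   [0, 6, 4, 3, 18, 7, 2, 10, 12, 13, 20, 17, 9, 16, 22, 15, 8, 14, 1, 11, 21, 5, 19, 23],
   [0, 19, 5, 6, 18, 9, 17, 21, 20, 1, 10, 8, 13, 14, 3, 12, 7, 15, 2, 4, 16, 22, 11, 23],
   [0, 18, 6, 3, 2, 21, 1, 5, 16, 12, 7, 19, 8, 9, 17, 15, 13, 11, 4, 22, 10, 20, 14, 23],
   [0, 3, 7, 10, 17, 21, 9, 18, 11, 22, 14, 15, 13, 12, 5, 6, 19, 20, 2, 16, 4, 1, 8, 23],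
   [0, 4, 8, 12, 16, 20, 1, 5, 9, 13, 17, 21, 2, 6, 10, 14, 18, 22, 3, 7, 11, 15, 19, 23],
   [0, 4, 9, 16, 3, 20, 13, 19, 1, 18, 22, 17, 12, 2, 14, 11, 8, 5, 6, 10, 15, 7, 21, 23],
   [0, 12, 10, 19, 9, 16, 22, 8, 13, 7, 6, 21, 2, 11, 1, 15, 3, 5, 17, 20, 18, 4, 14, 23],
   [0, 3, 11, 17, 2, 21, 22, 8, 9, 19, 20, 14, 10, 13, 6, 4, 7, 18, 12, 5, 1, 16, 15, 23],
   [0, 13, 12, 6, 4, 19, 2, 10, 9, 1, 14, 15, 16, 18, 11, 7, 3, 22, 8, 21, 20, 17, 5, 23],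
   [0, 18, 13, 8, 3, 21, 16, 11, 6, 1, 19, 14, 9, 4, 22, 17, 12, 7, 2, 20, 15, 10, 5, 23],
   [0, 8, 14, 11, 19, 13, 3, 20, 5, 7, 16, 21, 12, 22, 4, 2, 9, 17, 6, 15, 10, 18, 1, 23],
   [0, 10, 15, 18, 14, 7, 17, 16, 8, 20, 9, 21, 19, 5, 12, 2, 13, 6, 11, 4, 1, 3, 22, 23],
   [0, 2, 16, 8, 13, 10, 18, 21, 12, 9, 11, 20, 6, 1, 7, 17, 4, 14, 3, 5, 19, 15, 22, 23],
   [0, 9, 17, 10, 2, 18, 7, 14, 13, 12, 4, 20, 22, 19, 8, 6, 11, 5, 3, 15, 1, 21, 16, 23],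
   [0, 2, 18, 3, 1, 10, 4, 20, 9, 16, 21, 14, 13, 8, 19, 15, 12, 22, 6, 17, 5, 7, 11, 23],
   [0, 7, 19, 11, 12, 14, 2, 1, 13, 22, 15, 4, 9, 3, 18, 20, 17, 5, 10, 21, 16, 6, 8, 23],
   [0, 8, 20, 14, 16, 15, 22, 12, 9, 5, 19, 7, 11, 1, 18, 13, 21, 3, 6, 10, 2, 4, 17, 23],
   [0, 8, 21, 11, 14, 15, 9, 3, 20, 22, 7, 17, 1, 6, 10, 18, 5, 19, 16, 4, 13, 2, 12, 23],
   [0, 12, 22, 17, 11, 16, 3, 21, 7, 10, 8, 5, 9, 19, 18, 4, 13, 14, 2, 15, 20, 1, 6, 23]]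

def prog3 : List Step :=
  [Step.pushAll, Step.pushF, Step.bxor 1 0]

/-- transversal at level 4 -/
def U4 : List (List Nat) :=
  [[0, 10, 2, 12, 1, 17, 14, 7, 11, 18, 3, 5, 4, 9, 13, 22, 15, 21, 6, 16, 19, 8, 20, 23],
   [0, 15, 2, 5, 3, 21, 8, 22, 1, 14, 4, 9, 20, 7, 16, 12, 13, 18, 10, 6, 19, 17, 11, 23],
   [0, 1, 2, 3, 4, 5, 6, 7, 8, 9, 10, 11, 12, 13, 14, 15, 16, 17, 18, 19, 20, 21, 22, 23],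
   [0, 17, 2, 11, 5, 16, 21, 13, 6, 4, 18, 15, 22, 3, 9, 7, 14, 19, 8, 12, 20, 10, 1, 23],
   [0, 21, 2, 8, 6, 4, 10, 13, 15, 22, 11, 5, 16, 19, 3, 20, 7, 9, 18, 12, 14, 17, 1, 23],
   [0, 6, 2, 11, 7, 10, 16, 12, 15, 13, 14, 8, 17, 1, 4, 18, 19, 5, 22, 20, 9, 3, 21, 23],
   [0, 20, 2, 6, 8, 3, 21, 14, 15, 17, 4, 9, 1, 13, 12, 18, 19, 16, 10, 11, 7, 22, 5, 23],
   [0, 6, 2, 15, 9, 17, 11, 4, 1, 20, 16, 19, 7, 14, 22, 12, 13, 8, 21, 5, 3, 10, 18, 23],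
   [0, 16, 2, 11, 10, 17, 21, 15, 4, 6, 12, 13, 22, 7, 19, 3, 14, 9, 1, 18, 20, 5, 8, 23],
   [0, 21, 2, 10, 11, 12, 1, 7, 4, 5, 18, 8, 9, 14, 17, 16, 20, 13, 3, 19, 15, 6, 22, 23],
   [0, 22, 2, 17, 12, 8, 11, 20, 10, 13, 1, 18, 19, 7, 15, 4, 9, 6, 3, 14, 16, 21, 5, 23],
   [0, 11, 2, 5, 13, 10, 12, 18, 20, 19, 17, 21, 22, 15, 4, 16, 7, 6, 14, 1, 9, 8, 3, 23],
   [0, 8, 2, 11, 14, 1, 3, 9, 22, 20, 5, 17, 15, 16, 12, 19, 7, 18, 6, 4, 13, 21, 10, 23],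
   [0, 10, 2, 18, 15, 22, 17, 13, 5, 16, 8, 6, 4, 9, 19, 14, 20, 3, 11, 12, 7, 21, 1, 23],
   [0, 17, 2, 14, 16, 3, 6, 15, 10, 7, 20, 12, 13, 19, 1, 4, 9, 5, 21, 22, 18, 8, 11, 23],
   [0, 21, 2, 5, 17, 15, 8, 9, 14, 1, 6, 22, 20, 12, 18, 7, 13, 16, 11, 4, 19, 3, 10, 23],
   [0, 14, 2, 22, 18, 21, 5, 1, 10, 19, 15, 16, 7, 13, 20, 4, 9, 11, 8, 17, 12, 3, 6, 23],
   [0, 5, 2, 6, 19, 10, 18, 16, 1, 7, 22, 3, 14, 20, 4, 12, 13, 11, 17, 15, 9, 21, 8, 23],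
   [0, 10, 2, 16, 20, 14, 22, 19, 6, 12, 21, 11, 4, 9, 7, 17, 1, 8, 5, 18, 13, 3, 15, 23],
   [0, 1, 2, 11, 21, 8, 3, 17, 20, 22, 4, 9, 15, 19, 18, 16, 7, 12, 10, 5, 13, 14, 6, 23],
   [0, 3, 2, 6, 22, 20, 21, 9, 17, 15, 11, 14, 1, 18, 16, 13, 19, 12, 5, 4, 7, 8, 10, 23]]

def prog4 : List Step :=
  [Step.pushAll, Step.pushF, Step.bxor 1 0]

/-- transversal at level 5 -/
def U5 : List (List Nat) :=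
  [[0, 7, 2, 6, 4, 1, 13, 15, 5, 10, 16, 22, 9, 17, 21, 8, 18, 19, 12, 3, 14, 11, 20, 23],
   [0, 14, 2, 17, 4, 3, 21, 22, 7, 18, 9, 8, 10, 15, 5, 6, 12, 1, 16, 11, 13, 20, 19, 23],
   [0, 1, 2, 3, 4, 5, 6, 7, 8, 9, 10, 11, 12, 13, 14, 15, 16, 17, 18, 19, 20, 21, 22, 23],
   [0, 15, 2, 8, 4, 6, 11, 13, 21, 9, 10, 5, 18, 19, 17, 20, 12, 22, 16, 7, 1, 3, 14, 23],
   [0, 3, 2, 11, 4, 7, 17, 14, 6, 10, 18, 20, 16, 21, 13, 22, 9, 15, 12, 1, 19, 5, 8, 23],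
   [0, 13, 2, 20, 4, 8, 3, 11, 17, 18, 9, 21, 12, 22, 19, 14, 16, 5, 10, 15, 6, 7, 1, 23],
   [0, 12, 2, 7, 4, 9, 8, 1, 17, 20, 3, 21, 10, 19, 5, 6, 14, 22, 13, 11, 16, 18, 15, 23],
   [0, 14, 2, 8, 4, 10, 5, 1, 21, 9, 6, 11, 20, 12, 7, 18, 19, 16, 22, 17, 13, 3, 15, 23],
   [0, 20, 2, 21, 4, 11, 5, 19, 3, 9, 10, 6, 16, 7, 22, 1, 18, 14, 12, 13, 15, 8, 17, 23],
   [0, 21, 2, 10, 4, 12, 15, 16, 11, 6, 19, 14, 20, 8, 17, 7, 9, 13, 22, 18, 1, 5, 3, 23],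
   [0, 8, 2, 5, 4, 13, 22, 17, 11, 10, 16, 1, 12, 3, 19, 14, 9, 20, 18, 15, 7, 6, 21, 23],
   [0, 17, 2, 5, 4, 14, 15, 8, 11, 10, 12, 19, 16, 20, 1, 13, 18, 3, 9, 22, 21, 6, 7, 23],
   [0, 13, 2, 11, 4, 15, 19, 20, 6, 10, 12, 14, 9, 22, 3, 21, 16, 7, 18, 8, 17, 5, 1, 23],
   [0, 15, 2, 5, 4, 16, 13, 3, 10, 6, 22, 1, 20, 14, 18, 17, 19, 21, 9, 7, 8, 11, 12, 23],
   [0, 22, 2, 6, 4, 17, 20, 21, 5, 10, 18, 7, 12, 1, 15, 19, 16, 8, 9, 14, 3, 11, 13, 23],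
   [0, 12, 2, 11, 4, 18, 17, 13, 5, 6, 20, 7, 9, 15, 8, 3, 19, 1, 22, 21, 16, 10, 14, 23],
   [0, 21, 2, 6, 4, 19, 14, 22, 5, 10, 12, 15, 18, 8, 7, 17, 9, 1, 16, 20, 13, 11, 3, 23],
   [0, 19, 2, 5, 4, 20, 7, 1, 11, 10, 18, 17, 9, 14, 8, 3, 12, 13, 16, 21, 22, 6, 15, 23],
   [0, 6, 2, 7, 4, 21, 8, 15, 20, 18, 9, 3, 16, 11, 1, 13, 10, 19, 12, 22, 14, 17, 5, 23],
   [0, 14, 2, 11, 4, 22, 1, 3, 6, 10, 16, 13, 18, 15, 20, 7, 12, 21, 9, 17, 8, 5, 19, 23]]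

def prog5 : List Step :=
  [Step.pushAll, Step.pushF, Step.bxor 1 0]

/-- transversal at level 6 -/
def U6 : List (List Nat) :=
  [[0, 1, 2, 3, 4, 5, 6, 7, 8, 9, 10, 11, 12, 13, 14, 15, 16, 17, 18, 19, 20, 21, 22, 23],
   [0, 3, 2, 1, 4, 5, 6, 12, 13, 22, 10, 11, 7, 8, 17, 18, 21, 14, 15, 20, 19, 16, 9, 23],
   [0, 7, 2, 9, 4, 5, 11, 15, 8, 21, 6, 10, 16, 20, 22, 1, 17, 12, 14, 13, 19, 3, 18, 23],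
   [0, 8, 2, 19, 4, 5, 10, 7, 15, 12, 11, 6, 22, 21, 13, 1, 3, 20, 17, 16, 18, 14, 9, 23],
   [0, 9, 2, 7, 4, 5, 11, 16, 20, 18, 6, 10, 15, 8, 12, 14, 3, 22, 1, 19, 13, 17, 21, 23],
   [0, 12, 2, 22, 4, 5, 11, 18, 13, 16, 6, 10, 21, 19, 9, 3, 14, 7, 17, 8, 20, 1, 15, 23],
   [0, 13, 2, 20, 4, 5, 10, 12, 18, 7, 11, 6, 9, 16, 8, 3, 1, 19, 14, 21, 15, 17, 22, 23],
   [0, 14, 2, 17, 4, 5, 6, 9, 20, 7, 10, 11, 22, 19, 1, 16, 15, 3, 21, 13, 8, 18, 12, 23],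
   [0, 15, 2, 16, 4, 5, 11, 7, 1, 22, 6, 10, 9, 14, 21, 8, 19, 18, 20, 3, 17, 13, 12, 23],
   [0, 16, 2, 15, 4, 5, 11, 9, 14, 12, 6, 10, 7, 1, 18, 20, 13, 21, 8, 17, 3, 19, 22, 23],
   [0, 17, 2, 14, 4, 5, 6, 22, 19, 12, 10, 11, 9, 20, 3, 21, 18, 1, 16, 8, 13, 15, 7, 23],
   [0, 18, 2, 21, 4, 5, 11, 12, 3, 9, 6, 10, 22, 17, 16, 13, 20, 15, 19, 1, 14, 8, 7, 23],
   [0, 19, 2, 8, 4, 5, 10, 22, 21, 9, 11, 6, 7, 15, 20, 17, 14, 13, 1, 18, 16, 3, 12, 23],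
   [0, 20, 2, 13, 4, 5, 10, 9, 16, 22, 11, 6, 12, 18, 19, 14, 17, 8, 3, 15, 21, 1, 7, 23],
   [0, 21, 2, 18, 4, 5, 11, 22, 17, 7, 6, 10, 12, 3, 15, 19, 8, 16, 13, 14, 1, 20, 9, 23],
   [0, 22, 2, 12, 4, 5, 11, 21, 19, 15, 6, 10, 18, 13, 7, 17, 1, 9, 3, 20, 8, 14, 16, 23]]

def prog6 : List Step :=
  [Step.oct 8391797, Step.pushAll, Step.bxor 0 1]

/-- transversal at level 7 -/
def U7 : List (List Nat) :=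
  [[0, 1, 2, 3, 4, 5, 6, 7, 8, 9, 10, 11, 12, 13, 14, 15, 16, 17, 18, 19, 20, 21, 22, 23],
   [0, 1, 2, 17, 4, 5, 10, 15, 7, 18, 11, 6, 21, 22, 3, 8, 13, 14, 19, 9, 12, 20, 16, 23],
   [0, 1, 2, 14, 4, 5, 11, 8, 15, 19, 6, 10, 20, 16, 17, 7, 22, 3, 9, 18, 21, 12, 13, 23]]

def prog7 : List Step :=
  [Step.oct 8391797, Step.pushF, Step.band 1 0, Step.bxor 2 0]

def progT : List Step :=
  [Step.pushAll, Step.pushF, Step.bxor 1 0, Step.oct 45159, Step.band 1 0, Step.bxor 2 0, Step.oct 786999, Step.band 1 0, Step.bxor 2 0, Step.oct 1065303, Step.band 1 0, Step.bxor 2 0, Step.oct 2162811, Step.band 1 0, Step.bxor 2 0, Step.oct 4325622, Step.band 1 0, Step.bxor 2 0, Step.oct 8421811, Step.band 14 0, Step.bxor 15 0, Step.band 10 2, Step.bxor 11 0, Step.band 6 4, Step.bxor 7 0, Step.fix 5,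 Step.fix 3, Step.fix 1, Step.oct 5279, Step.band 5 0, Step.bxor 6 0, Step.band 14 2, Step.bxor 15 0, Step.band 12 4, Step.bxor 13 0, Step.fix 5, Step.fix 4, Step.fix 3, Step.fix 1, Step.fix 0, Step.oct 18147, Step.band 25 0, Step.bxor 26 0, Step.band 12 2, Step.bxor 13 0, Step.fix 3, Step.fix 1, Step.fix 0, Step.oct 69395, Step.band 8 0, Step.bxor 9 0, Step.fix 1, Step.fix 0, Step.oct 133817, Step.band 16 0, Step.bxor 17 0, Step.fix 1, Step.fix 0, Step.oct 262637, Step.band 9 0, Step.bxor 10 0, Step.fix 1, Step.fix 0]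

set_option maxRecDepth 100000 in
theorem lv1 : levelCheck [] 23 U1 prog1 = true := by decide +kernel

set_option maxRecDepth 100000 in
theorem lv2 : levelCheck [23] 0 U2 prog2 = true := by decide +kernel

set_option maxRecDepth 100000 in
theorem lv3 : levelCheck [0, 23] 2 U3 prog3 = true := by decide +kernel

set_option maxRecDepth 100000 in
theorem lv4 : levelCheck [2, 0, 23] 4 U4 prog4 = true := by decide +kernel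

set_option maxRecDepth 100000 in
theorem lv5 : levelCheck [4, 2, 0, 23] 5 U5 prog5 = true := by decide +kernel

set_option maxRecDepth 100000 in
theorem lv6 : levelCheck [5, 4, 2, 0, 23] 1 U6 prog6 = true := by decide +kernel

set_option maxRecDepth 100000 in
theorem lv7 : levelCheck [1, 5, 4, 2, 0, 23] 6 U7 prog7 = true := by decide +kernel

set_option maxRecDepth 100000 in
theorem lvT : trivCheck [6, 1, 5, 4, 2, 0, 23] progT = true := by decide +kernel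

theorem card_Gfix7 : Nat.card (Gfix [6, 1, 5, 4, 2, 0, 23]) = 1 := by
  rw [triv_sound lvT]
  exact Subgroup.card_bot

theorem card_Gfix6 : Nat.card (Gfix [1, 5, 4, 2, 0, 23]) = 3 := by
  rw [(level_sound lv7).2.2, card_Gfix7]
  rfl

theorem card_Gfix5 : Nat.card (Gfix [5, 4, 2, 0, 23]) = 48 := by
  rw [(level_sound lv6).2.2, card_Gfix6]
  rfl

theorem card_Gfix4 : Nat.card (Gfix [4, 2, 0, 23]) = 960 := by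
  rw [(level_sound lv5).2.2, card_Gfix5]
  rfl

theorem card_Gfix3 : Nat.card (Gfix [2, 0, 23]) = 20160 := by
  rw [(level_sound lv4).2.2, card_Gfix4]
  rfl

theorem card_Gfix2 : Nat.card (Gfix [0, 23]) = 443520 := by
  rw [(level_sound lv3).2.2, card_Gfix3]
  rfl

theorem card_Gfix1 : Nat.card (Gfix [23]) = 10200960 := by
  rw [(level_sound lv2).2.2, card_Gfix2]
  rfl

theorem card_Gfix0 : Nat.card (Gfix []) = 244823040 := by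
  rw [(level_sound lv1).2.2, card_Gfix1]
  rfl

theorem card_M24 : Nat.card M24 = 244823040 := by
  rw [← Gfix_nil]
  exact card_Gfix0

end Golay
end Cfsg.Agent.Helper28
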