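import Mathlib
import Cfsg.Agent.Helper28.Prune

set_option autoImplicit false

namespace Cfsg.Agent.Helper28
namespace Golay

open Cfsg
open scoped Pointwise

/-! ### Pruned enumeration with a test on the partial products -/

/-- the products of transversal elements whose partial products pass the test -/
def pruneP (ok : List Nat → List Nat → Bool) : List Level → List Nat → List Nat →
    List (List Nat)
  | [], _, acc => [acc]
  | (b, U, _) :: rest, l, acc => U.flatMap fun T =>
      bif ok (b :: l) (comp acc T) then pruneP ok rest (b :: l) (comp acc T) else []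

/-- every element whose agreeing tables pass the test is listed -/
theorem pruneP_enum (Ms : List Nat) (ok : List Nat → List Nat → Bool) (g : Equiv.Perm GolayPt)
    (hg : ∀ (l : List Nat) (A : List Nat), isPerm A = true →
      (∀ i ∈ l, g (pt i) = permOf A (pt i)) → ok l A = true) :
    ∀ (ch : List Level) (l : List Nat),
    levelsOK Ms l ch = true → GS Ms (finalL l ch) = ⊥ →
    ∀ (acc : List Nat), isPerm acc = true → ∀ σ ∈ GS Ms l, g = permOf acc * σ →
    ∃ T ∈ pruneP ok ch l acc, isPerm T = true ∧ g = permOf T := by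
  intro ch
  induction ch with
  | nil =>
    intro l _ hfin acc hacc σ hσ e
    rw [finalL] at hfin
    rw [hfin, Subgroup.mem_bot] at hσ
    exact ⟨acc, List.mem_singleton.2 rfl, hacc, by rw [e, hσ, mul_one]⟩
  | cons lv rest ih =>
    intro l hok hfin acc hacc σ hσ e
    obtain ⟨b, U, p⟩ := lv
    rw [levelsOK, Bool.and_eq_true] at hok
    rw [finalL] at hfin
    obtain ⟨T, hT, hT1, -, -, hmem⟩ := sift2 hok.1 σ hσ
    have hTp := isPerm_of_inM24 hT1
    have hacc' := isPerm_comp hacc hTp
    have e1 : g = permOf (comp acc T) * ((permOf T)⁻¹ * σ) := by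
      rw [← permOf_mul hacc hTp, mul_assoc, mul_inv_cancel_left, e]
    obtain ⟨T', hT', hT1', hT2'⟩ := ih (b :: l) hok.2 hfin (comp acc T) hacc' _ hmem e1
    refine ⟨T', ?_, hT1', hT2'⟩
    rw [pruneP, List.mem_flatMap]
    refine ⟨T, hT, ?_⟩
    have htest : ok (b :: l) (comp acc T) = true := by
      refine hg (b :: l) (comp acc T) hacc' fun i hi => ?_
      rw [e1, Equiv.Perm.mul_apply, hmem.2.2 i hi]
    rw [htest]
    exact hT'

theorem mem_GS_nil_nil {σ : Equiv.Perm GolayPt} (hσ : σ ∈ M24) : σ ∈ GS [] [] :=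
  ⟨hσ, fun _ hm => absurd hm List.not_mem_nil, fun _ hi => absurd hi List.not_mem_nil⟩

/-- pruned enumeration in the group of the code -/
theorem pruneP_M24 (ok : List Nat → List Nat → Bool) (g : Equiv.Perm GolayPt) (hgM : g ∈ M24)
    (hg : ∀ (l : List Nat) (A : List Nat), isPerm A = true →
      (∀ i ∈ l, g (pt i) = permOf A (pt i)) → ok l A = true) :
    ∃ T ∈ pruneP ok chM [] idT, isPerm T = true ∧ g = permOf T :=
  pruneP_enum [] ok g hg chM [] lvM finM idT isPerm_idT g (mem_GS_nil_nil hgM)
    (by rw [permOf_idT, one_mul])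

end Golay
end Cfsg.Agent.Helper28
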