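import Mathlib
import Cfsg.Agent.Helper28.Prune2
import Cfsg.Agent.Helper28.TabMore

set_option autoImplicit false

namespace Cfsg.Agent.Helper28
namespace Golay

open Cfsg

/-! ### Pruned enumeration with tables packed in numbers -/

/-- a digit of a packed table -/
def dg (n i : Nat) : Nat := n / 32 ^ i % 32

/-- the table packed in a number -/
def decD (n : Nat) : List Nat := (List.range 24).map (dg n)

/-- packing of the first values of a function -/
def encF (f : Nat → Nat) : Nat → Nat
  | 0 => 0
  | k + 1 => encF f k + f k * 32 ^ k

theorem encF_lt (f : Nat → Nat) (hf : ∀ j, f j < 32) : ∀ n, encF f n < 32 ^ n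
  | 0 => by simp [encF]
  | n + 1 => by
    rw [encF, pow_succ]
    have h1 := encF_lt f hf n
    have h2 := hf n
    nlinarith

theorem dg_encF (f : Nat → Nat) (hf : ∀ j, f j < 32) : ∀ n i, i < n → dg (encF f n) i = f i
  | 0, i, h => absurd h (Nat.not_lt_zero _)
  | n + 1, i, h => by
    rw [encF, dg]
    rcases Nat.lt_succ_iff_lt_or_eq.1 h with h' | rfl
    · have ih := dg_encF f hf n i h'
      rw [dg] at ih
      have e : f n * 32 ^ n = f n * 32 ^ (n - i - 1) * 32 * 32 ^ i := by
        have e1 : (32 : ℕ) ^ n = 32 ^ (n - i - 1) * 32 * 32 ^ i := by
          rw [← pow_succ, ← pow_add]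
          congr 1
          omega
        rw [e1, mul_assoc, mul_assoc, mul_assoc]
      rw [e, Nat.add_mul_div_right _ _ (by positivity), Nat.add_mul_mod_self_right, ih]
    · rw [Nat.add_mul_div_right _ _ (by positivity), Nat.div_eq_of_lt (encF_lt f hf i), zero_add,
        Nat.mod_eq_of_lt (hf i)]

/-- composition of packed tables -/
def compD (a t : Nat) : Nat :=
  ((((((((((((((((((((((((0 + dg a (dg t 0) * 32 ^ 0) + dg a (dg t 1) * 32 ^ 1) + dg a (dg t 2) * 32 ^ 2) + dg a (dg t 3) * 32 ^ 3) + dg a (dg t 4) * 32 ^ 4) + dg a (dg t 5) * 32 ^ 5) + dg a (dg t 6) * 32 ^ 6) + dg a (dg t 7) * 32 ^ 7) + dg a (dg t 8) * 32 ^ 8) + dg a (dg t 9) * 32 ^ 9) + dg a (dg t 10) * 32 ^ 10) + dg a (dg t 11) * 32 ^ 11) + dg a (dg t 12) * 32 ^ 12) + dg a (dg t 13) * 32 ^ 13) + dg a (dg t 14) * 32 ^ 14) + dg a (dg t 15) * 32 ^ 15) + dg a (dg t 16) * 32 ^ 16) + dg a (dg t 17) * 32 ^ 17) + dg a (dg t 18) * 32 ^ 18) + dg a (dg t 19) * 32 ^ 19) + dg a (dg t 20) * 32 ^ 20) + dg a (dg t 21) * 32 ^ 21) + dg a (dg t 22) * 32 ^ 22) + dg a (dg t 23) * 32 ^ 23)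

theorem compD_eq (a t : Nat) : compD a t = encF (fun i => dg a (dg t i)) 24 := rfl

theorem dg_compD (a t : Nat) {i : Nat} (hi : i < 24) : dg (compD a t) i = dg a (dg t i) := by
  have h32 : ∀ j, (fun i => dg a (dg t i)) j < 32 := fun j => Nat.mod_lt _ (by norm_num)
  rw [compD_eq, dg_encF _ h32 24 i hi]

theorem tf_decD (n : Nat) {i : Nat} (hi : i < 24) : tf (decD n) i = dg n i := by
  rw [tf, decD, List.getD_eq_getElem?_getD, List.getElem?_map, List.getElem?_range hi]
  rfl

theorem decD_compD (a t : Nat) (ht : ∀ i < 24, dg t i < 24) :
    decD (compD a t) = comp (decD a) (decD t) := by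
  rw [decD, comp]
  apply List.map_congr_left
  intro i hi
  rw [List.mem_range] at hi
  rw [dg_compD a t hi, tf_decD t hi, tf_decD a (ht i hi)]

/-- the products of packed transversal elements whose partial products pass the test -/
def prunePF (ok : List Nat → (Nat → Nat) → Bool) :
    List (Nat × List Nat) → List Nat → Nat → List Nat
  | [], _, acc => [acc]
  | (b, U) :: rest, l, acc => U.flatMap fun t =>
      bif ok (b :: l) (fun i => dg acc (dg t i)) then prunePF ok rest (b :: l) (compD acc t)
      else []

theorem pruneP_packed (ok : List Nat → (Nat → Nat) → Bool)
    (hok : ∀ (l : List Nat) (f f' : Nat → Nat), (∀ i < 24, f i = f' i) → ok l f = ok l f') :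
    ∀ (ch : List Level) (chD : List (Nat × List Nat)),
      ch.map (fun lv => (lv.1, lv.2.1)) = chD.map (fun d => (d.1, d.2.map decD)) →
      (∀ d ∈ chD, ∀ t ∈ d.2, ∀ i < 24, dg t i < 24) →
      ∀ (l : List Nat) (a : Nat),
        pruneP (fun l A => ok l (tf A)) ch l (decD a) = (prunePF ok chD l a).map decD := by
  intro ch
  induction ch with
  | nil =>
    intro chD h _ l a
    cases chD with
    | nil => rfl
    | cons d r => simp at h
  | cons lv rest ih =>
    intro chD h hd l a
    cases chD with
    | nil => simp at h
    | cons d r =>
      obtain ⟨b, U, p⟩ := lv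
      obtain ⟨b', UD⟩ := d
      simp only [List.map_cons, List.cons.injEq, Prod.mk.injEq] at h
      obtain ⟨⟨rfl, rfl⟩, hr⟩ := h
      rw [pruneP, prunePF, List.flatMap_map, List.map_flatMap]
      apply List.flatMap_congr
      intro t ht
      have hdig := hd (b, UD) List.mem_cons_self t ht
      have e1 : ok (b :: l) (tf (comp (decD a) (decD t))) =
          ok (b :: l) (fun i => dg a (dg t i)) := by
        apply hok
        intro i hi
        rw [← decD_compD a t hdig, tf_decD _ hi, dg_compD a t hi]
      rw [e1, ← decD_compD a t hdig]
      cases hc : ok (b :: l) (fun i => dg a (dg t i)) with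
      | false => rfl
      | true =>
        exact ih r hr (fun d hd' => hd d (List.mem_cons_of_mem _ hd')) (b :: l) (compD a t)

/-- the packed first transversal of the group of the code -/
def U1D : List Nat :=
  [1795248432537898728475572672376535,
   44673570877212604306017735907225623,
   87551893321887283366365293184594999,
   130430215766561988943882167652005975,
   173308538211236694521424306190793847,
   216186860655884246491689968965664919,
   259065183100558952069232132176397495,
   296303252701496614645508509872527051,
   339181575144962394403436043932669964,
   398680003577220014816791465188141600,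
   434266168903020385066597320399887030,
   477144491347695089491217979027889856,
   520022813792369793915838637655891969,
   562901136209239204489322825265652770,
   605778547530044994874061158138226755,
   645267317966049346622286219446798688,
   688145640410724025682632677212540289,
   718267961499543993155408709344759264,
   761146283944218698732925582738428417,
   806695654897739482378722478313050400,
   849573977342387034348988141086872897,
   885535552053993010777501352989086454,
   928413874498667716355043516223936224,
   984818244535754528103549039458486304]

/-- the rest of the packed chain of the group of the code -/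
def chMD1 : List (Nat × List Nat) :=
  [(0, [984818244535754528103549039458486304, 956302485175575353788796878166559809, 956709441910203461498593497208492130, 958020233522794296771657265635857539, 959359269975321467281073132481517732, 960699189079096648266625002402749637, 962039135765723329579556122420093158, 963379083314314120277717844002940167, 964719030889841289394168021884709160, 966058978466210220336189714025819465, 967398926042605456335260515987534186, 968738873619001514367364102631142795, 970078821195397598087999963796060588, 971418768771793682611402458539769293, 972758716348189767159891410582815214, 974098663924585851709164314416465423, 975438611500981936258461716743572016, 976778559077378020807759884648599121, 978118506653774105357058076477936242, 979458454230170189906356269054908051, 980798401806566274455654461655243444, 982138349382962359004952654256308949, 983478296959358443554250846857397270]),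
   (2, [977864963184960973661438897150854272, 984818244535754528103549039458486304, 982209221711482302101473885277130240, 980275914351787324191492553553580224, 970574308284952786802486512642627168, 974380510768821363662145534143076928, 965813488207181497792728115432463456, 980668730378935070469623699575545984, 982945552743155205048692816444138624, 973741551487142494401510470401501568, 975504253578480169809641535974190176, 962588790636320930210487642771108256, 962298451038133363011374430748423744, 957424141744251910424602248738093312, 984063389122157159650906162630049088, 984573014673175146587997007573696576, 977005536390503327933922876158461216, 969952412052033243847481939299780672, 966031731502189023828302590489513184, 977615081907620525434737721835213056, 971057300647359574542403129775084800, 963237582334009209335625983005874560]),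
   (4, [981693352262464393809209123740715328, 970375376395725314471336254234593760, 984818244535754528103549039458486304, 957112183413842062675830593247611424, 957388543229258092100425285659527840, 982776103524128621356951308124653760, 962774741397267589783393368612735616, 979157633370516727685409341689006272, 965996107452153337524152189885712896, 984203415275677799973129407784356512, 962745695210654752874350167183624896, 959612829209797695212531331995175264, 969231871367403281950573413309712640, 957541920069699544286569050398067008, 970009672306831552638100195502393888, 968509316644409284819589518410812064, 963308657302534296118253004515903936, 966631101444149635815034362776455328, 974992628659846367764748031314364736, 963755665108038844989100794309871648, 968696921358338388646996244166805600]),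
   (5, [981808200837405421908575726183057632, 980874263505758083547117232440510912, 984818244535754528103549039458486304, 973678921055479004552170121881455072, 965994180206292524461076621539248224, 956972862627036839953660183703062944, 975604637061605366524866856300546432, 974992610422029361100545578900916672, 977793947333603426198278636279859840, 959481677163167956611219146204842656, 982895060226445428256370779064797440, 964740033840251462495030574581975584, 956905409827793069957805332769376672, 971416156038155856086182592990317024, 972708168791888830814910543986625216, 973982450769122691864734832030747008, 959740349222275260354024046420232864, 975125864638653316532013342319086176, 962581229191181186145255442794907840, 980259682757322681853392651003726272]),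
   (1, [984818244535754528103549039458486304, 967739223789245171407146504132003936, 978894270451901909369972511826282720, 967656670729492011672727504300902656, 983349016622781116695117332029344032, 974919991266605512837998275006761344, 984649721341103572187626156747000224, 971700361611140356443901154824849856, 971508549576594560772752239390886368, 984715473380882030354628301820496384, 965094429999691373696704173595626016, 964811470874821435800737691200031296, 971102204225145513702635166757030496, 964536925210284066185354948907534976, 967878425256593111082616792027826848, 976730654423727495857501450652748480]),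
   (6, [984818244535754528103549039458486304, 976978698201109872514653476119676960, 972771709591600271314490660250650656])]

/-- the packed chain of the group of the code -/
def chMD : List (Nat × List Nat) := (23, U1D) :: chMD1

theorem chMD_eq : chM.map (fun lv => (lv.1, lv.2.1)) = chMD.map (fun d => (d.1, d.2.map decD)) := by
  decide +kernel

theorem chMD_dig : (chMD.all fun d => d.2.all fun t => (List.range 24).all fun i =>
    Nat.blt (dg t i) 24) = true := by decide +kernel

/-- the packed identity -/
def idN : Nat := 984818244535754528103549039458486304

theorem idN_eq : decD idN = idT := by decide +kernel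

theorem pruneP_chM (ok : List Nat → (Nat → Nat) → Bool)
    (hok : ∀ (l : List Nat) (f f' : Nat → Nat), (∀ i < 24, f i = f' i) → ok l f = ok l f') :
    pruneP (fun l A => ok l (tf A)) chM [] idT = (prunePF ok chMD [] idN).map decD := by
  rw [← idN_eq]
  refine pruneP_packed ok hok chM chMD chMD_eq ?_ [] idN
  intro d hd t ht i hi
  have h := List.all_eq_true.1 (List.all_eq_true.1 (List.all_eq_true.1 chMD_dig d hd) t ht) i
    (List.mem_range.2 hi)
  rwa [Nat.blt_eq] at h

/-- the listed elements are products of transversal elements -/
theorem pruneP_mem2 (Ms : List Nat) (ok : List Nat → List Nat → Bool) :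
    ∀ (ch : List Level) (l : List Nat), levelsOK Ms l ch = true →
    ∀ (acc : List Nat), isPerm acc = true → permOf acc ∈ M24 → normT acc = true →
    ∀ T ∈ pruneP ok ch l acc, isPerm T = true ∧ permOf T ∈ M24 ∧ normT T = true := by
  intro ch
  induction ch with
  | nil =>
    intro l _ acc h1 h2 h3 T hT
    rw [pruneP, List.mem_singleton] at hT
    subst hT
    exact ⟨h1, h2, h3⟩
  | cons lv rest ih =>
    intro l hok acc h1 h2 _ T hT
    obtain ⟨b, U, p⟩ := lv
    rw [levelsOK, Bool.and_eq_true] at hok
    rw [pruneP, List.mem_flatMap] at hT
    obtain ⟨T1, hT1, hT⟩ := hT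
    obtain ⟨-, -, hU, -⟩ := level_sound2 hok.1
    obtain ⟨a1, -⟩ := hU T1 hT1
    cases hc : ok (b :: l) (comp acc T1) with
    | false =>
      rw [hc] at hT
      exact absurd hT List.not_mem_nil
    | true =>
      rw [hc] at hT
      refine ih (b :: l) hok.2 (comp acc T1) (isPerm_comp h1 (isPerm_of_inM24 a1)) ?_
        (normT_comp2 acc T1) T hT
      rw [← permOf_mul h1 (isPerm_of_inM24 a1)]
      exact mul_mem h2 (permOf_mem_M24 a1)

/-! ### The centraliser of an involution fixing the points of an octad -/

/-- the involution -/
def zT : List Nat :=
  [23, 22, 4, 3, 2, 6, 5, 17, 8, 9, 11, 10, 12, 16, 14, 15, 13, 7, 20, 19, 18, 21, 1, 0]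

/-- the packed involution -/
def zN : Nat := 2173530842235092426146829815616215

theorem zN_eq : decD zN = zT := by decide +kernel

theorem in_zT : inM24 zT = true := by decide +kernel

theorem zT_perm : isPerm zT = true := isPerm_of_inM24 in_zT

theorem zT_sq : comp zT zT = idT := by decide +kernel

theorem dg_zN {i : Nat} (hi : i < 24) : dg zN i = tf zT i := by
  rw [← zN_eq, tf_decD zN hi]

/-- one of the first two elements of the list is the given number -/
def hd2 (l : List Nat) (x : Nat) : Bool :=
  match l with
  | [] => false
  | c :: l' => Nat.beq c x || (match l' with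
    | [] => false
    | d :: _ => Nat.beq d x)

theorem hd2_mem {l : List Nat} {x : Nat} (h : hd2 l x = true) : x ∈ l := by
  match l, h with
  | [], h => exact absurd h (by simp [hd2])
  | [c], h =>
    simp only [hd2, Bool.or_false] at h
    rw [nbeq_iff] at h
    subst h
    exact List.mem_cons_self
  | c :: d :: l'', h =>
    simp only [hd2, Bool.or_eq_true] at h
    rcases h with h | h
    · rw [nbeq_iff] at h
      subst h
      exact List.mem_cons_self
    · rw [nbeq_iff] at h
      subst h
      exact List.mem_cons_of_mem _ List.mem_cons_self

/-- the test on partial products: the newest point -/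
def okZF : List Nat → (Nat → Nat) → Bool
  | [], _ => true
  | b :: l, f => !(Nat.blt b 24) ||
      ((Nat.beq (dg zN b) b == Nat.beq (dg zN (f b)) (f b)) &&
       (!(hd2 l (dg zN b)) || Nat.beq (f (dg zN b)) (dg zN (f b))))

theorem okZF_congr (l : List Nat) (f f' : Nat → Nat) (h : ∀ i < 24, f i = f' i) :
    okZF l f = okZF l f' := by
  cases l with
  | nil => rfl
  | cons b l =>
    rw [okZF, okZF]
    by_cases hb : b < 24
    · rw [h b hb, h (dg zN b) (by rw [dg_zN hb]; exact tf_lt zT_perm hb)]
    · have b1 : Nat.blt b 24 = false := by
        rw [← Bool.not_eq_true, Nat.blt_eq]; exact hb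
      rw [b1]
      rfl

theorem okZ_of_comm (g : Equiv.Perm GolayPt) (hc : g * permOf zT = permOf zT * g) :
    ∀ (l : List Nat) (A : List Nat), isPerm A = true →
      (∀ i ∈ l, g (pt i) = permOf A (pt i)) → okZF l (tf A) = true := by
  intro l A hA hl
  cases l with
  | nil => rfl
  | cons b l =>
    rw [okZF]
    by_cases hb : b < 24
    · have b1 : Nat.blt b 24 = true := by rw [Nat.blt_eq]; exact hb
      have hAb : tf A b < 24 := tf_lt hA hb
      have eA : tf A b = idx (g (pt b)) := by
        rw [hl b List.mem_cons_self, idx_permOf hA, idx_pt b hb]
      have hz : ∀ p, g (permOf zT p) = permOf zT (g p) := fun p => by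
        have h := congrArg (fun f : Equiv.Perm GolayPt => f p) hc
        exact h
      have hj : tf zT b < 24 := tf_lt zT_perm hb
      have e2 : idx (g (pt (tf zT b))) = tf zT (tf A b) := by
        rw [← permOf_pt zT_perm hb, hz, idx_permOf zT_perm, ← eA]
      rw [dg_zN hb, dg_zN hAb]
      have f1 : (Nat.beq (tf zT b) b == Nat.beq (tf zT (tf A b)) (tf A b)) = true := by
        rw [beq_iff_eq, Bool.eq_iff_iff, nbeq_iff, nbeq_iff]
        constructor
        · intro h
          rw [h] at e2
          rw [← e2, eA]
        · intro h
          rw [h, eA] at e2
          have h3 := g.injective (idx_injective e2)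
          have h4 := congrArg idx h3
          rwa [idx_pt _ hj, idx_pt _ hb] at h4
      have f2 : (!(hd2 l (tf zT b)) ||
          Nat.beq (tf A (tf zT b)) (tf zT (tf A b))) = true := by
        cases hcn : hd2 l (tf zT b) with
        | false => rfl
        | true =>
          have hmem : tf zT b ∈ b :: l := List.mem_cons_of_mem _ (hd2_mem hcn)
          have h5 := hl _ hmem
          rw [Bool.not_true, Bool.false_or, nbeq_iff, ← e2, h5, idx_permOf hA, idx_pt _ hj]
      rw [b1, f1, f2]
      rfl
    · have b1 : Nat.blt b 24 = false := by
        rw [← Bool.not_eq_true, Nat.blt_eq]; exact hb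
      rw [b1]
      rfl

/-- the packed elements of the centraliser -/
def CZN : List Nat := prunePF okZF chMD [] idN

/-- the elements of the centraliser -/
def CZ : List (List Nat) := CZN.map decD

theorem CZ_eq : pruneP (fun l A => okZF l (tf A)) chM [] idT = CZ :=
  pruneP_chM okZF okZF_congr

theorem CZ_enum (g : Equiv.Perm GolayPt) (hg : g ∈ M24)
    (hc : g * permOf zT = permOf zT * g) : ∃ T ∈ CZ, isPerm T = true ∧ g = permOf T := by
  rw [← CZ_eq]
  exact pruneP_M24 _ g hg (okZ_of_comm g hc)

theorem CZ_mem0 {T : List Nat} (hT : T ∈ CZ) :
    isPerm T = true ∧ permOf T ∈ M24 ∧ normT T = true := by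
  rw [← CZ_eq] at hT
  exact pruneP_mem2 [] _ chM [] lvM idT isPerm_idT (by rw [permOf_idT]; exact one_mem _)
    normT_idT T hT

/-- the part of the list of the elements with a given first transversal element -/
def partZ (t : Nat) : List Nat :=
  bif okZF [23] (fun i => dg idN (dg t i)) then prunePF okZF chMD1 [23] (compD idN t) else []

theorem CZN_eq : CZN = U1D.flatMap partZ := rfl

/-! ### The checks on the elements -/

/-- the packed table of the vectors of the points -/
def VN : Nat := 92192453654868121823834393493383363

/-- the vector of a point -/
def vN (q : Nat) : Nat := dg VN q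

/-- the image of a vector under the matrix with given columns -/
def mulV (c0 c1 c2 c3 c4 v : Nat) : Nat :=
  (bif v.testBit 0 then c0 else 0) ^^^ (bif v.testBit 1 then c1 else 0) ^^^
    (bif v.testBit 2 then c2 else 0) ^^^ (bif v.testBit 3 then c3 else 0) ^^^
    (bif v.testBit 4 then c4 else 0)

/-- the columns of the matrix of an element -/
def colN (n : Nat) : Nat → Nat
  | 0 => vN (dg n 0) ^^^ vN (dg n 23)
  | 1 => vN (dg n 23)
  | 2 => vN (dg n 1) ^^^ vN (dg n 23)
  | 3 => vN (dg n 2) ^^^ vN (dg n 23)
  | _ => vN (dg n 5) ^^^ vN (dg n 23)

/-- the points moved by the involution -/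
def pts16 : List Nat := [0, 1, 2, 4, 5, 6, 7, 10, 11, 13, 16, 17, 18, 20, 22, 23]

/-- the element acts on the moved points as its matrix -/
def affOK (n : Nat) : Bool :=
  pts16.all fun p => (vN (dg n p)).testBit 1 &&
    Nat.beq (vN (dg n p)) (mulV (colN n 0) (colN n 1) (colN n 2) (colN n 3) (colN n 4) (vN p))

/-- the key of an element -/
def keyN (n : Nat) : Nat := vN (dg n 1) + 32 * vN (dg n 2) + 1024 * vN (dg n 5)

/-- the checks on an element -/
def leafOK (n : Nat) : Bool := Nat.beq (compD n zN) (compD zN n) && affOK n

/-- the checks on a part of the list -/
def chk (d : Nat) : List Nat → Nat → Nat → Bool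
  | [], _, c => Nat.beq c 0
  | n :: r, m, c => Nat.beq (dg n 23) d && leafOK n && !(m.testBit (keyN n)) &&
      !(Nat.beq c 0) && chk d r (m ||| (1 <<< keyN n)) (c - 1)

theorem chk_sound (d : Nat) : ∀ (L : List Nat) (m c : Nat), chk d L m c = true →
    L.length = c ∧ (∀ n ∈ L, dg n 23 = d ∧ leafOK n = true ∧ m.testBit (keyN n) = false) ∧
      (L.map keyN).Nodup := by
  intro L
  induction L with
  | nil =>
    intro m c h
    rw [chk, nbeq_iff] at h
    exact ⟨h.symm, fun n hn => absurd hn List.not_mem_nil, List.nodup_nil⟩
  | cons n r ih =>
    intro m c h
    rw [chk] at h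
    simp only [Bool.and_eq_true] at h
    obtain ⟨⟨⟨⟨h1, h2⟩, h3⟩, h4⟩, h5⟩ := h
    obtain ⟨i1, i2, i3⟩ := ih _ _ h5
    have hc : c ≠ 0 := by
      intro h0
      rw [h0] at h4
      exact absurd h4 (by decide)
    have h3' : m.testBit (keyN n) = false := by
      cases hh : m.testBit (keyN n) with
      | false => rfl
      | true => rw [hh] at h3; exact absurd h3 (by decide)
    refine ⟨?_, ?_, ?_⟩
    · rw [List.length_cons, i1]
      omega
    · intro n' hn'
      rcases List.mem_cons.1 hn' with rfl | hn'
      · exact ⟨(nbeq_iff _ _).1 h1, h2, h3'⟩
      · obtain ⟨j1, j2, j3⟩ := i2 n' hn'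
        rw [Nat.testBit_or, Bool.or_eq_false_iff] at j3
        exact ⟨j1, j2, j3.1⟩
    · rw [List.map_cons, List.nodup_cons]
      refine ⟨?_, i3⟩
      intro hmem
      obtain ⟨n', hn', e⟩ := List.mem_map.1 hmem
      obtain ⟨-, -, j3⟩ := i2 n' hn'
      rw [Nat.testBit_or, Bool.or_eq_false_iff, e, Nat.one_shiftLeft,
        Nat.testBit_two_pow_self] at j3
      exact absurd j3.2 (by decide)

/-- the number of elements in a part -/
def cntZ (t : Nat) : Nat := bif Nat.beq (dg zN (dg t 23)) (dg t 23) then 0 else 1344

end Golay
end Cfsg.Agent.Helper28
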