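import Mathlib
import Cfsg.Agent.Helper28.GolayChain3
import Cfsg.Agent.Helper28.M24Trans

set_option autoImplicit false

namespace Cfsg.Agent.Helper28
namespace Golay

open Cfsg
open scoped Pointwise

/-- chain of the pointwise stabiliser of the points 23, 0, 2, 4 -/
def ch4 : List Level :=
  [(5,
    [[0, 7, 2, 6, 4, 1, 13, 15, 5, 10, 16, 22, 9, 17, 21, 8, 18, 19, 12, 3, 14, 11, 20, 23],
     [0, 14, 2, 17, 4, 3, 21, 22, 7, 18, 9, 8, 10, 15, 5, 6, 12, 1, 16, 11, 13, 20, 19, 23],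
     [0, 1, 2, 3, 4, 5, 6, 7, 8, 9, 10, 11, 12, 13, 14, 15, 16, 17, 18, 19, 20, 21, 22, 23],
     [0, 15, 2, 8, 4, 6, 11, 13, 21, 9, 10, 5, 18, 19, 17, 20, 12, 22, 16, 7, 1, 3, 14, 23],
     [0, 3, 2, 11, 4, 7, 17, 14, 6, 10, 18, 20, 16, 21, 13, 22, 9, 15, 12, 1, 19, 5, 8, 23],
     [0, 13, 2, 20, 4, 8, 3, 11, 17, 18, 9, 21, 12, 22, 19, 14, 16, 5, 10, 15, 6, 7, 1, 23],
     [0, 12, 2, 7, 4, 9, 8, 1, 17, 20, 3, 21, 10, 19, 5, 6, 14, 22, 13, 11, 16, 18, 15, 23],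
     [0, 14, 2, 8, 4, 10, 5, 1, 21, 9, 6, 11, 20, 12, 7, 18, 19, 16, 22, 17, 13, 3, 15, 23],
     [0, 20, 2, 21, 4, 11, 5, 19, 3, 9, 10, 6, 16, 7, 22, 1, 18, 14, 12, 13, 15, 8, 17, 23],
     [0, 21, 2, 10, 4, 12, 15, 16, 11, 6, 19, 14, 20, 8, 17, 7, 9, 13, 22, 18, 1, 5, 3, 23],
     [0, 8, 2, 5, 4, 13, 22, 17, 11, 10, 16, 1, 12, 3, 19, 14, 9, 20, 18, 15, 7, 6, 21, 23],
     [0, 17, 2, 5, 4, 14, 15, 8, 11, 10, 12, 19, 16, 20, 1, 13, 18, 3, 9, 22, 21, 6, 7, 23],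
     [0, 13, 2, 11, 4, 15, 19, 20, 6, 10, 12, 14, 9, 22, 3, 21, 16, 7, 18, 8, 17, 5, 1, 23],
     [0, 15, 2, 5, 4, 16, 13, 3, 10, 6, 22, 1, 20, 14, 18, 17, 19, 21, 9, 7, 8, 11, 12, 23],
     [0, 22, 2, 6, 4, 17, 20, 21, 5, 10, 18, 7, 12, 1, 15, 19, 16, 8, 9, 14, 3, 11, 13, 23],
     [0, 12, 2, 11, 4, 18, 17, 13, 5, 6, 20, 7, 9, 15, 8, 3, 19, 1, 22, 21, 16, 10, 14, 23],
     [0, 21, 2, 6, 4, 19, 14, 22, 5, 10, 12, 15, 18, 8, 7, 17, 9, 1, 16, 20, 13, 11, 3, 23],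
     [0, 19, 2, 5, 4, 20, 7, 1, 11, 10, 18, 17, 9, 14, 8, 3, 12, 13, 16, 21, 22, 6, 15, 23],
     [0, 6, 2, 7, 4, 21, 8, 15, 20, 18, 9, 3, 16, 11, 1, 13, 10, 19, 12, 22, 14, 17, 5, 23],
     [0, 14, 2, 11, 4, 22, 1, 3, 6, 10, 16, 13, 18, 15, 20, 7, 12, 21, 9, 17, 8, 5, 19, 23]],
    [Step.pushAll, Step.pushF, Step.bxor 1 0]),
   (1,
    [[0, 1, 2, 3, 4, 5, 6, 7, 8, 9, 10, 11, 12, 13, 14, 15, 16, 17, 18, 19, 20, 21, 22, 23],
     [0, 3, 2, 1, 4, 5, 6, 12, 13, 22, 10, 11, 7, 8, 17, 18, 21, 14, 15, 20, 19, 16, 9, 23],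
     [0, 7, 2, 9, 4, 5, 11, 15, 8, 21, 6, 10, 16, 20, 22, 1, 17, 12, 14, 13, 19, 3, 18, 23],
     [0, 8, 2, 19, 4, 5, 10, 7, 15, 12, 11, 6, 22, 21, 13, 1, 3, 20, 17, 16, 18, 14, 9, 23],
     [0, 9, 2, 7, 4, 5, 11, 16, 20, 18, 6, 10, 15, 8, 12, 14, 3, 22, 1, 19, 13, 17, 21, 23],
     [0, 12, 2, 22, 4, 5, 11, 18, 13, 16, 6, 10, 21, 19, 9, 3, 14, 7, 17, 8, 20, 1, 15, 23],
     [0, 13, 2, 20, 4, 5, 10, 12, 18, 7, 11, 6, 9, 16, 8, 3, 1, 19, 14, 21, 15, 17, 22, 23],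
     [0, 14, 2, 17, 4, 5, 6, 9, 20, 7, 10, 11, 22, 19, 1, 16, 15, 3, 21, 13, 8, 18, 12, 23],
     [0, 15, 2, 16, 4, 5, 11, 7, 1, 22, 6, 10, 9, 14, 21, 8, 19, 18, 20, 3, 17, 13, 12, 23],
     [0, 16, 2, 15, 4, 5, 11, 9, 14, 12, 6, 10, 7, 1, 18, 20, 13, 21, 8, 17, 3, 19, 22, 23],
     [0, 17, 2, 14, 4, 5, 6, 22, 19, 12, 10, 11, 9, 20, 3, 21, 18, 1, 16, 8, 13, 15, 7, 23],
     [0, 18, 2, 21, 4, 5, 11, 12, 3, 9, 6, 10, 22, 17, 16, 13, 20, 15, 19, 1, 14, 8, 7, 23],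
     [0, 19, 2, 8, 4, 5, 10, 22, 21, 9, 11, 6, 7, 15, 20, 17, 14, 13, 1, 18, 16, 3, 12, 23],
     [0, 20, 2, 13, 4, 5, 10, 9, 16, 22, 11, 6, 12, 18, 19, 14, 17, 8, 3, 15, 21, 1, 7, 23],
     [0, 21, 2, 18, 4, 5, 11, 22, 17, 7, 6, 10, 12, 3, 15, 19, 8, 16, 13, 14, 1, 20, 9, 23],
     [0, 22, 2, 12, 4, 5, 11, 21, 19, 15, 6, 10, 18, 13, 7, 17, 1, 9, 3, 20, 8, 14, 16, 23]],
    [Step.oct 8391797, Step.pushAll, Step.bxor 0 1]),
   (6,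
    [[0, 1, 2, 3, 4, 5, 6, 7, 8, 9, 10, 11, 12, 13, 14, 15, 16, 17, 18, 19, 20, 21, 22, 23],
     [0, 1, 2, 17, 4, 5, 10, 15, 7, 18, 11, 6, 21, 22, 3, 8, 13, 14, 19, 9, 12, 20, 16, 23],
     [0, 1, 2, 14, 4, 5, 11, 8, 15, 19, 6, 10, 20, 16, 17, 7, 22, 3, 9, 18, 21, 12, 13, 23]],
    [Step.oct 8391797, Step.pushF, Step.band 1 0, Step.bxor 2 0])]

def progT4 : List Step :=
  [Step.pushAll, Step.pushF, Step.bxor 1 0, Step.oct 45159, Step.band 1 0, Step.bxor 2 0, Step.oct 786999, Step.band 1 0, Step.bxor 2 0, Step.oct 1065303, Step.band 1 0, Step.bxor 2 0, Step.oct 2162811, Step.band 1 0, Step.bxor 2 0, Step.oct 4325622, Step.band 1 0, Step.bxor 2 0, Step.oct 8421811, Step.band 14 0, Step.bxor 15 0, Step.band 10 2, Step.bxor 11 0, Step.band 6 4, Step.bxor 7 0, Step.fix 5, Step.fix 3, Step.fix 1, Step.oct 5279, Step.band 5 0, Step.bxor 6 0, Step.band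 14 2, Step.bxor 15 0, Step.band 12 4, Step.bxor 13 0, Step.fix 5, Step.fix 4, Step.fix 3, Step.fix 1, Step.fix 0, Step.oct 18147, Step.band 25 0, Step.bxor 26 0, Step.band 12 2, Step.bxor 13 0, Step.fix 3, Step.fix 1, Step.fix 0, Step.oct 69395, Step.band 8 0, Step.bxor 9 0, Step.fix 1, Step.fix 0, Step.oct 133817, Step.band 16 0, Step.bxor 17 0, Step.fix 1, Step.fix 0, Step.oct 262637, Step.band 9 0, Step.bxor 10 0, Step.fix 1, Step.fix 0]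

def G1T : List Nat := [23, 9, 4, 20, 2, 16, 13, 19, 17, 18, 22, 1, 6, 3, 5, 11, 21, 14, 12, 10, 15, 7, 8, 0]

def G2T : List Nat := [23, 17, 2, 12, 4, 10, 5, 3, 15, 19, 11, 6, 22, 20, 13, 16, 7, 21, 8, 1, 9, 14, 18, 0]

def G3T : List Nat := [2, 13, 23, 7, 5, 11, 6, 18, 22, 12, 10, 4, 1, 20, 3, 17, 19, 15, 16, 14, 21, 9, 8, 0]

def G3bT : List Nat := [2, 14, 23, 13, 4, 9, 8, 10, 22, 1, 3, 21, 20, 12, 18, 17, 19, 6, 11, 7, 5, 16, 15, 0]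

def t8T : List Nat := [23, 22, 4, 3, 2, 6, 5, 17, 8, 9, 11, 10, 12, 16, 14, 15, 13, 7, 20, 19, 18, 21, 1, 0]

def t0T : List Nat := [23, 13, 4, 10, 2, 9, 8, 14, 6, 5, 3, 21, 20, 1, 7, 18, 22, 19, 15, 17, 12, 11, 16, 0]

def r6T : List Nat := [2, 1, 23, 18, 5, 11, 6, 7, 16, 15, 10, 4, 13, 17, 8, 20, 14, 12, 22, 19, 9, 21, 3, 0]

def r0T : List Nat := [2, 6, 23, 14, 5, 13, 8, 15, 1, 3, 20, 19, 7, 4, 9, 12, 10, 18, 21, 22, 16, 17, 11, 0]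

def F8 : Nat := 2675464

def F6 : Nat := 2622658

set_option maxRecDepth 100000 in
def certsI : List (List Nat) :=
  [[],
   [],
   [],
   [],
   [],
   [0, 1, 2, 3, 4, 5, 6, 7, 8, 9, 10, 11, 12, 13, 14, 15, 16, 17, 18, 19, 20, 21, 22, 23],
   [],
   [],
   [],
   [],
   [],
   [],
   [],
   [],
   [],
   [],
   [],
   [],
   [],
   [],
   [],
   [],
   [],
   [],
   [],
   [9, 2, 19, 1, 17, 0, 13, 6, 20, 23, 14, 12, 15, 22, 18, 21, 8, 4, 16, 11, 10, 7, 3, 5],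
   [],
   [],
   [],
   [],
   [],
   [],
   [],
   [],
   [],
   [],
   [],
   [],
   [],
   [],
   [],
   [],
   [],
   [],
   [],
   [],
   [],
   [5, 17, 16, 20, 22, 8, 14, 2, 3, 6, 10, 12, 23, 15, 13, 19, 0, 11, 21, 18, 4, 7, 1, 9],
   [],
   [],
   [],
   [],
   [],
   [],
   [],
   [],
   [],
   [],
   [],
   [],
   [],
   [],
   [],
   [],
   [],
   [5, 11, 6, 19, 8, 2, 16, 0, 14, 20, 1, 23, 17, 3, 7, 15, 10, 13, 22, 12, 4, 18, 21, 9],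
   [],
   [],
   [],
   [],
   [],
   [],
   [],
   [],
   [],
   [],
   [],
   [],
   [],
   [],
   [],
   [],
   [],
   [],
   [],
   [],
   [],
   [],
   [],
   [6, 15, 22, 18, 16, 20, 23, 0, 5, 21, 13, 14, 3, 11, 4, 10, 9, 7, 1, 2, 12, 17, 19, 8],
   [19, 7, 8, 18, 6, 5, 1, 21, 3, 10, 11, 0, 12, 2, 4, 14, 16, 13, 23, 22, 9, 15, 20, 17],
   [],
   [],
   [],
   [],
   [],
   [],
   [],
   [],
   [],
   [],
   [],
   [],
   [],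
   [],
   [],
   [],
   [],
   [],
   [],
   [],
   [0, 16, 9, 13, 5, 12, 22, 10, 1, 11, 2, 7, 3, 4, 15, 19, 20, 8, 18, 6, 17, 21, 14, 23],
   [],
   [],
   [],
   [],
   [],
   [],
   [],
   [],
   [],
   [21, 8, 20, 19, 12, 1, 0, 5, 15, 22, 10, 6, 17, 23, 2, 16, 13, 9, 14, 18, 7, 4, 3, 11],
   [],
   [],
   [],
   [],
   [],
   [],
   [],
   [],
   [],
   [],
   [0, 6, 4, 14, 2, 3, 21, 20, 12, 19, 8, 9, 1, 5, 22, 16, 10, 7, 17, 13, 18, 15, 11, 23],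
   [],
   [],
   [],
   [],
   [],
   [],
   [],
   [],
   [],
   [],
   [],
   [],
   [2, 3, 12, 14, 20, 6, 17, 11, 7, 16, 15, 10, 1, 8, 5, 21, 18, 9, 0, 23, 13, 22, 19, 4],
   [],
   [],
   [],
   [],
   [],
   [],
   [],
   [],
   [],
   [],
   [],
   [],
   [],
   [],
   [],
   [],
   [],
   [3, 1, 18, 7, 15, 21, 9, 8, 20, 16, 13, 23, 12, 11, 22, 4, 5, 6, 17, 14, 19, 2, 0, 10],
   [],
   [],
   [],
   [],
   [],
   [],
   [],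
   [],
   [9, 19, 10, 23, 3, 14, 17, 16, 1, 22, 20, 15, 8, 7, 21, 11, 18, 2, 13, 6, 0, 4, 12, 5],
   [],
   [],
   [],
   [],
   [],
   [],
   [],
   [],
   [],
   [],
   [],
   [],
   [],
   [],
   [],
   [],
   [],
   [],
   [],
   [],
   [],
   [],
   [],
   [],
   [],
   [],
   [],
   [],
   [],
   [],
   [],
   [],
   [],
   [],
   [],
   [],
   [],
   [],
   [11, 16, 1, 5, 13, 15, 19, 22, 23, 9, 6, 3, 10, 20, 8, 17, 4, 12, 2, 18, 7, 0, 14, 21],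
   [],
   [],
   [4, 1, 18, 13, 15, 12, 11, 22, 8, 0, 5, 7, 21, 3, 14, 9, 23, 17, 16, 20, 19, 10, 6, 2],
   [],
   [],
   [],
   [],
   [],
   [],
   [],
   [],
   [],
   [],
   [],
   [],
   [],
   [],
   [],
   [],
   [],
   [],
   [],
   [],
   [16, 2, 14, 10, 7, 13, 11, 8, 15, 6, 0, 9, 23, 12, 21, 5, 4, 18, 3, 1, 19, 17, 20, 22],
   [],
   [],
   [],
   [],
   [],
   [],
   [],
   [],
   [],
   [],
   [],
   [],
   [],
   [],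
   [],
   [],
   [],
   [],
   [],
   [],
   [],
   [],
   [],
   [],
   [],
   [],
   [],
   [],
   [],
   [],
   [],
   [],
   [],
   [8, 2, 11, 22, 21, 20, 17, 18, 23, 1, 15, 14, 3, 0, 5, 10, 13, 12, 19, 9, 7, 4, 16, 6],
   [],
   [],
   [],
   [7, 4, 22, 18, 16, 11, 9, 5, 8, 3, 0, 13, 10, 12, 17, 6, 20, 21, 1, 15, 23, 19, 2, 14],
   [],
   [],
   [],
   [],
   [],
   [],
   [],
   [],
   [],
   [19, 22, 14, 12, 7, 8, 9, 21, 15, 18, 10, 11, 0, 23, 4, 1, 13, 6, 3, 16, 5, 20, 2, 17],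
   [],
   [],
   [],
   [],
   [],
   [],
   [],
   [],
   [],
   [],
   [],
   [],
   [],
   [],
   [19, 10, 23, 13, 0, 11, 2, 4, 18, 15, 9, 16, 7, 20, 3, 12, 14, 5, 21, 8, 22, 1, 6, 17],
   [],
   [],
   [],
   [],
   [],
   [],
   [16, 4, 18, 10, 15, 7, 12, 11, 1, 23, 21, 9, 6, 17, 0, 3, 19, 5, 14, 13, 20, 8, 2, 22],
   [],
   [],
   [],
   [],
   [],
   [],
   [],
   [],
   [],
   [],
   [],
   [],
   [1, 7, 8, 11, 6, 16, 17, 2, 14, 12, 15, 4, 10, 5, 23, 3, 21, 19, 22, 0, 18, 9, 20, 13],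
   [],
   [],
   [],
   [],
   [],
   [],
   [],
   [],
   [],
   [],
   [],
   [],
   [],
   [],
   [],
   [],
   [],
   [],
   [],
   [],
   [],
   [],
   [],
   [],
   [],
   [],
   [],
   [],
   [],
   [],
   [],
   [],
   [],
   [],
   [],
   [],
   [17, 2, 0, 12, 23, 22, 4, 13, 7, 8, 21, 5, 10, 9, 20, 14, 11, 1, 15, 6, 18, 3, 16, 19],
   [],
   [],
   [],
   [],
   [],
   [],
   [],
   [],
   [],
   [14, 13, 22, 12, 16, 5, 23, 19, 20, 4, 1, 21, 15, 0, 6, 10, 11, 18, 3, 17, 8, 2, 9, 7],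
   [],
   [],
   [],
   [],
   [],
   [],
   [],
   [],
   [],
   [],
   [],
   [],
   [],
   [],
   [],
   [],
   [20, 18, 2, 1, 4, 6, 17, 11, 23, 5, 10, 15, 22, 3, 7, 14, 19, 9, 13, 16, 0, 21, 8, 12],
   [],
   [],
   [],
   [],
   [],
   [],
   [],
   [],
   [],
   [],
   [],
   [],
   [],
   [],
   [],
   [],
   [],
   [],
   [],
   [],
   [],
   [],
   [],
   [],
   [],
   [],
   [],
   [],
   [],
   [],
   [],
   [22, 8, 7, 12, 14, 6, 17, 23, 20, 2, 15, 10, 11, 3, 0, 13, 19, 1, 21, 9, 5, 4, 18, 16],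
   [10, 20, 18, 23, 15, 12, 14, 19, 13, 9, 4, 22, 5, 2, 1, 0, 16, 17, 8, 11, 6, 21, 7, 3],
   [12, 23, 3, 16, 10, 0, 19, 22, 4, 11, 13, 15, 7, 17, 6, 8, 1, 2, 9, 14, 21, 5, 18, 20],
   [],
   [],
   [],
   [],
   [],
   [],
   [],
   [],
   [],
   [],
   [],
   [],
   [],
   [],
   [],
   [],
   [],
   [1, 14, 2, 9, 4, 22, 16, 7, 10, 21, 23, 0, 11, 17, 5, 8, 18, 20, 19, 3, 15, 6, 12, 13],
   [],
   [],
   [0, 1, 2, 3, 4, 5, 6, 7, 8, 9, 10, 11, 12, 13, 14, 15, 16, 17, 18, 19, 20, 21, 22, 23],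
   [],
   [],
   [],
   [],
   [2, 12, 13, 10, 16, 5, 6, 8, 17, 11, 20, 18, 1, 15, 22, 0, 21, 19, 14, 23, 9, 7, 3, 4],
   [],
   [8, 19, 10, 2, 3, 12, 20, 13, 16, 22, 7, 14, 21, 17, 9, 5, 18, 0, 1, 11, 23, 4, 15, 6],
   [],
   [],
   [],
   [],
   [],
   [],
   [19, 3, 7, 22, 14, 20, 12, 8, 13, 2, 18, 15, 16, 21, 4, 1, 5, 10, 9, 0, 11, 23, 6, 17],
   [],
   [],
   [],
   [],
   [],
   [],
   [],
   [17, 23, 2, 12, 4, 18, 15, 3, 9, 7, 22, 16, 11, 10, 5, 14, 8, 6, 0, 20, 13, 21, 1, 19],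
   [],
   [],
   [],
   [],
   [],
   [],
   [],
   [],
   [],
   [],
   [],
   [],
   [],
   [],
   [1, 3, 23, 9, 0, 19, 17, 7, 5, 11, 18, 15, 16, 6, 2, 22, 10, 12, 20, 4, 14, 21, 8, 13],
   [],
   [],
   [4, 0, 3, 5, 10, 22, 16, 14, 17, 21, 8, 6, 19, 12, 15, 9, 7, 20, 13, 11, 23, 18, 1, 2],
   [],
   [],
   [],
   [],
   [],
   [],
   [],
   [],
   [],
   [],
   [],
   [],
   [],
   [],
   [],
   [],
   [],
   [],
   [],
   [],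
   [],
   [],
   [],
   [],
   [],
   [],
   [],
   [],
   [],
   [9, 3, 19, 23, 17, 0, 13, 4, 7, 1, 14, 12, 18, 8, 15, 11, 22, 6, 10, 21, 16, 20, 2, 5],
   [],
   [],
   [],
   [],
   [],
   [],
   [17, 11, 4, 1, 2, 13, 6, 15, 8, 10, 0, 3, 21, 5, 9, 12, 20, 22, 16, 7, 18, 23, 14, 19],
   [],
   [],
   [],
   [],
   [],
   [],
   [],
   [],
   [],
   [20, 9, 21, 8, 11, 6, 0, 19, 3, 13, 1, 10, 2, 5, 16, 17, 7, 4, 22, 18, 15, 23, 14, 12],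
   [],
   [],
   [],
   [],
   [],
   [],
   [],
   [7, 23, 10, 18, 11, 19, 14, 4, 6, 20, 8, 9, 3, 1, 21, 15, 0, 16, 2, 12, 13, 5, 22, 17],
   [],
   [],
   [],
   [],
   [13, 8, 23, 5, 0, 21, 3, 2, 6, 7, 19, 14, 20, 12, 10, 11, 15, 4, 22, 18, 1, 17, 9, 16],
   [],
   [],
   [],
   [],
   [0, 13, 17, 20, 7, 9, 15, 19, 4, 2, 21, 14, 11, 6, 22, 10, 5, 3, 8, 1, 12, 18, 16, 23],
   [],
   [],
   [],
   [],
   [],
   [],
   [],
   [],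
   [],
   [],
   [],
   [],
   [],
   [],
   [],
   [],
   [],
   [],
   [],
   [],
   [],
   [],
   [],
   [],
   [],
   [],
   [],
   [],
   [],
   [2, 18, 1, 19, 22, 9, 12, 13, 3, 21, 8, 15, 6, 20, 5, 7, 11, 0, 23, 17, 16, 14, 10, 4],
   [],
   [],
   [],
   [20, 15, 4, 18, 2, 16, 7, 9, 19, 8, 14, 22, 21, 17, 1, 5, 10, 0, 11, 23, 13, 3, 6, 12],
   [],
   [],
   [13, 14, 23, 15, 0, 4, 1, 10, 12, 8, 22, 2, 5, 19, 7, 6, 3, 18, 11, 17, 20, 9, 21, 16],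
   [],
   [],
   [],
   [],
   [],
   [],
   [],
   [10, 1, 7, 20, 17, 13, 4, 21, 18, 6, 2, 16, 14, 22, 9, 8, 0, 3, 12, 19, 15, 5, 23, 11],
   [],
   [23, 9, 1, 17, 13, 12, 7, 16, 15, 19, 14, 20, 10, 21, 6, 8, 11, 4, 2, 3, 22, 18, 5, 0],
   [],
   [],
   [],
   [],
   [],
   [],
   [8, 12, 21, 14, 11, 5, 3, 2, 20, 15, 10, 9, 4, 7, 23, 22, 18, 0, 16, 1, 13, 17, 19, 6],
   [],
   [],
   [],
   [],
   [],
   [],
   [],
   [18, 0, 8, 11, 6, 17, 3, 14, 5, 13, 10, 19, 22, 1, 7, 4, 21, 16, 12, 20, 2, 23, 9, 15],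
   [],
   [],
   [],
   [],
   [],
   [],
   [],
   [],
   [],
   [],
   [],
   [],
   [],
   [],
   [6, 12, 3, 21, 10, 1, 0, 4, 5, 9, 23, 13, 19, 14, 17, 18, 20, 2, 16, 15, 22, 11, 7, 8],
   [],
   [],
   [16, 0, 19, 6, 17, 2, 18, 21, 3, 23, 15, 4, 12, 13, 5, 7, 10, 14, 9, 11, 20, 1, 8, 22],
   [],
   [],
   [],
   [],
   [],
   [],
   [],
   [],
   [],
   [],
   [],
   [],
   [],
   [],
   [15, 19, 14, 1, 7, 4, 13, 3, 0, 22, 23, 16, 10, 17, 8, 21, 20, 11, 9, 5, 6, 2, 12, 18],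
   [],
   [],
   [],
   [],
   [],
   [],
   [],
   [],
   [],
   [],
   [10, 17, 4, 20, 2, 7, 1, 6, 23, 13, 12, 0, 15, 18, 19, 9, 21, 22, 16, 11, 8, 14, 5, 3],
   [],
   [],
   [],
   [],
   [],
   [],
   [12, 0, 2, 15, 4, 8, 3, 23, 10, 17, 19, 18, 14, 13, 7, 22, 11, 21, 5, 16, 1, 6, 9, 20],
   [],
   [],
   [],
   [],
   [],
   [],
   [],
   [],
   [],
   [],
   [],
   [],
   [],
   [],
   [],
   [],
   [],
   [],
   [],
   [],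
   [],
   [],
   [],
   [],
   [],
   [],
   [16, 1, 0, 14, 23, 10, 9, 15, 18, 12, 6, 21, 11, 4, 3, 8, 13, 20, 19, 5, 7, 17, 2, 22],
   [],
   [],
   [],
   [],
   [],
   [],
   [],
   [],
   [],
   [13, 3, 18, 6, 15, 9, 2, 0, 14, 10, 16, 11, 22, 7, 5, 4, 8, 17, 23, 21, 19, 20, 12, 1],
   [],
   [],
   [],
   [],
   [],
   [],
   [],
   [],
   [],
   [],
   [],
   [],
   [],
   [],
   [],
   [],
   [],
   [],
   [21, 6, 19, 15, 17, 1, 23, 16, 9, 18, 12, 14, 0, 2, 13, 7, 10, 3, 4, 20, 8, 5, 22, 11],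
   [],
   [],
   [],
   [],
   [],
   [],
   [],
   [],
   [],
   [],
   [],
   [],
   [],
   [],
   [],
   [],
   [],
   [2, 16, 23, 17, 0, 21, 3, 19, 20, 18, 9, 8, 11, 1, 6, 10, 22, 14, 15, 5, 12, 7, 13, 4],
   [],
   [],
   [],
   [],
   [],
   [],
   [],
   [],
   [],
   [],
   [],
   [4, 23, 9, 21, 5, 8, 10, 18, 22, 11, 7, 20, 6, 15, 3, 14, 13, 0, 19, 12, 1, 16, 17, 2],
   [],
   [],
   [],
   [],
   [],
   [],
   [],
   [],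
   [],
   [],
   [],
   [0, 19, 22, 14, 16, 9, 10, 2, 17, 12, 6, 21, 5, 20, 8, 11, 15, 1, 4, 3, 13, 18, 7, 23],
   [],
   [],
   [],
   [],
   [],
   [],
   [],
   [],
   [],
   [],
   [],
   [],
   [],
   [],
   [],
   [],
   [],
   [],
   [],
   [4, 11, 22, 13, 16, 15, 19, 8, 23, 1, 18, 17, 12, 21, 14, 20, 5, 6, 3, 7, 10, 0, 9, 2],
   [],
   [],
   [],
   [],
   [0, 6, 4, 12, 2, 1, 13, 21, 19, 14, 22, 16, 18, 11, 17, 7, 5, 9, 8, 20, 3, 15, 10, 23],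
   [],
   [19, 13, 15, 10, 18, 21, 5, 22, 3, 8, 11, 9, 7, 23, 14, 12, 0, 4, 16, 20, 2, 6, 1, 17],
   [],
   [],
   [17, 5, 6, 12, 8, 18, 3, 7, 4, 22, 15, 10, 9, 1, 23, 13, 11, 2, 16, 21, 20, 14, 0, 19],
   [],
   [],
   [],
   [],
   [],
   [],
   [],
   [13, 15, 6, 7, 8, 23, 10, 14, 21, 5, 0, 3, 19, 16, 22, 2, 17, 9, 11, 18, 12, 20, 4, 1],
   [9, 17, 1, 7, 13, 23, 11, 2, 4, 16, 0, 21, 8, 3, 19, 15, 18, 20, 14, 10, 22, 12, 6, 5],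
   [],
   [],
   [],
   [],
   [],
   [],
   [],
   [],
   [],
   [],
   [],
   [],
   [9, 12, 13, 19, 1, 0, 11, 3, 8, 10, 23, 21, 2, 4, 14, 20, 7, 17, 18, 22, 6, 15, 16, 5],
   [],
   [],
   [],
   [],
   [20, 12, 23, 11, 0, 6, 1, 17, 13, 16, 5, 22, 15, 19, 14, 8, 21, 4, 2, 3, 7, 10, 9, 18],
   [],
   [],
   [],
   [],
   [],
   [],
   [],
   [],
   [],
   [14, 5, 21, 2, 11, 0, 8, 18, 19, 16, 1, 3, 6, 12, 13, 23, 9, 4, 17, 10, 22, 15, 20, 7],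
   [],
   [],
   [],
   [],
   [],
   [],
   [],
   [],
   [],
   [],
   [],
   [17, 7, 2, 18, 4, 3, 6, 20, 22, 15, 0, 13, 23, 9, 1, 10, 12, 11, 14, 8, 5, 16, 21, 19],
   [],
   [],
   [],
   [],
   [],
   [],
   [],
   [],
   [],
   [],
   [],
   [],
   [],
   [],
   [],
   [],
   [9, 14, 0, 22, 23, 18, 10, 1, 12, 2, 8, 17, 19, 16, 3, 15, 20, 21, 13, 6, 11, 7, 4, 5],
   [],
   [],
   [],
   [],
   [],
   [],
   [],
   [],
   [],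
   [],
   [],
   [],
   [],
   [],
   [],
   [],
   [],
   [],
   [],
   [],
   [],
   [],
   [],
   [],
   [],
   [],
   [],
   [],
   [8, 19, 14, 10, 7, 21, 2, 11, 12, 20, 9, 22, 17, 0, 1, 18, 13, 16, 4, 23, 5, 3, 15, 6],
   [],
   [],
   [],
   [],
   [],
   [],
   [],
   [],
   [7, 23, 16, 9, 22, 19, 3, 17, 13, 0, 8, 18, 4, 5, 12, 2, 21, 6, 15, 20, 10, 11, 1, 14],
   [],
   [],
   [],
   [],
   [2, 5, 21, 3, 11, 17, 15, 19, 20, 7, 0, 1, 12, 22, 10, 14, 16, 18, 23, 8, 13, 6, 9, 4],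
   [],
   [],
   [],
   [],
   [],
   [],
   [],
   [],
   [],
   [],
   [],
   [],
   [],
   [],
   [],
   [],
   [],
   [],
   [],
   [],
   [],
   [],
   [],
   [],
   [],
   [],
   [],
   [10, 20, 5, 2, 9, 1, 23, 7, 13, 16, 4, 22, 8, 14, 6, 11, 15, 19, 18, 21, 12, 0, 17, 3],
   [],
   [],
   [1, 5, 21, 4, 11, 22, 12, 10, 16, 20, 7, 2, 19, 9, 15, 6, 0, 18, 17, 3, 8, 14, 23, 13],
   [],
   [],
   [],
   [],
   [],
   [],
   [],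
   [],
   [],
   [],
   [],
   [],
   [5, 20, 13, 3, 1, 19, 10, 23, 17, 18, 15, 8, 16, 14, 4, 7, 2, 21, 11, 12, 0, 6, 22, 9],
   [],
   [],
   [],
   [],
   [],
   [],
   [],
   [],
   [],
   [],
   [],
   [],
   [],
   [],
   [],
   [],
   [],
   [],
   [],
   [],
   [],
   [],
   []]

set_option maxRecDepth 100000 in
def certsT : List (List Nat) :=
  [[],
   [],
   [],
   [],
   [],
   [0, 1, 2, 3, 4, 5, 6, 7, 8, 9, 10, 11, 12, 13, 14, 15, 16, 17, 18, 19, 20, 21, 22, 23],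
   [],
   [],
   [],
   [12, 0, 7, 14, 4, 5, 11, 9, 21, 6, 18, 2, 8, 13, 16, 10, 22, 3, 20, 19, 23, 1, 17, 15],
   [],
   [],
   [],
   [21, 5, 17, 9, 7, 15, 2, 10, 8, 20, 13, 6, 22, 12, 11, 14, 1, 19, 16, 4, 23, 3, 0, 18],
   [],
   [],
   [],
   [],
   [],
   [],
   [],
   [],
   [],
   [],
   [],
   [],
   [],
   [],
   [],
   [],
   [],
   [],
   [],
   [],
   [],
   [],
   [],
   [],
   [],
   [],
   [],
   [],
   [],
   [],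
   [],
   [],
   [],
   [],
   [],
   [],
   [],
   [],
   [],
   [],
   [],
   [],
   [],
   [],
   [],
   [],
   [],
   [],
   [],
   [],
   [],
   [],
   [],
   [],
   [],
   [],
   [],
   [],
   [],
   [],
   [],
   [],
   [],
   [],
   [],
   [],
   [9, 11, 3, 17, 5, 13, 8, 4, 10, 15, 7, 23, 0, 19, 21, 18, 16, 2, 12, 22, 6, 20, 1, 14],
   [],
   [],
   [],
   [],
   [],
   [],
   [],
   [],
   [],
   [],
   [0, 18, 2, 17, 10, 20, 15, 16, 13, 12, 1, 9, 6, 19, 4, 11, 22, 7, 14, 5, 8, 21, 3, 23],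
   [],
   [],
   [],
   [3, 20, 14, 13, 15, 12, 19, 7, 4, 1, 21, 8, 22, 5, 16, 23, 10, 18, 11, 2, 6, 0, 17, 9],
   [],
   [],
   [],
   [],
   [],
   [],
   [],
   [],
   [],
   [],
   [],
   [],
   [],
   [],
   [],
   [],
   [0, 1, 2, 3, 4, 5, 6, 7, 8, 9, 10, 11, 12, 13, 14, 15, 16, 17, 18, 19, 20, 21, 22, 23],
   [],
   [],
   [],
   [18, 20, 22, 23, 11, 4, 6, 17, 13, 1, 19, 5, 8, 7, 21, 15, 12, 16, 10, 2, 9, 14, 0, 3],
   [],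
   [],
   [],
   [],
   [],
   [],
   [],
   [],
   [],
   [18, 4, 22, 10, 9, 15, 1, 8, 16, 11, 19, 20, 21, 13, 14, 5, 7, 12, 23, 0, 6, 17, 2, 3],
   [],
   [],
   [],
   [],
   [],
   [],
   [],
   [],
   [],
   [],
   [],
   [],
   [9, 11, 15, 8, 17, 12, 21, 3, 19, 4, 1, 13, 23, 2, 18, 6, 22, 10, 14, 16, 5, 0, 7, 20],
   [],
   [],
   [],
   [],
   [],
   [],
   [],
   [],
   [],
   [],
   [],
   [],
   [],
   [],
   [],
   [],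
   [],
   [3, 8, 18, 10, 12, 13, 17, 0, 14, 15, 21, 19, 16, 23, 5, 2, 9, 20, 7, 1, 11, 4, 6, 22],
   [],
   [],
   [],
   [],
   [],
   [],
   [],
   [],
   [],
   [],
   [],
   [],
   [],
   [],
   [4, 1, 5, 17, 3, 18, 22, 12, 9, 7, 19, 6, 15, 13, 23, 21, 8, 16, 20, 14, 10, 0, 2, 11],
   [],
   [13, 20, 17, 8, 3, 18, 22, 14, 9, 4, 19, 21, 1, 7, 0, 16, 5, 6, 15, 11, 23, 10, 2, 12],
   [],
   [],
   [],
   [],
   [],
   [],
   [],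
   [18, 8, 22, 0, 11, 4, 5, 10, 7, 12, 6, 19, 14, 2, 1, 23, 21, 17, 16, 13, 9, 20, 15, 3],
   [],
   [],
   [],
   [],
   [],
   [],
   [],
   [],
   [],
   [],
   [],
   [],
   [],
   [],
   [],
   [],
   [],
   [],
   [],
   [],
   [],
   [],
   [],
   [],
   [],
   [],
   [],
   [],
   [],
   [],
   [],
   [],
   [],
   [],
   [7, 13, 15, 5, 2, 23, 1, 8, 4, 11, 16, 17, 22, 9, 19, 6, 10, 21, 0, 3, 20, 18, 14, 12],
   [],
   [],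
   [],
   [],
   [],
   [],
   [],
   [],
   [],
   [],
   [],
   [],
   [],
   [14, 18, 9, 0, 19, 22, 13, 16, 7, 2, 10, 6, 15, 17, 21, 8, 4, 5, 11, 12, 1, 20, 23, 3],
   [],
   [],
   [],
   [],
   [],
   [16, 21, 10, 12, 3, 14, 22, 8, 5, 4, 0, 1, 18, 13, 15, 2, 6, 23, 9, 7, 19, 11, 17, 20],
   [],
   [],
   [],
   [],
   [],
   [],
   [],
   [],
   [],
   [],
   [],
   [],
   [],
   [],
   [],
   [],
   [],
   [],
   [],
   [],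
   [],
   [],
   [],
   [],
   [],
   [],
   [],
   [],
   [],
   [],
   [],
   [],
   [13, 20, 4, 9, 11, 19, 15, 12, 18, 10, 0, 16, 2, 7, 3, 1, 23, 21, 6, 8, 17, 14, 22, 5],
   [],
   [],
   [6, 11, 8, 9, 15, 12, 23, 22, 18, 0, 19, 20, 16, 10, 13, 17, 2, 14, 3, 4, 5, 21, 7, 1],
   [],
   [],
   [],
   [],
   [],
   [9, 4, 3, 8, 10, 20, 5, 12, 1, 18, 17, 15, 13, 21, 22, 19, 7, 11, 0, 6, 23, 2, 16, 14],
   [],
   [],
   [],
   [],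
   [],
   [],
   [],
   [],
   [],
   [],
   [],
   [],
   [],
   [5, 17, 13, 11, 15, 12, 20, 1, 19, 16, 14, 8, 7, 2, 6, 3, 23, 21, 18, 10, 22, 0, 9, 4],
   [],
   [],
   [14, 19, 9, 0, 10, 20, 17, 18, 11, 12, 15, 5, 16, 22, 7, 21, 6, 2, 1, 4, 8, 23, 13, 3],
   [],
   [],
   [],
   [],
   [],
   [],
   [],
   [],
   [],
   [],
   [],
   [],
   [],
   [],
   [],
   [],
   [],
   [],
   [],
   [23, 14, 0, 9, 5, 13, 8, 16, 12, 22, 20, 19, 4, 17, 6, 11, 3, 18, 15, 10, 21, 7, 1, 2],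
   [],
   [],
   [],
   [],
   [],
   [],
   [],
   [],
   [],
   [],
   [],
   [],
   [],
   [],
   [],
   [],
   [],
   [],
   [],
   [],
   [],
   [],
   [],
   [],
   [],
   [],
   [],
   [],
   [],
   [],
   [],
   [],
   [],
   [],
   [],
   [],
   [18, 23, 22, 12, 20, 9, 19, 2, 11, 7, 15, 1, 13, 16, 8, 5, 21, 6, 14, 10, 17, 0, 4, 3],
   [8, 10, 16, 9, 4, 5, 7, 0, 19, 13, 11, 6, 1, 17, 12, 3, 20, 22, 21, 23, 15, 2, 18, 14],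
   [],
   [],
   [],
   [],
   [],
   [],
   [],
   [],
   [],
   [],
   [],
   [],
   [0, 12, 2, 1, 14, 8, 10, 21, 5, 3, 16, 7, 9, 19, 18, 6, 15, 11, 22, 13, 20, 17, 4, 23],
   [],
   [],
   [],
   [],
   [],
   [],
   [],
   [],
   [],
   [],
   [],
   [],
   [5, 12, 11, 15, 3, 18, 6, 13, 23, 14, 22, 19, 9, 16, 7, 0, 20, 2, 8, 17, 1, 21, 10, 4],
   [],
   [],
   [],
   [],
   [],
   [],
   [],
   [],
   [],
   [],
   [],
   [],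
   [],
   [],
   [],
   [],
   [],
   [],
   [],
   [],
   [],
   [],
   [],
   [],
   [],
   [],
   [],
   [],
   [],
   [],
   [],
   [],
   [],
   [],
   [],
   [],
   [],
   [],
   [],
   [],
   [],
   [],
   [],
   [],
   [],
   [],
   [],
   [],
   [],
   [],
   [],
   [],
   [],
   [],
   [],
   [],
   [],
   [],
   [],
   [],
   [16, 15, 10, 2, 12, 7, 17, 11, 13, 8, 0, 9, 22, 14, 18, 6, 23, 3, 4, 19, 5, 1, 21, 20],
   [10, 19, 20, 1, 22, 11, 8, 23, 14, 0, 21, 7, 13, 6, 15, 4, 12, 17, 5, 9, 2, 3, 18, 16],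
   [4, 6, 5, 14, 8, 1, 2, 16, 15, 12, 11, 3, 7, 22, 19, 17, 0, 23, 10, 18, 21, 20, 9, 13],
   [],
   [],
   [],
   [],
   [],
   [],
   [],
   [],
   [],
   [],
   [],
   [],
   [],
   [],
   [],
   [],
   [],
   [],
   [],
   [],
   [],
   [],
   [],
   [],
   [],
   [],
   [],
   [],
   [],
   [],
   [],
   [],
   [],
   [],
   [],
   [],
   [],
   [],
   [],
   [],
   [],
   [],
   [],
   [],
   [],
   [],
   [],
   [],
   [],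
   [],
   [],
   [],
   [],
   [],
   [],
   [],
   [],
   [12, 2, 7, 1, 21, 17, 3, 22, 14, 4, 11, 10, 13, 20, 23, 5, 8, 16, 9, 19, 18, 6, 0, 15],
   [],
   [],
   [],
   [],
   [],
   [],
   [],
   [],
   [],
   [],
   [],
   [],
   [],
   [16, 15, 10, 8, 23, 0, 13, 22, 19, 3, 18, 11, 1, 21, 6, 7, 12, 5, 17, 4, 2, 9, 14, 20],
   [],
   [],
   [],
   [],
   [],
   [],
   [],
   [],
   [],
   [20, 8, 16, 6, 4, 5, 3, 9, 7, 1, 12, 11, 21, 14, 0, 2, 17, 15, 22, 19, 13, 23, 18, 10],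
   [],
   [],
   [],
   [],
   [],
   [],
   [],
   [],
   [],
   [],
   [],
   [],
   [],
   [],
   [],
   [],
   [],
   [],
   [],
   [],
   [],
   [],
   [11, 21, 19, 12, 7, 15, 10, 6, 5, 16, 18, 13, 8, 23, 4, 0, 3, 20, 14, 2, 1, 17, 9, 22],
   [],
   [],
   [],
   [],
   [],
   [],
   [],
   [],
   [],
   [],
   [],
   [],
   [],
   [],
   [],
   [1, 23, 6, 18, 21, 17, 2, 16, 0, 15, 12, 3, 13, 11, 7, 20, 22, 14, 10, 5, 19, 9, 4, 8],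
   [],
   [],
   [],
   [1, 15, 6, 21, 17, 18, 14, 5, 2, 12, 23, 7, 10, 13, 9, 20, 16, 0, 11, 22, 19, 3, 4, 8],
   [],
   [],
   [],
   [],
   [],
   [],
   [],
   [],
   [],
   [20, 15, 16, 5, 1, 6, 4, 13, 18, 21, 23, 7, 3, 19, 0, 14, 11, 8, 2, 22, 12, 9, 17, 10],
   [],
   [],
   [],
   [],
   [],
   [],
   [],
   [],
   [],
   [],
   [],
   [],
   [],
   [],
   [],
   [],
   [],
   [],
   [13, 15, 4, 17, 0, 2, 14, 12, 1, 10, 7, 21, 22, 11, 9, 6, 16, 23, 18, 8, 3, 20, 19, 5],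
   [],
   [],
   [],
   [],
   [],
   [],
   [],
   [],
   [],
   [5, 22, 13, 17, 9, 3, 19, 10, 23, 15, 21, 20, 7, 0, 16, 1, 8, 14, 11, 12, 18, 2, 6, 4],
   [],
   [],
   [],
   [],
   [],
   [],
   [],
   [],
   [],
   [],
   [],
   [],
   [],
   [],
   [],
   [],
   [],
   [],
   [],
   [],
   [],
   [],
   [],
   [2, 9, 23, 6, 17, 18, 4, 3, 15, 22, 7, 20, 10, 16, 13, 12, 11, 14, 1, 21, 5, 8, 19, 0],
   [],
   [],
   [],
   [],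
   [],
   [],
   [],
   [],
   [],
   [],
   [8, 11, 1, 19, 21, 17, 3, 20, 14, 10, 2, 12, 9, 23, 0, 15, 4, 5, 13, 18, 7, 16, 22, 6],
   [],
   [],
   [],
   [],
   [7, 10, 15, 14, 5, 13, 19, 8, 0, 3, 21, 23, 18, 22, 2, 11, 20, 9, 6, 4, 17, 16, 1, 12],
   [],
   [],
   [],
   [],
   [],
   [],
   [],
   [],
   [],
   [],
   [],
   [],
   [],
   [],
   [],
   [],
   [],
   [],
   [],
   [],
   [],
   [],
   [],
   [],
   [],
   [],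
   [],
   [],
   [],
   [],
   [],
   [],
   [],
   [],
   [],
   [],
   [],
   [],
   [],
   [],
   [],
   [],
   [],
   [],
   [],
   [],
   [],
   [],
   [],
   [],
   [],
   [],
   [],
   [],
   [19, 17, 22, 12, 20, 16, 13, 1, 15, 21, 2, 3, 0, 8, 5, 10, 23, 7, 14, 9, 6, 4, 18, 11],
   [],
   [],
   [],
   [],
   [],
   [],
   [11, 21, 19, 17, 16, 10, 14, 8, 7, 12, 4, 23, 3, 18, 2, 20, 0, 6, 9, 13, 15, 5, 1, 22],
   [],
   [],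
   [],
   [],
   [],
   [],
   [],
   [],
   [],
   [16, 11, 10, 8, 12, 7, 9, 6, 13, 1, 17, 0, 23, 5, 21, 15, 3, 22, 18, 14, 19, 2, 4, 20],
   [],
   [],
   [],
   [],
   [],
   [],
   [],
   [],
   [],
   [19, 21, 22, 8, 3, 14, 15, 20, 10, 1, 0, 17, 6, 23, 5, 18, 9, 13, 2, 4, 16, 12, 7, 11],
   [],
   [],
   [20, 17, 16, 19, 7, 15, 18, 8, 13, 5, 2, 3, 6, 9, 1, 23, 12, 11, 21, 4, 22, 14, 0, 10],
   [],
   [],
   [],
   [],
   [],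
   [],
   [],
   [],
   [],
   [],
   [],
   [],
   [],
   [],
   [],
   [],
   [],
   [],
   [],
   [],
   [],
   [],
   [],
   [],
   [],
   [],
   [],
   [],
   [],
   [],
   [8, 13, 1, 14, 22, 11, 21, 7, 3, 15, 4, 23, 10, 18, 9, 17, 19, 12, 0, 20, 16, 5, 2, 6],
   [],
   [],
   [],
   [],
   [],
   [],
   [],
   [],
   [],
   [],
   [],
   [],
   [],
   [],
   [],
   [],
   [],
   [],
   [],
   [],
   [],
   [],
   [],
   [],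
   [],
   [],
   [],
   [],
   [7, 2, 15, 10, 3, 14, 5, 18, 21, 17, 16, 0, 20, 6, 9, 23, 22, 13, 8, 4, 1, 11, 19, 12],
   [],
   [],
   [],
   [],
   [9, 12, 3, 18, 10, 20, 15, 19, 1, 2, 5, 17, 7, 23, 16, 4, 11, 13, 22, 21, 6, 8, 0, 14],
   [],
   [],
   [],
   [],
   [14, 23, 9, 19, 21, 17, 11, 10, 8, 15, 2, 13, 5, 6, 18, 22, 1, 4, 7, 0, 16, 12, 20, 3],
   [],
   [],
   [],
   [],
   [],
   [],
   [],
   [],
   [],
   [],
   [],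
   [],
   [],
   [],
   [],
   [],
   [],
   [],
   [],
   [],
   [],
   [],
   [],
   [],
   [],
   [],
   [],
   [],
   [],
   [],
   [],
   [],
   [],
   [],
   [],
   [5, 15, 13, 22, 8, 1, 3, 7, 0, 9, 2, 11, 16, 20, 21, 23, 14, 18, 19, 10, 17, 6, 12, 4],
   [],
   [],
   [],
   [],
   [],
   [],
   [],
   [],
   [],
   [],
   [3, 6, 14, 20, 2, 23, 16, 17, 7, 19, 22, 15, 18, 5, 1, 10, 12, 21, 11, 8, 13, 0, 4, 9],
   [],
   [],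
   [],
   [],
   [],
   [],
   [],
   [],
   [],
   [],
   [],
   [],
   [23, 21, 0, 10, 5, 13, 8, 3, 6, 11, 20, 19, 7, 18, 12, 22, 16, 17, 1, 9, 14, 4, 15, 2],
   [],
   [],
   [],
   [],
   [],
   [],
   [],
   [],
   [],
   [3, 22, 14, 8, 13, 4, 15, 2, 7, 5, 0, 1, 12, 10, 20, 18, 19, 11, 17, 16, 21, 23, 6, 9],
   [],
   [],
   [],
   [],
   [],
   [],
   [],
   [],
   [],
   [],
   [],
   [],
   [],
   [],
   [4, 12, 5, 11, 1, 6, 19, 22, 3, 8, 14, 23, 0, 7, 17, 20, 16, 21, 18, 10, 15, 2, 9, 13],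
   [],
   [],
   [],
   [],
   [],
   [],
   [],
   [],
   [],
   [],
   [],
   [],
   [],
   [],
   [],
   [],
   [],
   [],
   [],
   [20, 3, 16, 8, 11, 19, 15, 18, 21, 22, 1, 17, 6, 4, 9, 14, 5, 23, 13, 2, 0, 7, 12, 10],
   [],
   [],
   [],
   [],
   [],
   [],
   [],
   [],
   [],
   [],
   [],
   [],
   [],
   [],
   [],
   [],
   [],
   [],
   [],
   [],
   [],
   [4, 1, 5, 17, 23, 0, 12, 16, 2, 15, 18, 3, 11, 14, 20, 22, 6, 10, 8, 7, 21, 9, 19, 13],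
   [],
   [],
   [7, 16, 15, 19, 13, 4, 22, 9, 5, 23, 17, 0, 3, 11, 8, 1, 6, 10, 14, 18, 2, 21, 20, 12],
   [],
   [],
   [],
   [],
   [],
   [],
   [],
   [],
   [],
   [],
   [],
   [],
   [17, 10, 18, 23, 12, 7, 5, 3, 15, 8, 1, 0, 20, 6, 16, 11, 14, 19, 22, 2, 13, 4, 9, 21],
   [],
   [],
   [],
   [],
   [],
   [],
   [],
   [],
   [],
   [],
   [],
   [],
   [],
   []]

end Golay
end Cfsg.Agent.Helper28
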