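import Mathlib
import Cfsg.Agent.Helper28.SimpleM
import Cfsg.Agent.Helper28.ClassData

set_option autoImplicit false

namespace Cfsg.Agent.Helper28
namespace Golay

open Cfsg
open scoped Pointwise

/-! ### Classes of elements of order 2 and 3 in the group of the code -/

theorem lv4ok : levelsOK [] [4, 2, 0, 23] ch4 = true := by decide +kernel

theorem fin4 : GS [] (finalL [4, 2, 0, 23] ch4) = ⊥ :=
  triv_sound2 (prog := progT4) (by decide +kernel)

/-- enumeration of a coset of the stabiliser of the four points 23, 0, 2, 4 -/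
theorem coset_enum {G : List Nat} (hG : inM24 G = true) (g : Equiv.Perm GolayPt) (hg : g ∈ M24)
    (h : ∀ i ∈ [4, 2, 0, 23], g (pt i) = pt (tf G i)) :
    ∃ T ∈ (chainElems ch4).map (comp G), isPerm T = true ∧ g = permOf T := by
  have hGp := isPerm_of_inM24 hG
  have hmem : (permOf G)⁻¹ * g ∈ GS [] [4, 2, 0, 23] := by
    rw [mem_GS_nil]
    refine ⟨M24.mul_mem (M24.inv_mem (permOf_mem_M24 hG)) hg, fun i hi => ?_⟩
    have hi' : i < 24 := by
      simp only [List.mem_cons, List.not_mem_nil, or_false] at hi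
      omega
    rw [Equiv.Perm.mul_apply, h i hi, Equiv.Perm.inv_eq_iff_eq, permOf_pt hGp hi']
  obtain ⟨T, hT, hT1, hT2⟩ := chain_enum [] ch4 _ lv4ok fin4 _ hmem
  refine ⟨comp G T, List.mem_map.2 ⟨T, hT, rfl⟩, isPerm_comp hGp hT1, ?_⟩
  rw [← permOf_mul hGp hT1, ← hT2, mul_inv_cancel_left]

/-- the `p`-th power of the table `T` is the identity -/
def powId (p : Nat) (T : List Nat) : Bool := (List.range 24).all fun i => Nat.beq ((tf T)^[p] i) i

theorem powId_of_pow {p : Nat} {T : List Nat} (hT : isPerm T = true) (h : permOf T ^ p = 1) :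
    powId p T = true := by
  rw [powId, List.all_eq_true]
  intro i hi
  rw [List.mem_range] at hi
  rw [nbeq_iff]
  have h1 := idx_pow hT p (pt i)
  rw [h, Equiv.Perm.one_apply, idx_pt i hi] at h1
  exact h1.symm

/-- `K` conjugates `T` to `R1` or to `R2`, unless the `p`-th power of `T` is not the identity -/
def classOne (p : Nat) (R1 R2 T K : List Nat) : Bool :=
  !(powId p T) || (inM24 K && (comp K T == comp R1 K || comp K T == comp R2 K))

/-- the certificates of a list of tables -/
def classCheck (p : Nat) (R1 R2 : List Nat) : List (List Nat) → List (List Nat) → Bool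
  | [], _ => true
  | _ :: _, [] => false
  | T :: Ts, K :: Ks => classOne p R1 R2 T K && classCheck p R1 R2 Ts Ks

theorem classCheck_sound (p : Nat) (R1 R2 : List Nat) : ∀ (Ts Ks : List (List Nat)),
    classCheck p R1 R2 Ts Ks = true → ∀ T ∈ Ts, ∃ K, classOne p R1 R2 T K = true := by
  intro Ts
  induction Ts with
  | nil => intro Ks _ T hT; exact absurd hT List.not_mem_nil
  | cons T0 Ts ih =>
    intro Ks h T hT
    cases Ks with
    | nil => rw [classCheck] at h; exact absurd h (by simp)
    | cons K Ks =>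
      rw [classCheck, Bool.and_eq_true] at h
      rcases List.mem_cons.1 hT with rfl | hT
      · exact ⟨K, h.1⟩
      · exact ih Ks h.2 T hT

theorem classOne_sound {p : Nat} {R1 R2 T K : List Nat} (hR1 : isPerm R1 = true)
    (hR2 : isPerm R2 = true) (hT : isPerm T = true) (hp : permOf T ^ p = 1)
    (h : classOne p R1 R2 T K = true) :
    ∃ k ∈ M24, k * permOf T * k⁻¹ = permOf R1 ∨ k * permOf T * k⁻¹ = permOf R2 := by
  rw [classOne, powId_of_pow hT hp, Bool.not_true, Bool.false_or, Bool.and_eq_true,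
    Bool.or_eq_true] at h
  obtain ⟨hK, h⟩ := h
  have hKp := isPerm_of_inM24 hK
  refine ⟨permOf K, permOf_mem_M24 hK, ?_⟩
  rcases h with h | h
  · left
    rw [permOf_mul hKp hT, eq_of_beq h, ← permOf_mul hR1 hKp, mul_inv_cancel_right]
  · right
    rw [permOf_mul hKp hT, eq_of_beq h, ← permOf_mul hR2 hKp, mul_inv_cancel_right]

/-- the table moves a point whose index is not in `l` -/
def movesOutside (l : List Nat) (T : List Nat) : Bool :=
  (List.range 24).any fun i => !(l.contains i) && !(Nat.beq (tf T i) i)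

theorem movesOutside_sound {l : List Nat} {T : List Nat} (hT : isPerm T = true)
    (h : movesOutside l T = true) : ∃ i, i < 24 ∧ i ∉ l ∧ permOf T (pt i) ≠ pt i := by
  rw [movesOutside, List.any_eq_true] at h
  obtain ⟨i, hi, h⟩ := h
  rw [List.mem_range] at hi
  rw [Bool.and_eq_true, Bool.not_eq_true', Bool.not_eq_true'] at h
  refine ⟨i, hi, ?_, ?_⟩
  · intro hil
    have := h.1
    rw [List.contains_eq_mem, decide_eq_false_iff_not] at this
    exact this hil
  · intro e
    rw [permOf_pt hT hi] at e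
    have e2 := congrArg idx e
    rw [idx_pt _ (tf_lt hT hi), idx_pt i hi] at e2
    have := h.2
    rw [← Bool.not_eq_true, nbeq_iff] at this
    exact this e2

theorem inG1 : inM24 G1T = true := by decide +kernel
theorem inG2 : inM24 G2T = true := by decide +kernel
theorem inG3 : inM24 G3T = true := by decide +kernel
theorem inG3b : inM24 G3bT = true := by decide +kernel
theorem in_t8 : inM24 t8T = true := by decide +kernel
theorem in_t0 : inM24 t0T = true := by decide +kernel
theorem in_r6 : inM24 r6T = true := by decide +kernel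
theorem in_r0 : inM24 r0T = true := by decide +kernel

set_option maxRecDepth 100000 in
theorem classI : classCheck 2 t8T t0T ((chainElems ch4).map (comp G1T)) certsI = true := by
  decide +kernel

set_option maxRecDepth 100000 in
theorem classT : classCheck 3 r6T r0T ((chainElems ch4).map (comp G3T)) certsT = true := by
  decide +kernel

theorem movesI : (((chainElems ch4).map (comp G2T)).all fun T => movesOutside [23, 0] T) = true := by
  decide +kernel

theorem movesT : (((chainElems ch4).map (comp G3bT)).all fun T => movesOutside [23, 0, 2] T) = true := by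
  decide +kernel

theorem conj_apply {σ g : Equiv.Perm GolayPt} {x y : GolayPt} {i j : Nat} (hx : σ x = pt i)
    (hy : σ y = pt j) (hg : g x = y) : (σ * g * σ⁻¹) (pt i) = pt j := by
  rw [Equiv.Perm.mul_apply, Equiv.Perm.mul_apply, ← hx, perm_inv_apply, hg, hy]

/-- every involution of the group of the code is conjugate to one of two involutions -/
theorem invol_class (g : Equiv.Perm GolayPt) (hg : g ∈ M24) (h2 : g ^ 2 = 1) (h1 : g ≠ 1) :
    ∃ k ∈ M24, k * g * k⁻¹ = permOf t8T ∨ k * g * k⁻¹ = permOf t0T := by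
  have hgg : ∀ p, g (g p) = p := fun p => by
    have := congrArg (fun σ : Equiv.Perm GolayPt => σ p) h2
    simpa [pow_two] using this
  obtain ⟨a, ha⟩ : ∃ a, g a ≠ a := by
    by_contra hcon
    push Not at hcon
    exact h1 (Equiv.ext hcon)
  by_cases hc : ∃ c, c ≠ a ∧ c ≠ g a ∧ g c ≠ c
  · obtain ⟨c, hca, hcb, hcc⟩ := hc
    have hda : g c ≠ a := fun e => hcb (by rw [← e, hgg])
    have hdb : g c ≠ g a := fun e => hca (g.injective e)
    obtain ⟨σ, hσ, s1, s2, s3, s4⟩ := trans4 a (g a) c (g c) (pt 23) (pt 0) (pt 2) (pt 4)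
      (Ne.symm ha) (Ne.symm hca) (Ne.symm hcb) (Ne.symm hda) (Ne.symm hdb) (Ne.symm hcc)
      (by decide +kernel) (by decide +kernel) (by decide +kernel) (by decide +kernel)
      (by decide +kernel) (by decide +kernel)
    have hmem : σ * g * σ⁻¹ ∈ M24 := M24.mul_mem (M24.mul_mem hσ hg) (M24.inv_mem hσ)
    obtain ⟨T, hT, hT1, hT2⟩ := coset_enum inG1 _ hmem (by
      intro i hi
      simp only [List.mem_cons, List.not_mem_nil, or_false] at hi
      rcases hi with rfl | rfl | rfl | rfl
      · exact conj_apply s4 s3 (hgg c)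
      · exact conj_apply s3 s4 rfl
      · exact conj_apply s2 s1 (hgg a)
      · exact conj_apply s1 s2 rfl)
    obtain ⟨K, hK⟩ := classCheck_sound 2 t8T t0T _ _ classI T hT
    have hp : permOf T ^ 2 = 1 := by
      rw [← hT2, conj_pow, h2, mul_one, mul_inv_cancel]
    obtain ⟨k, hk, hk2⟩ := classOne_sound (isPerm_of_inM24 in_t8) (isPerm_of_inM24 in_t0) hT1 hp hK
    refine ⟨k * σ, M24.mul_mem hk hσ, ?_⟩
    rw [← hT2] at hk2
    rw [mul_inv_rev]
    simpa only [mul_assoc] using hk2
  · exfalso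
    push Not at hc
    obtain ⟨σ, hσ, s1, s2⟩ := trans2 a (g a) (pt 23) (pt 0) (Ne.symm ha) (by decide +kernel)
    have hmem : σ * g * σ⁻¹ ∈ M24 := M24.mul_mem (M24.mul_mem hσ hg) (M24.inv_mem hσ)
    have hfix : ∀ i, i < 24 → i ∉ [23, 0] → (σ * g * σ⁻¹) (pt i) = pt i := by
      intro i hi hil
      rw [Equiv.Perm.mul_apply, Equiv.Perm.mul_apply]
      have e1 : σ⁻¹ (pt i) ≠ a := by
        intro e
        rw [Equiv.Perm.inv_eq_iff_eq, s1] at e
        have := congrArg idx e
        rw [idx_pt i hi, idx_pt 23 (by norm_num)] at this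
        exact hil (by simp [this])
      have e2 : σ⁻¹ (pt i) ≠ g a := by
        intro e
        rw [Equiv.Perm.inv_eq_iff_eq, s2] at e
        have := congrArg idx e
        rw [idx_pt i hi, idx_pt 0 (by norm_num)] at this
        exact hil (by simp [this])
      rw [hc _ e1 e2, perm_apply_inv]
    obtain ⟨T, hT, hT1, hT2⟩ := coset_enum inG2 _ hmem (by
      intro i hi
      simp only [List.mem_cons, List.not_mem_nil, or_false] at hi
      rcases hi with rfl | rfl | rfl | rfl
      · exact hfix 4 (by norm_num) (by simp)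
      · exact hfix 2 (by norm_num) (by simp)
      · exact conj_apply s2 s1 (hgg a)
      · exact conj_apply s1 s2 rfl)
    obtain ⟨i, hi, hil, hne⟩ := movesOutside_sound hT1 (List.all_eq_true.1 movesI T hT)
    rw [← hT2] at hne
    exact hne (hfix i hi hil)

/-- every element of order 3 of the group of the code is conjugate to one of two elements -/
theorem ord3_class (g : Equiv.Perm GolayPt) (hg : g ∈ M24) (h3 : g ^ 3 = 1) (h1 : g ≠ 1) :
    ∃ k ∈ M24, k * g * k⁻¹ = permOf r6T ∨ k * g * k⁻¹ = permOf r0T := by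
  have hgg : ∀ p, g (g (g p)) = p := fun p => by
    have := congrArg (fun σ : Equiv.Perm GolayPt => σ p) h3
    simpa [pow_succ] using this
  obtain ⟨a, ha⟩ : ∃ a, g a ≠ a := by
    by_contra hcon
    push Not at hcon
    exact h1 (Equiv.ext hcon)
  have hbc : g (g a) ≠ g a := fun e => ha (g.injective e)
  have hca : g (g a) ≠ a := fun e => ha (by
    have := hgg a
    rw [e] at this
    exact this)
  by_cases hc : ∃ d, d ≠ a ∧ d ≠ g a ∧ d ≠ g (g a) ∧ g d ≠ d
  · obtain ⟨d, hda, hdb, hdc, hdd⟩ := hc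
    have hea : g d ≠ a := fun e => hdc (g.injective (by rw [e, hgg]))
    have heb : g d ≠ g a := fun e => hda (g.injective e)
    have hec : g d ≠ g (g a) := fun e => hdb (g.injective e)
    obtain ⟨τ, hτ, s1, s2, s3, s4, s5⟩ := map5 a (g a) (g (g a)) d (g d)
      (Ne.symm ha) (Ne.symm hca) (Ne.symm hbc) (Ne.symm hda) (Ne.symm hdb) (Ne.symm hdc)
      (Ne.symm hea) (Ne.symm heb) (Ne.symm hec) (Ne.symm hdd)
    have t1 : τ⁻¹ a = pt 23 := by rw [← s1, perm_inv_apply]
    have t2 : τ⁻¹ (g a) = pt 0 := by rw [← s2, perm_inv_apply]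
    have t3 : τ⁻¹ (g (g a)) = pt 2 := by rw [← s3, perm_inv_apply]
    have t4 : τ⁻¹ d = pt 4 := by rw [← s4, perm_inv_apply]
    have t5 : τ⁻¹ (g d) = pt 5 := by rw [← s5, perm_inv_apply]
    have hσ : τ⁻¹ ∈ M24 := M24.inv_mem hτ
    generalize τ⁻¹ = σ at t1 t2 t3 t4 t5 hσ
    have hmem : σ * g * σ⁻¹ ∈ M24 := M24.mul_mem (M24.mul_mem hσ hg) (M24.inv_mem hσ)
    obtain ⟨T, hT, hT1, hT2⟩ := coset_enum inG3 _ hmem (by
      intro i hi
      simp only [List.mem_cons, List.not_mem_nil, or_false] at hi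
      rcases hi with rfl | rfl | rfl | rfl
      · exact conj_apply t4 t5 rfl
      · exact conj_apply t3 t1 (hgg a)
      · exact conj_apply t2 t3 rfl
      · exact conj_apply t1 t2 rfl)
    obtain ⟨K, hK⟩ := classCheck_sound 3 r6T r0T _ _ classT T hT
    have hp : permOf T ^ 3 = 1 := by
      rw [← hT2, conj_pow, h3, mul_one, mul_inv_cancel]
    obtain ⟨k, hk, hk2⟩ := classOne_sound (isPerm_of_inM24 in_r6) (isPerm_of_inM24 in_r0) hT1 hp hK
    refine ⟨k * σ, M24.mul_mem hk hσ, ?_⟩
    rw [← hT2] at hk2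
    rw [mul_inv_rev]
    simpa only [mul_assoc] using hk2
  · exfalso
    push Not at hc
    obtain ⟨σ, hσ, s1, s2, s3⟩ := trans3 a (g a) (g (g a)) (pt 23) (pt 0) (pt 2) (Ne.symm ha)
      (Ne.symm hca) (Ne.symm hbc) (by decide +kernel) (by decide +kernel) (by decide +kernel)
    have hmem : σ * g * σ⁻¹ ∈ M24 := M24.mul_mem (M24.mul_mem hσ hg) (M24.inv_mem hσ)
    have hfix : ∀ i, i < 24 → i ∉ [23, 0, 2] → (σ * g * σ⁻¹) (pt i) = pt i := by
      intro i hi hil
      rw [Equiv.Perm.mul_apply, Equiv.Perm.mul_apply]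
      have e1 : σ⁻¹ (pt i) ≠ a := by
        intro e
        rw [Equiv.Perm.inv_eq_iff_eq, s1] at e
        have := congrArg idx e
        rw [idx_pt i hi, idx_pt 23 (by norm_num)] at this
        exact hil (by simp [this])
      have e2 : σ⁻¹ (pt i) ≠ g a := by
        intro e
        rw [Equiv.Perm.inv_eq_iff_eq, s2] at e
        have := congrArg idx e
        rw [idx_pt i hi, idx_pt 0 (by norm_num)] at this
        exact hil (by simp [this])
      have e3 : σ⁻¹ (pt i) ≠ g (g a) := by
        intro e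
        rw [Equiv.Perm.inv_eq_iff_eq, s3] at e
        have := congrArg idx e
        rw [idx_pt i hi, idx_pt 2 (by norm_num)] at this
        exact hil (by simp [this])
      rw [hc _ e1 e2 e3, perm_apply_inv]
    obtain ⟨T, hT, hT1, hT2⟩ := coset_enum inG3b _ hmem (by
      intro i hi
      simp only [List.mem_cons, List.not_mem_nil, or_false] at hi
      rcases hi with rfl | rfl | rfl | rfl
      · exact hfix 4 (by norm_num) (by simp)
      · exact conj_apply s3 s1 (hgg a)
      · exact conj_apply s2 s3 rfl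
      · exact conj_apply s1 s2 rfl)
    obtain ⟨i, hi, hil, hne⟩ := movesOutside_sound hT1 (List.all_eq_true.1 movesT T hT)
    rw [← hT2] at hne
    exact hne (hfix i hi hil)

/-! ### The representatives -/

theorem t8_mem : permOf t8T ∈ M24 := permOf_mem_M24 in_t8
theorem t0_mem : permOf t0T ∈ M24 := permOf_mem_M24 in_t0
theorem r6_mem : permOf r6T ∈ M24 := permOf_mem_M24 in_r6
theorem r0_mem : permOf r0T ∈ M24 := permOf_mem_M24 in_r0

theorem t8_sq : permOf t8T ^ 2 = 1 :=
  permOf_pow_eq_one (isPerm_of_inM24 in_t8) 2 (by decide +kernel)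
theorem t0_sq : permOf t0T ^ 2 = 1 :=
  permOf_pow_eq_one (isPerm_of_inM24 in_t0) 2 (by decide +kernel)
theorem r6_cube : permOf r6T ^ 3 = 1 :=
  permOf_pow_eq_one (isPerm_of_inM24 in_r6) 3 (by decide +kernel)
theorem r0_cube : permOf r0T ^ 3 = 1 :=
  permOf_pow_eq_one (isPerm_of_inM24 in_r0) 3 (by decide +kernel)

theorem fixT (T : List Nat) (F : Nat) (hT : isPerm T = true)
    (h : ((List.range 24).all fun i => (Nat.beq (tf T i) i) == F.testBit i) = true)
    (p : GolayPt) : permOf T p = p ↔ p ∈ toSet F := by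
  have h1 := List.all_eq_true.1 h (idx p) (List.mem_range.2 (idx_lt p))
  rw [mem_toSet, ← eq_of_beq h1, nbeq_iff, permOf_apply hT]
  constructor
  · intro e
    have := congrArg idx e
    rwa [idx_pt _ (tf_lt hT (idx_lt p))] at this
  · intro e
    rw [e, pt_idx]

theorem t8_fix (p : GolayPt) : permOf t8T p = p ↔ p ∈ toSet F8 :=
  fixT t8T F8 (isPerm_of_inM24 in_t8) (by decide +kernel) p
theorem t0_fix (p : GolayPt) : permOf t0T p ≠ p := by
  rw [Ne, fixT t0T 0 (isPerm_of_inM24 in_t0) (by decide +kernel) p, mem_toSet]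
  simp
theorem r6_fix (p : GolayPt) : permOf r6T p = p ↔ p ∈ toSet F6 :=
  fixT r6T F6 (isPerm_of_inM24 in_r6) (by decide +kernel) p
theorem r0_fix (p : GolayPt) : permOf r0T p ≠ p := by
  rw [Ne, fixT r0T 0 (isPerm_of_inM24 in_r0) (by decide +kernel) p, mem_toSet]
  simp

theorem F8_mem : toSet F8 ∈ octads := toSet_mem_octads (by decide +kernel) (by decide +kernel)
theorem F6_card : (toSet F6).card = 6 := by decide +kernel

theorem t8_ne : permOf t8T ≠ 1 := fun e => by
  have := (t8_fix (pt 23)).1 (by rw [e]; rfl)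
  revert this
  decide +kernel
theorem t0_ne : permOf t0T ≠ 1 := fun e => t0_fix (pt 0) (by rw [e]; rfl)
theorem r6_ne : permOf r6T ≠ 1 := fun e => by
  have := (r6_fix (pt 23)).1 (by rw [e]; rfl)
  revert this
  decide +kernel
theorem r0_ne : permOf r0T ≠ 1 := fun e => r0_fix (pt 0) (by rw [e]; rfl)

/-- fixed points of a conjugate -/
theorem conj_fix_iff {k g r : Equiv.Perm GolayPt} (h : k * g * k⁻¹ = r) (p : GolayPt) :
    g p = p ↔ r (k p) = k p := by
  rw [← h, Equiv.Perm.mul_apply, Equiv.Perm.mul_apply, perm_inv_apply, k.apply_eq_iff_eq]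

theorem fix_eq_smul {k g : Equiv.Perm GolayPt} {R : List Nat} {F : Nat}
    (h : k * g * k⁻¹ = permOf R) (hF : ∀ p, permOf R p = p ↔ p ∈ toSet F) :
    (Finset.univ.filter fun p => g p = p) = k⁻¹ • toSet F := by
  ext p
  rw [Finset.mem_filter, Finset.mem_inv_smul_finset_iff, conj_fix_iff h p, hF]
  simp

theorem invol_cases (g : Equiv.Perm GolayPt) (hg : g ∈ M24) (ho : orderOf g = 2) :
    (∃ k ∈ M24, k * g * k⁻¹ = permOf t8T ∧ (Finset.univ.filter fun p => g p = p) ∈ octads ∧
      ∃ p, g p = p) ∨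
    (∃ k ∈ M24, k * g * k⁻¹ = permOf t0T ∧ ∀ p, g p ≠ p) := by
  have h2 : g ^ 2 = 1 := by rw [← ho]; exact pow_orderOf_eq_one g
  have h1 : g ≠ 1 := by
    intro e
    rw [e, orderOf_one] at ho
    omega
  obtain ⟨k, hk, h | h⟩ := invol_class g hg h2 h1
  · left
    refine ⟨k, hk, h, ?_, k⁻¹ (pt 3), ?_⟩
    · rw [fix_eq_smul h t8_fix]
      exact smul_mem_octads (M24.inv_mem hk) F8_mem
    · rw [conj_fix_iff h, perm_apply_inv, t8_fix]
      decide +kernel
  · right
    refine ⟨k, hk, h, fun p hp => ?_⟩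
    rw [conj_fix_iff h] at hp
    exact t0_fix _ hp

theorem ord3_cases (g : Equiv.Perm GolayPt) (hg : g ∈ M24) (h3 : g ^ 3 = 1) (h1 : g ≠ 1) :
    (∃ k ∈ M24, k * g * k⁻¹ = permOf r6T ∧ {p | g p = p}.ncard = 6) ∨
    (∃ k ∈ M24, k * g * k⁻¹ = permOf r0T ∧ {p | g p = p}.ncard = 0) := by
  obtain ⟨k, hk, h | h⟩ := ord3_class g hg h3 h1
  · left
    refine ⟨k, hk, h, ?_⟩
    have e : {p | g p = p} = ((k⁻¹ • toSet F6 : Finset GolayPt) : Set GolayPt) := by
      rw [← fix_eq_smul h r6_fix]
      ext p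
      simp
    rw [e, Set.ncard_coe_finset, Finset.card_smul_finset, F6_card]
  · right
    refine ⟨k, hk, h, ?_⟩
    have e : {p | g p = p} = ∅ := by
      ext p
      simp only [Set.mem_ofPred_eq, Set.mem_empty_iff_false, iff_false]
      intro hp
      rw [conj_fix_iff h] at hp
      exact r0_fix _ hp
    rw [e, Set.ncard_empty]

end Golay
end Cfsg.Agent.Helper28
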