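import Mathlib
import Cfsg.Agent.Helper28.Trio
import Cfsg.Agent.Helper28.Classes

set_option autoImplicit false

namespace Cfsg.Agent.Helper28
namespace Golay

open Cfsg
open scoped Pointwise

/-! ### Counting the structures fixed by a permutation -/

/-- conjugate permutations fix equally many members of an invariant family -/
theorem ncard_fix_conj {β : Type*} [MulAction (Equiv.Perm GolayPt) β] (Fam : Set β)
    (k g r : Equiv.Perm GolayPt) (h : k * g * k⁻¹ = r) (hF : ∀ X, k • X ∈ Fam ↔ X ∈ Fam) :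
    {X | X ∈ Fam ∧ g • X = X}.ncard = {Y | Y ∈ Fam ∧ r • Y = Y}.ncard := by
  have himg : {Y | Y ∈ Fam ∧ r • Y = Y} = (fun X => k • X) '' {X | X ∈ Fam ∧ g • X = X} := by
    ext Y
    constructor
    · rintro ⟨hY, hr⟩
      refine ⟨k⁻¹ • Y, ⟨?_, ?_⟩, smul_inv_smul k Y⟩
      · rw [← hF, smul_inv_smul]
        exact hY
      · have e : g = k⁻¹ * r * k := by
          rw [← h]
          group
        rw [e, mul_smul, mul_smul, smul_inv_smul, hr]
    · rintro ⟨X, ⟨hX, hg⟩, rfl⟩
      refine ⟨(hF X).2 hX, ?_⟩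
      rw [← h, mul_smul, mul_smul, inv_smul_smul, hg]
  rw [himg, Set.ncard_image_of_injective _ (MulAction.injective k)]

theorem permMask_lt' {R : List Nat} (hR : isPerm R = true) (c : Nat) :
    permMask (tf R) c < 2 ^ 24 :=
  permMask_lt (permOf R) (tf R) (idx_permOf hR) c

theorem smul_eq_iff_mask {R : List Nat} (hR : isPerm R = true) (s : Finset GolayPt) :
    permOf R • s = s ↔ permMask (tf R) (maskOf s) = maskOf s := by
  constructor
  · intro h
    refine toSet_inj (permMask_lt' hR _) (maskOf_lt s) ?_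
    rw [← smul_toSet_permOf hR, toSet_maskOf, h]
  · intro h
    have := smul_toSet_permOf hR (maskOf s)
    rw [h, toSet_maskOf] at this
    exact this

/-- the number of fixed code words of a given weight -/
theorem ncard_fix_cw {R : List Nat} (hR : isPerm R = true) (w : Nat) :
    {s : Finset GolayPt | (s ∈ supports (golayCode : Set (GolayPt → ZMod 2)) ∧ s.card = w) ∧
      permOf R • s = s}.ncard =
    countPow 12 0 fun m => Nat.beq (wt (encode m)) w &&
      Nat.beq (permMask (tf R) (encode m)) (encode m) := by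
  rw [← ncard_cw fun c => Nat.beq (wt c) w && Nat.beq (permMask (tf R) c) c]
  congr 1
  ext s
  simp only [Set.mem_ofPred_eq]
  rw [Bool.and_eq_true, nbeq_iff, nbeq_iff, card_maskOf, smul_eq_iff_mask hR, and_assoc]

/-- the test for a trio to be fixed -/
def fixTrio (R : List Nat) (p : Nat × Nat) : Bool :=
  (Nat.beq (permMask (tf R) p.1) p.1 || Nat.beq (permMask (tf R) p.1) p.2 ||
    Nat.beq (permMask (tf R) p.1) (16777215 ^^^ p.1 ^^^ p.2)) &&
  (Nat.beq (permMask (tf R) p.2) p.1 || Nat.beq (permMask (tf R) p.2) p.2 ||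
    Nat.beq (permMask (tf R) p.2) (16777215 ^^^ p.1 ^^^ p.2))

theorem mem_trioM_iff {a b x : Nat} (hab : (a, b) ∈ trioL) (hx : x < 2 ^ 24) :
    toSet x ∈ trioM (a, b) ↔ x = a ∨ x = b ∨ x = 16777215 ^^^ a ^^^ b := by
  obtain ⟨h1, -, h3, h4, -⟩ := mem_trioL.1 hab
  show toSet x ∈ trioOf (toSet a) (toSet b) ↔ _
  rw [mem_trioOf, ← third_eq h4]
  constructor
  · rintro (h | h | h)
    · exact Or.inl (toSet_inj hx (octL_lt h1) h)
    · exact Or.inr (Or.inl (toSet_inj hx (octL_lt h3) h))
    · exact Or.inr (Or.inr (toSet_inj hx (xor3_lt (octL_lt h1) (octL_lt h3)) h))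
  · rintro (h | h | h)
    · exact Or.inl (by rw [h])
    · exact Or.inr (Or.inl (by rw [h]))
    · exact Or.inr (Or.inr (by rw [h]))

theorem fixTrio_iff {R : List Nat} (hR : isPerm R = true) {p : Nat × Nat} (hp : p ∈ trioL) :
    permOf R • trioM p = trioM p ↔ fixTrio R p = true := by
  obtain ⟨a, b⟩ := p
  obtain ⟨h1, -, h3, h4, -⟩ := mem_trioL.1 hp
  have hT := trioM_mem hp
  have e : permOf R • trioM (a, b) =
      trioOf (toSet (permMask (tf R) a)) (toSet (permMask (tf R) b)) := by
    show permOf R • trioOf (toSet a) (toSet b) = _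
    rw [smul_trioOf, smul_toSet_permOf hR, smul_toSet_permOf hR]
  have hne : toSet (permMask (tf R) a) ≠ toSet (permMask (tf R) b) := by
    rw [← smul_toSet_permOf hR, ← smul_toSet_permOf hR]
    intro h
    exact oct_disj_ne (toSet_octL h1) (disj_of_and h4) (smul_left_cancel _ h)
  have key : permOf R • trioM (a, b) = trioM (a, b) ↔
      (toSet (permMask (tf R) a) ∈ trioM (a, b) ∧ toSet (permMask (tf R) b) ∈ trioM (a, b)) := by
    rw [e]
    constructor
    · intro h
      rw [← h]
      exact ⟨mem_trioOf.2 (Or.inl rfl), mem_trioOf.2 (Or.inr (Or.inl rfl))⟩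
    · rintro ⟨k1, k2⟩
      exact (trio_eq hT k1 k2 hne).symm
  rw [key, mem_trioM_iff hp (permMask_lt' hR a), mem_trioM_iff hp (permMask_lt' hR b), fixTrio]
  simp only [Bool.and_eq_true, Bool.or_eq_true, nbeq_iff, or_assoc]

theorem ncard_fix_trio {R : List Nat} (hR : isPerm R = true) :
    {T : Finset (Finset GolayPt) | T ∈ trios ∧ permOf R • T = T}.ncard =
      (trioL.filter (fixTrio R)).length :=
  ncard_trio _ _ fun _ hp => fixTrio_iff hR hp

/-- the test for a second tetrad to belong to the sextet of a first -/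
def inSext (m m' : Nat) : Bool :=
  Nat.beq m' m || (Nat.beq (m &&& m') 0 && (isCW (m ||| m') && Nat.beq (wt (m ||| m')) 8))

theorem inSext_iff {m m' : Nat} (hm : m < 2 ^ 24) (hm' : m' < 2 ^ 24) :
    toSet m' ∈ sextOf (toSet m) ↔ inSext m m' = true := by
  have e1 : toSet m' = toSet m ↔ m' = m := ⟨toSet_inj hm' hm, fun h => by rw [h]⟩
  have e2 : Disjoint (toSet m) (toSet m') ↔ m &&& m' = 0 := ⟨and_of_disj hm, disj_of_and⟩
  have e3 : toSet m ∪ toSet m' ∈ octads ↔ (isCW (m ||| m') = true ∧ wt (m ||| m') = 8) := by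
    rw [← toSet_or, mem_octads_iff, maskOf_toSet (Nat.or_lt_two_pow hm hm'), card_toSet]
  rw [mem_sextOf_iff, inSext, Bool.or_eq_true, Bool.and_eq_true, Bool.and_eq_true, nbeq_iff,
    nbeq_iff, nbeq_iff, e1, e2, e3]

theorem fixSext_iff {R : List Nat} (hR : inM24 R = true) {m : Nat} (hm : m ∈ tetL) :
    permOf R • sextOf (toSet m) = sextOf (toSet m) ↔ inSext m (permMask (tf R) m) = true := by
  have hP := isPerm_of_inM24 hR
  rw [smul_sextOf (permOf_mem_M24 hR) _ (tet_card hm), smul_toSet_permOf hP,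
    ← inSext_iff (tetL_spec hm).2.2 (permMask_lt' hP m), ← sextOf_eq_iff (tet_card hm)]
  exact eq_comm

theorem ncard_fix_sext {R : List Nat} (hR : inM24 R = true) :
    {S : Finset (Finset GolayPt) | S ∈ sextets ∧ permOf R • S = S}.ncard =
      (tetL.filter fun m => inSext m (permMask (tf R) m)).length :=
  ncard_sext _ _ fun _ hm => fixSext_iff hR hm

/-- the four counts for a conjugate of a given permutation -/
theorem fix_counts {g k : Equiv.Perm GolayPt} (hk : k ∈ M24) {R : List Nat}
    (hR : inM24 R = true) (h : k * g * k⁻¹ = permOf R) :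
    {o : Finset GolayPt | o ∈ octads ∧ g • o = o}.ncard =
      (countPow 12 0 fun m => Nat.beq (wt (encode m)) 8 &&
        Nat.beq (permMask (tf R) (encode m)) (encode m)) ∧
    {T : Finset (Finset GolayPt) | T ∈ trios ∧ g • T = T}.ncard =
      (trioL.filter (fixTrio R)).length ∧
    {S : Finset (Finset GolayPt) | S ∈ sextets ∧ g • S = S}.ncard =
      (tetL.filter fun m => inSext m (permMask (tf R) m)).length ∧
    {d : Finset GolayPt | d ∈ dodecads ∧ g • d = d}.ncard =
      (countPow 12 0 fun m => Nat.beq (wt (encode m)) 12 &&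
        Nat.beq (permMask (tf R) (encode m)) (encode m)) := by
  have hP := isPerm_of_inM24 hR
  refine ⟨?_, ?_, ?_, ?_⟩
  · rw [ncard_fix_conj octads k g _ h (fun X => smul_mem_octads_iff hk)]
    exact ncard_fix_cw hP 8
  · rw [ncard_fix_conj trios k g _ h (fun X => smul_mem_trios_iff hk)]
    exact ncard_fix_trio hP
  · rw [ncard_fix_conj sextets k g _ h (fun X => smul_mem_sextets_iff hk)]
    exact ncard_fix_sext hR
  · rw [ncard_fix_conj dodecads k g _ h (fun X => smul_mem_dodecads_iff hk)]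
    exact ncard_fix_cw hP 12

end Golay
end Cfsg.Agent.Helper28
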