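import Mathlib
import Cfsg.Prelude.Def_CaseTheorems

set_option autoImplicit false

namespace Cfsg.Agent.Helper28
namespace GLComp

/-! ### A normal quasisimple subgroup of even order gives a component modulo the odd core -/

theorem oddCore_max (H : Type*) [Group H] [Finite H] :
    (Cfsg.oddCore H).Normal ∧ (Nat.card ↥(Cfsg.oddCore H)).Coprime 2 := by
  classical
  have hbot : (⊥ : Subgroup H) ∈ {N : Subgroup H | N.Normal ∧ (Nat.card N).Coprime 2} :=
    ⟨Subgroup.normal_bot, by rw [Subgroup.card_bot]; exact Nat.coprime_one_left 2⟩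
  have : Nonempty ↥{N : Subgroup H | N.Normal ∧ (Nat.card N).Coprime 2} := ⟨⟨⊥, hbot⟩⟩
  obtain ⟨N0, hN0⟩ := Finite.exists_max
    (fun N : ↥{N : Subgroup H | N.Normal ∧ (Nat.card N).Coprime 2} => Nat.card ↥N.1)
  have hle : ∀ N ∈ {N : Subgroup H | N.Normal ∧ (Nat.card N).Coprime 2}, N ≤ N0.1 := by
    intro N hN
    have := N0.2.1
    have := hN.1
    have hsup : N0.1 ⊔ N ∈ {N : Subgroup H | N.Normal ∧ (Nat.card N).Coprime 2} := by
      refine ⟨inferInstance, ?_⟩
      have h1 : Nat.card ↥N0.1 * N0.1.relIndex (N0.1 ⊔ N) = Nat.card ↥(N0.1 ⊔ N) := by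
        have h := Subgroup.relIndex_mul_relIndex (H := (⊥ : Subgroup H)) (K := N0.1)
          (L := N0.1 ⊔ N) bot_le le_sup_left
        rwa [Subgroup.relIndex_bot_left, Subgroup.relIndex_bot_left] at h
      show (Nat.card ↥(N0.1 ⊔ N)).Coprime 2
      rw [← h1, Subgroup.relIndex_sup_left]
      exact Nat.Coprime.mul_left N0.2.2
        (Nat.Coprime.coprime_dvd_left (Subgroup.relIndex_dvd_card _ _) hN.2)
    have h2 := hN0 ⟨N0.1 ⊔ N, hsup⟩
    have h3 : N0.1 = N0.1 ⊔ N := Subgroup.eq_of_le_of_card_ge le_sup_left h2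
    rw [h3]
    exact le_sup_right
  have heq : Cfsg.oddCore H = N0.1 := le_antisymm (sSup_le hle) (le_sSup N0.2)
  rw [heq]
  exact N0.2

theorem oddCore_inv {H : Type*} [Group H] [Finite H] {x : H} (hx : x ∈ Cfsg.oddCore H)
    (h2 : x * x = 1) : x = 1 := by
  have hc := (oddCore_max H).2
  have h3 : orderOf (⟨x, hx⟩ : ↥(Cfsg.oddCore H)) ∣ Nat.card ↥(Cfsg.oddCore H) :=
    orderOf_dvd_natCard _
  have h4 : orderOf (⟨x, hx⟩ : ↥(Cfsg.oddCore H)) ∣ 2 :=
    orderOf_dvd_of_pow_eq_one (Subtype.ext (by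
      rw [Subgroup.coe_pow, pow_two]
      exact h2))
  have h5 : orderOf (⟨x, hx⟩ : ↥(Cfsg.oddCore H)) = 1 :=
    Nat.eq_one_of_dvd_coprimes hc h3 h4
  exact congrArg Subtype.val (orderOf_eq_one_iff.1 h5)

theorem hasComponent_of_hom {H K : Type*} [Group H] [Finite H] [Group K]
    (f : K →* H) (hn : f.range.Normal) (hperf : Group.IsPerfect K)
    (hsimple : IsSimpleGroup (K ⧸ Subgroup.center K))
    (k0 : K) (hk0 : k0 * k0 = 1) (hk1 : f k0 ≠ 1) :
    Cfsg.HasComponent (H ⧸ Cfsg.oddCore H) := by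
  have hfin : Finite H := inferInstance
  have hg : ∃ g : K →* H ⧸ Cfsg.oddCore H, g = (QuotientGroup.mk' (Cfsg.oddCore H)).comp f :=
    ⟨_, rfl⟩
  obtain ⟨g, hgdef⟩ := hg
  have hperf' : Group.IsPerfect ↥g.range := Group.IsPerfect.range g
  have hgk : g k0 ≠ 1 := by
    intro h
    rw [hgdef, MonoidHom.comp_apply, QuotientGroup.mk'_apply, QuotientGroup.eq_one_iff] at h
    exact hk1 (oddCore_inv h (by rw [← map_mul, hk0, map_one]))
  refine ⟨g.range, ?_, hperf', ?_⟩
  · have h1 : g.range = f.range.map (QuotientGroup.mk' (Cfsg.oddCore H)) := by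
      rw [hgdef, MonoidHom.range_eq_map, MonoidHom.range_eq_map, ← Subgroup.map_map]
    rw [h1]
    exact (Subgroup.Normal.map hn _ (QuotientGroup.mk'_surjective _)).isSubnormal
  · have hg' : Function.Surjective g.rangeRestrict := g.rangeRestrict_surjective
    have hcen : Subgroup.center K ≤ (Subgroup.center ↥g.range).comap g.rangeRestrict := by
      intro z hz
      rw [Subgroup.mem_comap, Subgroup.mem_center_iff]
      intro y
      obtain ⟨k, rfl⟩ := hg' y
      rw [← map_mul, ← map_mul, Subgroup.mem_center_iff.1 hz k]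
    have hφ : Function.Surjective (QuotientGroup.map (Subgroup.center K)
        (Subgroup.center ↥g.range) g.rangeRestrict hcen) := by
      intro y
      obtain ⟨y', rfl⟩ := QuotientGroup.mk_surjective y
      obtain ⟨k, rfl⟩ := hg' y'
      exact ⟨QuotientGroup.mk k, rfl⟩
    have : Nontrivial (↥g.range ⧸ Subgroup.center ↥g.range) := by
      by_contra hnt
      rw [not_nontrivial_iff_subsingleton] at hnt
      have htop : Subgroup.center ↥g.range = ⊤ :=
        QuotientGroup.subgroup_eq_top_of_subsingleton _ hnt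
      have : IsMulCommutative ↥g.range := ⟨⟨fun a b =>
        Subgroup.mem_center_iff.1 (by rw [htop]; exact Subgroup.mem_top b) a⟩⟩
      have : Subsingleton ↥g.range := Group.IsPerfect.subsingleton_of_isMulCommutative
      have h1 : (⟨g k0, ⟨k0, rfl⟩⟩ : ↥g.range) = 1 := Subsingleton.elim _ _
      exact hgk (congrArg Subtype.val h1)
    exact IsSimpleGroup.isSimpleGroup_of_surjective _ hφ

end GLComp
end Cfsg.Agent.Helper28
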