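import Mathlib
import Cfsg.Agent.Helper28.GLCompA
import Cfsg.Agent.S0248
import Cfsg.Agent.S0249

set_option autoImplicit false

namespace Cfsg.Agent.Helper28
namespace GLComp

open Matrix

/-! ### A component of the centralizer of a reflection-like involution in the general linear group -/

section blocks

variable {F : Type*} [Field F]

/-- the block diagonal matrix with a scalar and a square block -/
def blkd {m : ℕ} (a : F) (A : Matrix (Fin m) (Fin m) F) :
    Matrix (Fin (m + 1)) (Fin (m + 1)) F :=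
  Matrix.of (fun i j => (Fin.cases (Fin.cases a (fun _ => 0) j : F)
    (fun i' => (Fin.cases 0 (fun j' => A i' j') j : F)) i : F))

theorem blkd_zz {m : ℕ} (a : F) (A : Matrix (Fin m) (Fin m) F) : blkd a A 0 0 = a := rfl

theorem blkd_zs {m : ℕ} (a : F) (A : Matrix (Fin m) (Fin m) F) (j : Fin m) :
    blkd a A 0 j.succ = 0 := by
  simp [blkd]

theorem blkd_sz {m : ℕ} (a : F) (A : Matrix (Fin m) (Fin m) F) (i : Fin m) :
    blkd a A i.succ 0 = 0 := by
  simp [blkd]

theorem blkd_ss {m : ℕ} (a : F) (A : Matrix (Fin m) (Fin m) F) (i j : Fin m) :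
    blkd a A i.succ j.succ = A i j := by
  simp [blkd]

theorem blkd_mul {m : ℕ} (a b : F) (A B : Matrix (Fin m) (Fin m) F) :
    blkd a A * blkd b B = blkd (a * b) (A * B) := by
  ext i j
  refine Fin.cases ?_ (fun i' => ?_) i <;> refine Fin.cases ?_ (fun j' => ?_) j <;>
    simp [Matrix.mul_apply, Fin.sum_univ_succ, blkd_zz, blkd_zs, blkd_sz, blkd_ss]

theorem blkd_one {m : ℕ} : blkd (1 : F) (1 : Matrix (Fin m) (Fin m) F) = 1 := by
  ext i j
  refine Fin.cases ?_ (fun i' => ?_) i <;> refine Fin.cases ?_ (fun j' => ?_) j <;>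
    simp [blkd_zz, blkd_zs, blkd_sz, blkd_ss, Matrix.one_apply, Fin.succ_ne_zero,
      (Fin.succ_ne_zero _).symm]

theorem blkd_inj {m : ℕ} {a b : F} {A B : Matrix (Fin m) (Fin m) F}
    (h : blkd a A = blkd b B) : a = b ∧ A = B := by
  refine ⟨?_, ?_⟩
  · have h1 := congrFun (congrFun h 0) 0
    rwa [blkd_zz, blkd_zz] at h1
  · ext i j
    have h1 := congrFun (congrFun h i.succ) j.succ
    rwa [blkd_ss, blkd_ss] at h1

theorem eq_blkd {m : ℕ} (M : Matrix (Fin (m + 1)) (Fin (m + 1)) F)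
    (h0 : ∀ j : Fin m, M 0 j.succ = 0) (h1 : ∀ i : Fin m, M i.succ 0 = 0) :
    M = blkd (M 0 0) (M.submatrix Fin.succ Fin.succ) := by
  ext i j
  refine Fin.cases ?_ (fun i' => ?_) i <;> refine Fin.cases ?_ (fun j' => ?_) j <;>
    simp [blkd_zz, blkd_zs, blkd_sz, blkd_ss, h0, h1]

/-- the diagonal of the involution -/
def dvec (m : ℕ) : Fin (m + 1) → F := fun i => (Fin.cases (-1) (fun _ => 1) i : F)

theorem dvec_z (m : ℕ) : (dvec m : Fin (m + 1) → F) 0 = -1 := rfl

theorem dvec_s (m : ℕ) (i : Fin m) : (dvec m : Fin (m + 1) → F) i.succ = 1 := by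
  simp [dvec]

theorem diag_eq_blkd (m : ℕ) :
    Matrix.diagonal (dvec m : Fin (m + 1) → F) = blkd (-1) (1 : Matrix (Fin m) (Fin m) F) := by
  ext i j
  refine Fin.cases ?_ (fun i' => ?_) i <;> refine Fin.cases ?_ (fun j' => ?_) j <;>
    simp [blkd_zz, blkd_zs, blkd_sz, blkd_ss, Matrix.diagonal_apply, Matrix.one_apply,
      Fin.succ_ne_zero, (Fin.succ_ne_zero _).symm, dvec_z, dvec_s]

theorem blk_of_comm {m : ℕ} (h2 : (2 : F) ≠ 0) (M : Matrix (Fin (m + 1)) (Fin (m + 1)) F)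
    (hc : Matrix.diagonal (dvec m : Fin (m + 1) → F) * M =
      M * Matrix.diagonal (dvec m : Fin (m + 1) → F)) :
    M = blkd (M 0 0) (M.submatrix Fin.succ Fin.succ) := by
  apply eq_blkd
  · intro j
    have h := congrFun (congrFun hc 0) j.succ
    rw [Matrix.diagonal_mul, Matrix.mul_diagonal, dvec_z, dvec_s] at h
    have h3 : (2 : F) * M 0 j.succ = 0 := by linear_combination -h
    exact (mul_eq_zero.1 h3).resolve_left h2
  · intro i
    have h := congrFun (congrFun hc i.succ) 0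
    rw [Matrix.diagonal_mul, Matrix.mul_diagonal, dvec_z, dvec_s] at h
    have h3 : (2 : F) * M i.succ 0 = 0 := by linear_combination h
    exact (mul_eq_zero.1 h3).resolve_left h2

theorem diag_sq (m : ℕ) : Matrix.diagonal (dvec m : Fin (m + 1) → F) *
    Matrix.diagonal (dvec m : Fin (m + 1) → F) = 1 := by
  rw [diag_eq_blkd, blkd_mul, Matrix.one_mul, neg_mul_neg, one_mul, blkd_one]

/-- the involution -/
def tG (m : ℕ) : Matrix.GeneralLinearGroup (Fin (m + 1)) F :=
  ⟨Matrix.diagonal (dvec m), Matrix.diagonal (dvec m), diag_sq m, diag_sq m⟩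

/-- the block embedding of the special linear group, into matrices -/
def f0 (m : ℕ) : Matrix.SpecialLinearGroup (Fin m) F →* Matrix (Fin (m + 1)) (Fin (m + 1)) F where
  toFun A := blkd 1 A.1
  map_one' := blkd_one
  map_mul' A B := by
    show blkd 1 (A.1 * B.1) = blkd 1 A.1 * blkd 1 B.1
    rw [blkd_mul, one_mul]

/-- the block embedding of the special linear group -/
def fGL (m : ℕ) : Matrix.SpecialLinearGroup (Fin m) F →* Matrix.GeneralLinearGroup (Fin (m + 1)) F :=
  (f0 m).toHomUnits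

theorem fGL_val (m : ℕ) (A : Matrix.SpecialLinearGroup (Fin m) F) :
    ((fGL m A : Matrix.GeneralLinearGroup (Fin (m + 1)) F) : Matrix (Fin (m + 1)) (Fin (m + 1)) F) =
      blkd 1 A.1 := rfl

theorem fGL_mem (m : ℕ) (A : Matrix.SpecialLinearGroup (Fin m) F) :
    fGL m A ∈ Subgroup.centralizer ({tG m} : Set (Matrix.GeneralLinearGroup (Fin (m + 1)) F)) := by
  rw [Subgroup.mem_centralizer_iff]
  intro h hh
  rw [Set.mem_singleton_iff.1 hh]
  apply Units.ext
  show Matrix.diagonal (dvec m) * blkd 1 A.1 = blkd 1 A.1 * Matrix.diagonal (dvec m)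
  rw [diag_eq_blkd, blkd_mul, blkd_mul, Matrix.one_mul, Matrix.mul_one, mul_one, one_mul]

/-- the block embedding of the special linear group, into the centralizer -/
def fC (m : ℕ) : Matrix.SpecialLinearGroup (Fin m) F →*
    ↥(Subgroup.centralizer ({tG m} : Set (Matrix.GeneralLinearGroup (Fin (m + 1)) F))) :=
  (fGL m).codRestrict _ (fGL_mem m)

theorem fC_normal (h2 : (2 : F) ≠ 0) (m : ℕ) : (fC (F := F) m).range.Normal := by
  refine ⟨fun k hk h => ?_⟩
  obtain ⟨A, rfl⟩ := hk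
  have hcM : Matrix.diagonal (dvec m : Fin (m + 1) → F) *
      ((h.1 : Matrix.GeneralLinearGroup (Fin (m + 1)) F) : Matrix (Fin (m + 1)) (Fin (m + 1)) F) =
      ((h.1 : Matrix.GeneralLinearGroup (Fin (m + 1)) F) : Matrix (Fin (m + 1)) (Fin (m + 1)) F) *
        Matrix.diagonal (dvec m : Fin (m + 1) → F) :=
    congrArg Units.val (Subgroup.mem_centralizer_iff.1 h.2 (tG m) rfl)
  have hcI : Matrix.diagonal (dvec m : Fin (m + 1) → F) *
      (((h.1)⁻¹ : Matrix.GeneralLinearGroup (Fin (m + 1)) F) :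
        Matrix (Fin (m + 1)) (Fin (m + 1)) F) =
      (((h.1)⁻¹ : Matrix.GeneralLinearGroup (Fin (m + 1)) F) :
        Matrix (Fin (m + 1)) (Fin (m + 1)) F) *
        Matrix.diagonal (dvec m : Fin (m + 1) → F) :=
    congrArg Units.val (Subgroup.mem_centralizer_iff.1 (h⁻¹).2 (tG m) rfl)
  have eM := blk_of_comm h2 _ hcM
  have eI := blk_of_comm h2 _ hcI
  have hmul : ((h.1 : Matrix.GeneralLinearGroup (Fin (m + 1)) F) :
      Matrix (Fin (m + 1)) (Fin (m + 1)) F) *
      (((h.1)⁻¹ : Matrix.GeneralLinearGroup (Fin (m + 1)) F) :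
        Matrix (Fin (m + 1)) (Fin (m + 1)) F) = 1 := Units.mul_inv h.1
  rw [eM, eI, blkd_mul, ← blkd_one] at hmul
  obtain ⟨haa, hBB⟩ := blkd_inj hmul
  have hdet : (((h.1 : Matrix.GeneralLinearGroup (Fin (m + 1)) F) :
      Matrix (Fin (m + 1)) (Fin (m + 1)) F).submatrix Fin.succ Fin.succ * A.1 *
      ((((h.1)⁻¹ : Matrix.GeneralLinearGroup (Fin (m + 1)) F) :
        Matrix (Fin (m + 1)) (Fin (m + 1)) F).submatrix Fin.succ Fin.succ)).det = 1 := by
    rw [Matrix.det_mul, Matrix.det_mul, A.2, mul_one, ← Matrix.det_mul, hBB, Matrix.det_one]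
  refine ⟨⟨_, hdet⟩, ?_⟩
  apply Subtype.ext
  apply Units.ext
  show blkd 1 _ = ((h.1 : Matrix.GeneralLinearGroup (Fin (m + 1)) F) :
      Matrix (Fin (m + 1)) (Fin (m + 1)) F) * blkd 1 A.1 *
      (((h.1)⁻¹ : Matrix.GeneralLinearGroup (Fin (m + 1)) F) :
        Matrix (Fin (m + 1)) (Fin (m + 1)) F)
  conv_rhs => rw [eM, eI, blkd_mul, blkd_mul, mul_one, haa]

end blocks

end GLComp
end Cfsg.Agent.Helper28
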