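import Mathlib
import Cfsg.Agent.Helper28.GLCompB

set_option autoImplicit false

namespace Cfsg.Agent.Helper28
namespace GLComp

open Matrix

/-! ### The component of the centralizer: the final statement -/

section final

variable {F : Type*} [Field F]

/-- the diagonal of an involution of the special linear group -/
def kvec (m : ℕ) : Fin (m + 2) → F :=
  fun i => (Fin.cases (-1) (fun i' => (Fin.cases (-1) (fun _ => 1) i' : F)) i : F)

theorem kvec_z (m : ℕ) : (kvec m : Fin (m + 2) → F) 0 = -1 := rfl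

theorem kvec_sz (m : ℕ) : (kvec m : Fin (m + 2) → F) (Fin.succ 0) = -1 := by
  show (Fin.cases (-1) (fun i' => (Fin.cases (-1) (fun _ => 1) i' : F)) (Fin.succ 0) : F) = -1
  rw [Fin.cases_succ]
  rfl

theorem kvec_ss (m : ℕ) (i : Fin m) :
    (kvec m : Fin (m + 2) → F) (Fin.succ (Fin.succ i)) = 1 := by
  show (Fin.cases (-1) (fun i' => (Fin.cases (-1) (fun _ => 1) i' : F))
    (Fin.succ (Fin.succ i)) : F) = 1
  rw [Fin.cases_succ, Fin.cases_succ]

theorem kvec_sq (m : ℕ) (i : Fin (m + 2)) : (kvec m i : F) * kvec m i = 1 := by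
  refine Fin.cases ?_ (fun i' => ?_) i
  · rw [kvec_z, neg_mul_neg, one_mul]
  · refine Fin.cases ?_ (fun i'' => ?_) i'
    · rw [kvec_sz, neg_mul_neg, one_mul]
    · rw [kvec_ss, one_mul]

theorem kvec_prod (m : ℕ) : ∏ i, (kvec m i : F) = 1 := by
  rw [Fin.prod_univ_succ, Fin.prod_univ_succ, kvec_z, kvec_sz]
  simp only [kvec_ss, Finset.prod_const_one]
  rw [mul_one, neg_mul_neg, one_mul]

/-- an involution of the special linear group -/
def k0 (m : ℕ) : Matrix.SpecialLinearGroup (Fin (m + 2)) F :=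
  ⟨Matrix.diagonal (kvec m), by rw [Matrix.det_diagonal, kvec_prod]⟩

theorem k0_sq (m : ℕ) : (k0 m : Matrix.SpecialLinearGroup (Fin (m + 2)) F) * k0 m = 1 := by
  apply Subtype.ext
  show Matrix.diagonal (kvec m) * Matrix.diagonal (kvec m) = 1
  rw [Matrix.diagonal_mul_diagonal, ← Matrix.diagonal_one]
  congr 1
  funext i
  exact kvec_sq m i

theorem fC_k0 (h2 : (2 : F) ≠ 0) (m : ℕ) : fC (m + 2) (k0 (F := F) m) ≠ 1 := by
  intro h
  have h1 : ((fGL (m + 2) (k0 (F := F) m) : Matrix.GeneralLinearGroup (Fin (m + 2 + 1)) F) :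
      Matrix (Fin (m + 2 + 1)) (Fin (m + 2 + 1)) F) = 1 :=
    congrArg (fun x : ↥(Subgroup.centralizer
      ({tG (m + 2)} : Set (Matrix.GeneralLinearGroup (Fin (m + 2 + 1)) F))) =>
        ((x.1 : Matrix.GeneralLinearGroup (Fin (m + 2 + 1)) F) :
          Matrix (Fin (m + 2 + 1)) (Fin (m + 2 + 1)) F)) h
  rw [fGL_val] at h1
  have h3 := congrFun (congrFun h1 (Fin.succ 0)) (Fin.succ 0)
  rw [blkd_ss, Matrix.one_apply_eq] at h3
  have h4 : (k0 (F := F) m).1 0 0 = -1 := by
    show Matrix.diagonal (kvec m) 0 0 = -1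
    rw [Matrix.diagonal_apply_eq]
    rfl
  rw [h4] at h3
  apply h2
  linear_combination -h3

theorem tG_order (h2 : (2 : F) ≠ 0) [DecidableEq F] (m : ℕ) : orderOf (tG (F := F) m) = 2 := by
  apply orderOf_eq_prime
  · apply Units.ext
    rw [pow_two]
    exact diag_sq m
  · intro h
    have h1 : Matrix.diagonal (dvec m : Fin (m + 1) → F) = 1 := congrArg Units.val h
    have h3 := congrFun (congrFun h1 0) 0
    rw [Matrix.diagonal_apply_eq, Matrix.one_apply_eq, dvec_z] at h3
    apply h2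
    linear_combination -h3

theorem tG_not_center (h2 : (2 : F) ≠ 0) (m : ℕ) :
    tG (F := F) (m + 1) ∉ Subgroup.center (Matrix.GeneralLinearGroup (Fin (m + 1 + 1)) F) := by
  intro hc
  have hne : (0 : Fin (m + 1 + 1)) ≠ Fin.succ 0 := (Fin.succ_ne_zero _).symm
  have hu : Matrix.transvection (0 : Fin (m + 1 + 1)) (Fin.succ 0) (1 : F) *
      Matrix.transvection (0 : Fin (m + 1 + 1)) (Fin.succ 0) (-1 : F) = 1 := by
    rw [Matrix.transvection_mul_transvection_same _ _ hne, add_neg_cancel, Matrix.transvection_zero]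
  have hu' : Matrix.transvection (0 : Fin (m + 1 + 1)) (Fin.succ 0) (-1 : F) *
      Matrix.transvection (0 : Fin (m + 1 + 1)) (Fin.succ 0) (1 : F) = 1 := by
    rw [Matrix.transvection_mul_transvection_same _ _ hne, neg_add_cancel, Matrix.transvection_zero]
  have h := Subgroup.mem_center_iff.1 hc
    (⟨Matrix.transvection (0 : Fin (m + 1 + 1)) (Fin.succ 0) (1 : F), _, hu, hu'⟩ :
      Matrix.GeneralLinearGroup (Fin (m + 1 + 1)) F)
  have h1 : Matrix.transvection (0 : Fin (m + 1 + 1)) (Fin.succ 0) (1 : F) *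
      Matrix.diagonal (dvec (m + 1) : Fin (m + 1 + 1) → F) =
      Matrix.diagonal (dvec (m + 1) : Fin (m + 1 + 1) → F) *
        Matrix.transvection (0 : Fin (m + 1 + 1)) (Fin.succ 0) (1 : F) := congrArg Units.val h
  have h3 := congrFun (congrFun h1 0) (Fin.succ 0)
  rw [Matrix.diagonal_mul, Matrix.mul_diagonal, dvec_z, dvec_s] at h3
  have h4 : Matrix.transvection (0 : Fin (m + 1 + 1)) (Fin.succ 0) (1 : F) 0 (Fin.succ 0) = 1 := by
    simp [Matrix.transvection]
  rw [h4] at h3
  apply h2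
  linear_combination h3

theorem exists_sq_ne_one [Fintype F] [DecidableEq F] (hF : 4 ≤ Fintype.card F) :
    ∃ a : F, a ≠ 0 ∧ a ^ 2 ≠ 1 := by
  by_contra hcon
  push Not at hcon
  have hsub : (Finset.univ : Finset F) ⊆ {0, 1, -1} := by
    intro a _
    by_cases ha : a = 0
    · simp [ha]
    · rcases sq_eq_one_iff.1 (hcon a ha) with h | h
      · simp [h]
      · simp [h]
  have h1 := Finset.card_le_card hsub
  have h2 : ({0, 1, -1} : Finset F).card ≤ 3 := Finset.card_le_three
  rw [Finset.card_univ] at h1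
  omega

theorem sl_perfect [Fintype F] [DecidableEq F] (m : ℕ) (h : m = 0 → 4 ≤ Fintype.card F) :
    Group.IsPerfect (Matrix.SpecialLinearGroup (Fin (m + 2)) F) := by
  cases m with
  | zero =>
    obtain ⟨a, ha, hasq⟩ := exists_sq_ne_one (h rfl)
    exact ⟨SL2.commutator_eq_top ha hasq⟩
  | succ k => exact ⟨Cfsg.Agent.S0248.result (k + 1 + 2) (by omega)⟩

theorem psl_simple [Fintype F] [DecidableEq F] (m : ℕ) (h : m = 0 → 4 ≤ Fintype.card F) :
    IsSimpleGroup (Matrix.SpecialLinearGroup (Fin (m + 2)) F ⧸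
      Subgroup.center (Matrix.SpecialLinearGroup (Fin (m + 2)) F)) := by
  cases m with
  | zero =>
    have h4 : 4 ≤ Nat.card F := by
      rw [Nat.card_eq_fintype_card]
      exact h rfl
    exact Matrix.ProjectiveSpecialLinearGroup.rank_two_simple h4
  | succ k => exact Cfsg.Agent.S0249.result (k + 1 + 2) (by omega)

theorem gl_component [Fintype F] [DecidableEq F] (hF : Odd (Fintype.card F)) (m : ℕ)
    (h33 : ¬ (m + 2 + 1 = 3 ∧ Fintype.card F = 3)) :
    ∃ t : Matrix.GeneralLinearGroup (Fin (m + 2 + 1)) F, orderOf t = 2 ∧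
      t ∉ Subgroup.center (Matrix.GeneralLinearGroup (Fin (m + 2 + 1)) F) ∧
      Cfsg.HasComponent (↥(Subgroup.centralizer
        ({t} : Set (Matrix.GeneralLinearGroup (Fin (m + 2 + 1)) F))) ⧸
        Cfsg.oddCore ↥(Subgroup.centralizer
          ({t} : Set (Matrix.GeneralLinearGroup (Fin (m + 2 + 1)) F)))) := by
  have hchar : ringChar F ≠ 2 := by
    intro hc
    have h := FiniteField.even_card_of_char_two hc
    rw [Nat.odd_iff] at hF
    omega
  have h2 : (2 : F) ≠ 0 := Ring.two_ne_zero hchar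
  have h4 : m = 0 → 4 ≤ Fintype.card F := by
    intro hm
    have h1 : 1 < Fintype.card F := Fintype.one_lt_card
    have h3 : Fintype.card F ≠ 3 := fun h => h33 ⟨by omega, h⟩
    rw [Nat.odd_iff] at hF
    omega
  refine ⟨tG (m + 2), tG_order h2 (m + 2), tG_not_center h2 (m + 1), ?_⟩
  exact hasComponent_of_hom (fC (m + 2)) (fC_normal h2 (m + 2)) (sl_perfect m h4)
    (psl_simple m h4) (k0 m) (k0_sq m) (fC_k0 h2 m)

end final

end GLComp
end Cfsg.Agent.Helper28
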