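import Mathlib

set_option autoImplicit false

namespace Cfsg.Agent.Helper28

/-- orbits of a stabiliser are the classes of an equivariant class function once every member of
the family can be moved to the representative of its class by the stabiliser of a base object -/
theorem orbit_classes {G A β : Type*} [Group G] [MulAction G A] [MulAction G β]
    (Fam : Set β) (hFam : ∀ (g : G) X, X ∈ Fam → g • X ∈ Fam)
    (c : A → β → ℕ) (hc : ∀ (g : G) x X, c (g • x) (g • X) = c x X)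
    (x0 : A) (rep : ℕ → β)
    (hcert : ∀ X ∈ Fam, ∃ g : G, g • x0 = x0 ∧ g • X = rep (c x0 X))
    (x : A) (σ : G) (hx : σ • x = x0) :
    (∀ X ∈ Fam, MulAction.orbit ↥(MulAction.stabilizer G x) X =
      {Y | Y ∈ Fam ∧ c x Y = c x X}) ∧
    (∀ v, {X | X ∈ Fam ∧ c x X = v}.ncard = {X | X ∈ Fam ∧ c x0 X = v}.ncard) := by
  have hcx : ∀ X, c x X = c x0 (σ • X) := fun X => by rw [← hx, hc]
  constructor
  · intro X hX
    ext Y
    constructor
    · rintro ⟨⟨h, hh⟩, rfl⟩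
      have e : h • x = x := hh
      refine ⟨hFam h X hX, ?_⟩
      show c x (h • X) = c x X
      nth_rewrite 1 [← e]
      exact hc h x X
    · rintro ⟨hY, hcY⟩
      obtain ⟨g1, hg1, e1⟩ := hcert (σ • X) (hFam σ X hX)
      obtain ⟨g2, hg2, e2⟩ := hcert (σ • Y) (hFam σ Y hY)
      rw [← hcx] at e1 e2
      rw [hcY] at e2
      refine ⟨⟨σ⁻¹ * g2⁻¹ * g1 * σ, ?_⟩, ?_⟩
      · rw [MulAction.mem_stabilizer_iff, mul_smul, mul_smul, mul_smul, hx, hg1, inv_smul_eq_iff,
          hx, inv_smul_eq_iff, hg2]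
      · show (σ⁻¹ * g2⁻¹ * g1 * σ) • X = Y
        rw [mul_smul, mul_smul, mul_smul, e1, ← e2, inv_smul_smul, inv_smul_smul]
  · intro v
    have himg : {X | X ∈ Fam ∧ c x0 X = v} = (fun X => σ • X) '' {X | X ∈ Fam ∧ c x X = v} := by
      ext Y
      constructor
      · rintro ⟨hY, hcY⟩
        refine ⟨σ⁻¹ • Y, ⟨hFam _ _ hY, ?_⟩, smul_inv_smul σ Y⟩
        rw [hcx, smul_inv_smul]
        exact hcY
      · rintro ⟨X, ⟨hX, hcX⟩, rfl⟩
        exact ⟨hFam σ X hX, by rw [← hcx]; exact hcX⟩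
    rw [himg, Set.ncard_image_of_injective _ (MulAction.injective σ)]

theorem ncard_classes {β : Type*} (Fam : Set β) (hfin : Fam.Finite) (c : β → ℕ) :
    ∀ vs : List ℕ, vs.Nodup → {X | X ∈ Fam ∧ c X ∈ vs}.ncard =
      (vs.map fun v => {X | X ∈ Fam ∧ c X = v}.ncard).sum
  | [], _ => by simp
  | v :: vs, hnd => by
    rw [List.nodup_cons] at hnd
    have e : {X | X ∈ Fam ∧ c X ∈ v :: vs} =
        {X | X ∈ Fam ∧ c X = v} ∪ {X | X ∈ Fam ∧ c X ∈ vs} := by
      ext X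
      simp only [Set.mem_ofPred_eq, List.mem_cons, Set.mem_union]
      tauto
    have hdis : Disjoint {X | X ∈ Fam ∧ c X = v} {X | X ∈ Fam ∧ c X ∈ vs} := by
      rw [Set.disjoint_left]
      rintro X ⟨-, h1⟩ ⟨-, h2⟩
      exact hnd.1 (h1 ▸ h2)
    rw [e, Set.ncard_union_eq hdis (hfin.subset fun X hX => hX.1) (hfin.subset fun X hX => hX.1),
      ncard_classes Fam hfin c vs hnd.2, List.map_cons, List.sum_cons]

/-- if the sizes of the listed classes add up to the size of the family, every member lies in a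
listed class -/
theorem cover_of_counts {β : Type*} (Fam : Set β) (hfin : Fam.Finite) (c : β → ℕ) (vs : List ℕ)
    (hnd : vs.Nodup)
    (hsum : (vs.map fun v => {X | X ∈ Fam ∧ c X = v}.ncard).sum = Fam.ncard) :
    ∀ X ∈ Fam, c X ∈ vs := by
  have h1 := ncard_classes Fam hfin c vs hnd
  rw [hsum] at h1
  have h2 : {X | X ∈ Fam ∧ c X ∈ vs} = Fam :=
    Set.eq_of_subset_of_ncard_le (fun X hX => hX.1) (le_of_eq h1.symm) hfin
  intro X hX
  rw [← h2] at hX
  exact hX.2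

theorem exists_of_count {β : Type*} (Fam : Set β) (c : β → ℕ) (v n : ℕ)
    (h : {X | X ∈ Fam ∧ c X = v}.ncard = n) (hp : 0 < n) : ∃ X ∈ Fam, c X = v := by
  have hne : {X | X ∈ Fam ∧ c X = v}.Nonempty := by
    apply Set.nonempty_of_ncard_ne_zero
    rw [h]
    exact hp.ne'
  obtain ⟨X, hX⟩ := hne
  exact ⟨X, hX.1, hX.2⟩

theorem three_orbits {H β : Type*} [Group H] [MulAction H β] (Fam : Set β) (hfin : Fam.Finite)
    (c : β → ℕ) (horb : ∀ X ∈ Fam, MulAction.orbit H X = {Y | Y ∈ Fam ∧ c Y = c X})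
    (v1 v2 v3 n1 n2 n3 : ℕ)
    (h1 : {X | X ∈ Fam ∧ c X = v1}.ncard = n1) (h2 : {X | X ∈ Fam ∧ c X = v2}.ncard = n2)
    (h3 : {X | X ∈ Fam ∧ c X = v3}.ncard = n3)
    (hp1 : 0 < n1) (hp2 : 0 < n2) (hp3 : 0 < n3) (hnd : [v1, v2, v3].Nodup)
    (hN : Fam.ncard = n1 + n2 + n3) :
    ∃ X₁ ∈ Fam, ∃ X₂ ∈ Fam, ∃ X₃ ∈ Fam, (MulAction.orbit H X₁).ncard = n1 ∧
      (MulAction.orbit H X₂).ncard = n2 ∧ (MulAction.orbit H X₃).ncard = n3 ∧
      Fam = MulAction.orbit H X₁ ∪ MulAction.orbit H X₂ ∪ MulAction.orbit H X₃ := by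
  obtain ⟨X1, hX1, e1⟩ := exists_of_count Fam c v1 n1 h1 hp1
  obtain ⟨X2, hX2, e2⟩ := exists_of_count Fam c v2 n2 h2 hp2
  obtain ⟨X3, hX3, e3⟩ := exists_of_count Fam c v3 n3 h3 hp3
  have hcov := cover_of_counts Fam hfin c [v1, v2, v3] hnd
    (by simp only [List.map_cons, List.map_nil, List.sum_cons, List.sum_nil, h1, h2, h3, hN]
        omega)
  refine ⟨X1, hX1, X2, hX2, X3, hX3, ?_, ?_, ?_, ?_⟩
  · rw [horb X1 hX1, e1]; exact h1
  · rw [horb X2 hX2, e2]; exact h2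
  · rw [horb X3 hX3, e3]; exact h3
  · rw [horb X1 hX1, horb X2 hX2, horb X3 hX3, e1, e2, e3]
    ext X
    simp only [Set.mem_union, Set.mem_ofPred_eq]
    constructor
    · intro hX
      have := hcov X hX
      simp only [List.mem_cons, List.mem_nil_iff, or_false] at this
      rcases this with h | h | h
      · exact Or.inl (Or.inl ⟨hX, h⟩)
      · exact Or.inl (Or.inr ⟨hX, h⟩)
      · exact Or.inr ⟨hX, h⟩
    · rintro ((h | h) | h) <;> exact h.1

theorem four_orbits {H β : Type*} [Group H] [MulAction H β] (Fam : Set β) (hfin : Fam.Finite)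
    (c : β → ℕ) (horb : ∀ X ∈ Fam, MulAction.orbit H X = {Y | Y ∈ Fam ∧ c Y = c X})
    (v1 v2 v3 v4 n1 n2 n3 n4 : ℕ)
    (h1 : {X | X ∈ Fam ∧ c X = v1}.ncard = n1) (h2 : {X | X ∈ Fam ∧ c X = v2}.ncard = n2)
    (h3 : {X | X ∈ Fam ∧ c X = v3}.ncard = n3) (h4 : {X | X ∈ Fam ∧ c X = v4}.ncard = n4)
    (hp1 : 0 < n1) (hp2 : 0 < n2) (hp3 : 0 < n3) (hp4 : 0 < n4) (hnd : [v1, v2, v3, v4].Nodup)
    (hN : Fam.ncard = n1 + n2 + n3 + n4) :
    ∃ X₁ ∈ Fam, ∃ X₂ ∈ Fam, ∃ X₃ ∈ Fam, ∃ X₄ ∈ Fam, (MulAction.orbit H X₁).ncard = n1 ∧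
      (MulAction.orbit H X₂).ncard = n2 ∧ (MulAction.orbit H X₃).ncard = n3 ∧
      (MulAction.orbit H X₄).ncard = n4 ∧
      Fam = MulAction.orbit H X₁ ∪ MulAction.orbit H X₂ ∪ MulAction.orbit H X₃ ∪
        MulAction.orbit H X₄ := by
  obtain ⟨X1, hX1, e1⟩ := exists_of_count Fam c v1 n1 h1 hp1
  obtain ⟨X2, hX2, e2⟩ := exists_of_count Fam c v2 n2 h2 hp2
  obtain ⟨X3, hX3, e3⟩ := exists_of_count Fam c v3 n3 h3 hp3
  obtain ⟨X4, hX4, e4⟩ := exists_of_count Fam c v4 n4 h4 hp4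
  have hcov := cover_of_counts Fam hfin c [v1, v2, v3, v4] hnd
    (by simp only [List.map_cons, List.map_nil, List.sum_cons, List.sum_nil, h1, h2, h3, h4, hN]
        omega)
  refine ⟨X1, hX1, X2, hX2, X3, hX3, X4, hX4, ?_, ?_, ?_, ?_, ?_⟩
  · rw [horb X1 hX1, e1]; exact h1
  · rw [horb X2 hX2, e2]; exact h2
  · rw [horb X3 hX3, e3]; exact h3
  · rw [horb X4 hX4, e4]; exact h4
  · rw [horb X1 hX1, horb X2 hX2, horb X3 hX3, horb X4 hX4, e1, e2, e3, e4]
    ext X
    simp only [Set.mem_union, Set.mem_ofPred_eq]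
    constructor
    · intro hX
      have := hcov X hX
      simp only [List.mem_cons, List.mem_nil_iff, or_false] at this
      rcases this with h | h | h | h
      · exact Or.inl (Or.inl (Or.inl ⟨hX, h⟩))
      · exact Or.inl (Or.inl (Or.inr ⟨hX, h⟩))
      · exact Or.inl (Or.inr ⟨hX, h⟩)
      · exact Or.inr ⟨hX, h⟩
    · rintro (((h | h) | h) | h) <;> exact h.1

/-- all pairs of corresponding members of two lists pass a test -/
def zipAll {κ τ : Type} (f : κ → τ → Bool) : List κ → List τ → Bool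
  | [], _ => true
  | _ :: _, [] => false
  | a :: l, b :: l' => f a b && zipAll f l l'

theorem zipAll_sound {κ τ : Type} (f : κ → τ → Bool) :
    ∀ (l : List κ) (l' : List τ), zipAll f l l' = true → ∀ a ∈ l, ∃ b, f a b = true
  | [], _, _, a, ha => absurd ha List.not_mem_nil
  | _ :: _, [], h, _, _ => by simp [zipAll] at h
  | x :: l, y :: l', h, a, ha => by
    rw [zipAll, Bool.and_eq_true] at h
    rw [List.mem_cons] at ha
    rcases ha with rfl | ha
    · exact ⟨y, h.1⟩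
    · exact zipAll_sound f l l' h.2 a ha

theorem mem_chunk {κ : Type} (l : List κ) (N : Nat) (hN : 0 < N) (a : κ) (ha : a ∈ l) :
    ∃ k, k * N < l.length ∧ a ∈ (l.drop (k * N)).take N := by
  obtain ⟨i, hi, rfl⟩ := List.mem_iff_getElem.1 ha
  have h1 := Nat.mod_lt i hN
  have h2 := Nat.div_add_mod i N
  have h3 : i / N * N = N * (i / N) := Nat.mul_comm _ _
  refine ⟨i / N, ?_, ?_⟩
  · omega
  · rw [List.mem_iff_getElem]
    refine ⟨i % N, ?_, ?_⟩
    · rw [List.length_take, List.length_drop, lt_min_iff]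
      constructor
      · exact h1
      · omega
    · rw [List.getElem_take, List.getElem_drop]
      congr 1
      omega

/-- certificates given in chunks -/
theorem chunks_sound {κ τ : Type} (f : κ → τ → Bool) (l : List κ) (N K : Nat) (hN : 0 < N)
    (hlen : l.length ≤ K * N)
    (h : ∀ k < K, ∃ cs, zipAll f ((l.drop (k * N)).take N) cs = true) :
    ∀ a ∈ l, ∃ b, f a b = true := by
  intro a ha
  obtain ⟨k, hk, hmem⟩ := mem_chunk l N hN a ha
  have hkK : k < K := by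
    by_contra hc
    have : K * N ≤ k * N := Nat.mul_le_mul_right N (not_lt.1 hc)
    omega
  obtain ⟨cs, hcs⟩ := h k hkK
  exact zipAll_sound f _ cs hcs a hmem

/-- decoding of a table from a number, five bits for each entry -/
def decT (n : Nat) : List Nat := (List.range 24).map fun i => (n >>> (5 * i)) &&& 31

end Cfsg.Agent.Helper28
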