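import Mathlib
import Cfsg.Agent.Helper28.FixCount
import Cfsg.Agent.Helper28.OrbGen

set_option autoImplicit false

namespace Cfsg.Agent.Helper28
namespace Golay

open Cfsg
open scoped Pointwise

/-! ### Intersection histograms -/

/-- the intersection histogram of two families of sets -/
def hist (x X : Finset (Finset GolayPt)) : ℕ := ∑ a ∈ x, ∑ b ∈ X, 100 ^ (a ∩ b).card

theorem hist_smul (g : Equiv.Perm GolayPt) (x X : Finset (Finset GolayPt)) :
    hist (g • x) (g • X) = hist x X := by
  have e1 : g • x = x.image (fun a => g • a) := rfl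
  have e2 : g • X = X.image (fun b => g • b) := rfl
  unfold hist
  rw [e1, e2, Finset.sum_image (fun a _ a' _ h => MulAction.injective g h)]
  refine Finset.sum_congr rfl fun a _ => ?_
  rw [Finset.sum_image (fun b _ b' _ h => MulAction.injective g h)]
  refine Finset.sum_congr rfl fun b _ => ?_
  rw [← Finset.smul_finset_inter, Finset.card_smul_finset]

/-- a list of masks presenting a family of sets -/
def Presents (L : List Nat) (X : Finset (Finset GolayPt)) : Prop :=
  ∀ F : Finset GolayPt → ℕ, ∑ u ∈ X, F u = (L.map fun m => F (toSet m)).sum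

/-- the intersection histogram of two lists of masks -/
def histM (L L' : List Nat) : ℕ :=
  (L.map fun a => (L'.map fun b => 100 ^ wt (a &&& b)).sum).sum

theorem hist_eq {L L' : List Nat} {x X : Finset (Finset GolayPt)} (hx : Presents L x)
    (hX : Presents L' X) : hist x X = histM L L' := by
  unfold hist histM
  rw [hx]
  congr 1
  refine List.map_congr_left fun a _ => ?_
  rw [hX]
  congr 1
  refine List.map_congr_left fun b _ => ?_
  rw [← toSet_and, card_toSet]

theorem presents_single (o : Nat) : Presents [o] {toSet o} := fun F => by simp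

theorem presents_trio {a b : Nat} (h : (a, b) ∈ trioL) :
    Presents [a, b, 16777215 ^^^ a ^^^ b] (trioM (a, b)) := by
  intro F
  obtain ⟨h1, -, h3, h4, -⟩ := mem_trioL.1 h
  have hab := disj_of_and h4
  show ∑ u ∈ trioOf (toSet a) (toSet b), F u = _
  simp only [List.map_cons, List.map_nil, List.sum_cons, List.sum_nil]
  rw [third_eq h4, trioOf, Finset.sum_insert, Finset.sum_insert, Finset.sum_singleton, add_zero]
  · rw [Finset.mem_singleton]
    exact oct_disj_ne (toSet_octL h3) (disj_compl_right _ _)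
  · rw [Finset.mem_insert, Finset.mem_singleton, not_or]
    exact ⟨oct_disj_ne (toSet_octL h1) hab, oct_disj_ne (toSet_octL h1) (disj_compl_left _ _)⟩

theorem toSet_compl (d : Nat) : toSet (16777215 ^^^ d) = Finset.univ \ toSet d := by
  rw [toSet_xor, toSet_all]
  ext q
  simp [Finset.mem_symmDiff]

theorem presents_pair (d : Nat) :
    Presents [d, 16777215 ^^^ d] {toSet d, Finset.univ \ toSet d} := by
  intro F
  simp only [List.map_cons, List.map_nil, List.sum_cons, List.sum_nil]
  rw [toSet_compl, Finset.sum_insert, Finset.sum_singleton, add_zero]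
  rw [Finset.mem_singleton]
  intro h
  have h0 : pt 0 ∈ toSet d ↔ pt 0 ∈ Finset.univ \ toSet d := by rw [← h]
  simp at h0

theorem octFin_eq : octFin = octL.toFinset.image toSet := by
  ext o
  rw [mem_octFin, Finset.mem_image]
  constructor
  · intro ho
    exact ⟨maskOf o, List.mem_toFinset.2 (octL_complete ho), toSet_maskOf o⟩
  · rintro ⟨c, hc, rfl⟩
    exact toSet_octL (List.mem_toFinset.1 hc)

theorem sum_octFin (f : Finset GolayPt → ℕ) :
    ∑ o ∈ octFin, f o = (octL.map fun c => f (toSet c)).sum := by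
  rw [octFin_eq, Finset.sum_image, List.sum_toFinset _ (sortedLt_nodup octL_sorted)]
  intro c hc c' hc' h
  rw [Finset.mem_coe, List.mem_toFinset] at hc hc'
  exact toSet_inj (octL_lt hc) (octL_lt hc') h

theorem sum_filter_map (l : List Nat) (p : Nat → Bool) (h : Nat → ℕ) :
    ((l.filter p).map h).sum = (l.map fun c => if p c = true then h c else 0).sum := by
  induction l with
  | nil => rfl
  | cons a l ih =>
    by_cases hp : p a = true
    · rw [List.filter_cons_of_pos hp, List.map_cons, List.sum_cons, List.map_cons, List.sum_cons,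
        if_pos hp, ih]
    · rw [List.filter_cons_of_neg hp, List.map_cons, List.sum_cons, if_neg hp, ih, zero_add]

/-- the masks of the tetrads of the sextet of a tetrad -/
def sextM (m : Nat) : List Nat :=
  m :: (octL.filter fun c => Nat.beq (c &&& m) m).map fun c => c ^^^ m

theorem subset_iff_and {m c : Nat} (hm : m < 2 ^ 24) : toSet m ⊆ toSet c ↔ c &&& m = m := by
  constructor
  · intro h
    refine toSet_inj (lt_of_le_of_lt Nat.and_le_right hm) hm ?_
    rw [toSet_and]
    exact Finset.inter_eq_right.2 h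
  · intro h
    rw [← h, toSet_and]
    exact Finset.inter_subset_left

theorem presents_sext {m : Nat} (hm4 : wt m = 4) (hm : m < 2 ^ 24) :
    Presents (sextM m) (sextOf (toSet m)) := by
  intro F
  have ht : (toSet m).card = 4 := by rw [card_toSet, hm4]
  have hinj : Set.InjOn (fun o : Finset GolayPt => o \ toSet m)
      ↑(octFin.filter fun o => toSet m ⊆ o) := by
    intro o ho o' ho' h
    rw [Finset.mem_coe, Finset.mem_filter] at ho ho'
    have h1 : o \ toSet m = o' \ toSet m := h
    rw [← Finset.union_sdiff_of_subset ho.2, ← Finset.union_sdiff_of_subset ho'.2, h1]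
  have hnot : toSet m ∉ (octFin.filter fun o => toSet m ⊆ o).image fun o => o \ toSet m := by
    intro h
    obtain ⟨o, -, ho⟩ := Finset.mem_image.1 h
    have h1 : Disjoint (toSet m) (o \ toSet m) := Finset.disjoint_sdiff
    have h2 : o \ toSet m = toSet m := ho
    rw [h2, Finset.disjoint_self_iff_empty] at h1
    rw [h1, Finset.card_empty] at ht
    exact absurd ht (by norm_num)
  rw [sextOf, Finset.sum_insert hnot, Finset.sum_image hinj, Finset.sum_filter, sum_octFin,
    sextM, List.map_cons, List.sum_cons, List.map_map, sum_filter_map]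
  congr 2
  refine List.map_congr_left fun c _ => ?_
  by_cases hc : toSet m ⊆ toSet c
  · have hc' := (subset_iff_and hm).1 hc
    rw [if_pos hc, if_pos ((nbeq_iff _ _).2 hc')]
    show F (toSet c \ toSet m) = F (toSet (c ^^^ m))
    rw [toSet_xor]
    congr 1
    have e : symmDiff (toSet c) (toSet m) = toSet c \ toSet m ∪ toSet m \ toSet c := rfl
    rw [e, Finset.sdiff_eq_empty_iff_subset.2 hc, Finset.union_empty]
  · have hc' : ¬ Nat.beq (c &&& m) m = true := fun h =>
      hc ((subset_iff_and hm).2 ((nbeq_iff _ _).1 h))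
    rw [if_neg hc, if_neg hc']

/-- counting octads with a property through the list of masks -/
theorem ncard_oct (Q : Finset GolayPt → Prop) (P : Nat → Bool)
    (h : ∀ c ∈ octL, Q (toSet c) ↔ P c = true) :
    {o : Finset GolayPt | o ∈ octads ∧ Q o}.ncard = (octL.filter P).length := by
  rw [← ncard_image_list octL (sortedLt_nodup octL_sorted) toSet
    (fun c hc c' hc' he => toSet_inj (octL_lt hc) (octL_lt hc') he) P]
  congr 1
  ext o
  constructor
  · rintro ⟨ho, hQ⟩
    have hm := octL_complete ho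
    refine ⟨maskOf o, ⟨hm, ?_⟩, toSet_maskOf o⟩
    rw [← h _ hm, toSet_maskOf]
    exact hQ
  · rintro ⟨c, ⟨hc, hP⟩, rfl⟩
    exact ⟨toSet_octL hc, (h c hc).2 hP⟩

/-! ### Tests on tables -/

/-- the image of a trio under a table is a given trio -/
def imgTrio (T : List Nat) (p r : Nat × Nat) : Bool :=
  (Nat.beq (permMask (tf T) p.1) r.1 || Nat.beq (permMask (tf T) p.1) r.2 ||
    Nat.beq (permMask (tf T) p.1) (16777215 ^^^ r.1 ^^^ r.2)) &&
  (Nat.beq (permMask (tf T) p.2) r.1 || Nat.beq (permMask (tf T) p.2) r.2 ||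
    Nat.beq (permMask (tf T) p.2) (16777215 ^^^ r.1 ^^^ r.2))

theorem imgTrio_sound {R : List Nat} (hR : isPerm R = true) {p r : Nat × Nat} (hp : p ∈ trioL)
    (hr : r ∈ trioL) (h : imgTrio R p r = true) : permOf R • trioM p = trioM r := by
  obtain ⟨a, b⟩ := p
  obtain ⟨ra, rb⟩ := r
  obtain ⟨h1, -, h3, h4, -⟩ := mem_trioL.1 hp
  have e : permOf R • trioM (a, b) =
      trioOf (toSet (permMask (tf R) a)) (toSet (permMask (tf R) b)) := by
    show permOf R • trioOf (toSet a) (toSet b) = _
    rw [smul_trioOf, smul_toSet_permOf hR, smul_toSet_permOf hR]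
  have hne : toSet (permMask (tf R) a) ≠ toSet (permMask (tf R) b) := by
    rw [← smul_toSet_permOf hR, ← smul_toSet_permOf hR]
    intro h
    exact oct_disj_ne (toSet_octL h1) (disj_of_and h4) (smul_left_cancel _ h)
  have k : (permMask (tf R) a = ra ∨ permMask (tf R) a = rb ∨
      permMask (tf R) a = 16777215 ^^^ ra ^^^ rb) ∧
      (permMask (tf R) b = ra ∨ permMask (tf R) b = rb ∨
      permMask (tf R) b = 16777215 ^^^ ra ^^^ rb) := by
    rw [imgTrio] at h
    simpa only [Bool.and_eq_true, Bool.or_eq_true, nbeq_iff, or_assoc] using h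
  rw [e]
  exact (trio_eq (trioM_mem hr) ((mem_trioM_iff hr (permMask_lt' hR a)).2 k.1)
    ((mem_trioM_iff hr (permMask_lt' hR b)).2 k.2) hne).symm

theorem imgSext_sound {T : List Nat} (hT : inM24 T = true) {m r : Nat} (hm4 : wt m = 4)
    (hr4 : wt r = 4) (hr : r < 2 ^ 24)
    (h : inSext r (permMask (tf T) m) = true) :
    permOf T • sextOf (toSet m) = sextOf (toSet r) := by
  have hP := isPerm_of_inM24 hT
  have hcard : (toSet m).card = 4 := by rw [card_toSet]; exact hm4
  have hcard' : (toSet r).card = 4 := by rw [card_toSet]; exact hr4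
  rw [smul_sextOf (permOf_mem_M24 hT) _ hcard, smul_toSet_permOf hP]
  exact ((sextOf_eq_iff hcard').2 ((inSext_iff hr (permMask_lt' hP m)).2 h)).symm

theorem imgOct_sound {T : List Nat} (hT : isPerm T = true) {o r : Nat}
    (h : Nat.beq (permMask (tf T) o) r = true) : permOf T • toSet o = toSet r := by
  rw [smul_toSet_permOf hT, (nbeq_iff _ _).1 h]

/-- the test for a table to fix a complementary pair of sets -/
def stabPair (d : Nat) (T : List Nat) : Bool :=
  Nat.beq (permMask (tf T) d) d || Nat.beq (permMask (tf T) d) (16777215 ^^^ d)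

theorem stabPair_sound {T : List Nat} (hT : isPerm T = true) {d : Nat}
    (h : stabPair d T = true) :
    permOf T • ({toSet d, Finset.univ \ toSet d} : Finset (Finset GolayPt)) =
      {toSet d, Finset.univ \ toSet d} := by
  rw [Finset.smul_finset_insert, Finset.smul_finset_singleton, Finset.smul_finset_sdiff,
    Finset.smul_finset_univ, smul_toSet_permOf hT]
  rw [stabPair, Bool.or_eq_true, nbeq_iff, nbeq_iff] at h
  rcases h with h | h
  · rw [h]
  · rw [h, toSet_compl, Finset.sdiff_sdiff_eq_self (Finset.subset_univ _), Finset.pair_comm]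

/-! ### Transitivity on sextets, trios and pairs of dodecads -/

theorem sext_trans (S S' : Finset (Finset GolayPt)) (hS : S ∈ sextets) (hS' : S' ∈ sextets) :
    ∃ g ∈ M24, g • S = S' := by
  obtain ⟨t, ht, -⟩ := sext_cover hS (pt 0)
  obtain ⟨t', ht', -⟩ := sext_cover hS' (pt 0)
  have h4 := hS.2.1 t ht
  have h4' := hS'.2.1 t' ht'
  obtain ⟨a, b, c, d, hab, hac, had, hbc, hbd, hcd, hte⟩ := Finset.card_eq_four.1 h4
  obtain ⟨a', b', c', d', hab', hac', had', hbc', hbd', hcd', hte'⟩ := Finset.card_eq_four.1 h4'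
  obtain ⟨σ, hσ, s1, s2, s3, s4⟩ := trans4 a b c d a' b' c' d' hab hac hbc had hbd hcd
    hab' hac' hbc' had' hbd' hcd'
  refine ⟨σ, hσ, ?_⟩
  rw [sext_eq hS ht, sext_eq hS' ht', smul_sextOf hσ _ h4, hte, hte',
    Cfsg.Agent.S1638.smul_quad, s1, s2, s3, s4]

theorem disj_smul_iff (g : Equiv.Perm GolayPt) (s t : Finset GolayPt) :
    Disjoint (g • s) (g • t) ↔ Disjoint s t := by
  rw [Finset.disjoint_iff_inter_eq_empty, Finset.disjoint_iff_inter_eq_empty,
    ← Finset.smul_finset_inter, Finset.smul_finset_eq_empty]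

theorem trio_trans (T T' : Finset (Finset GolayPt)) (hT : T ∈ trios) (hT' : T' ∈ trios) :
    ∃ g ∈ M24, g • T = T' := by
  obtain ⟨a, b, c, hab, hac, hbc, hTe⟩ := Finset.card_eq_three.1 hT.1
  obtain ⟨a', b', c', hab', hac', hbc', hTe'⟩ := Finset.card_eq_three.1 hT'.1
  have ha : a ∈ T := by rw [hTe]; simp
  have hb : b ∈ T := by rw [hTe]; simp
  have ha' : a' ∈ T' := by rw [hTe']; simp
  have hb' : b' ∈ T' := by rw [hTe']; simp
  obtain ⟨σ1, hσ1, e1⟩ := octad_trans a a' (hT.2.1 a ha) (hT'.2.1 a' ha')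
  have hd : Disjoint a' (σ1 • b) := by
    rw [← e1, disj_smul_iff]
    exact hT.2.2 a ha b hb hab
  have hd' := hT'.2.2 a' ha' b' hb' hab'
  obtain ⟨τ, hτ, f1, f2⟩ := oct_orb a' (σ1 • b) b' (hT'.2.1 a' ha')
    (smul_mem_octads hσ1 (hT.2.1 b hb)) (hT'.2.1 b' hb')
    (by rw [Finset.disjoint_iff_inter_eq_empty.1 hd, Finset.disjoint_iff_inter_eq_empty.1 hd'])
  refine ⟨τ * σ1, M24.mul_mem hτ hσ1, ?_⟩
  rw [trio_eq hT ha hb hab, trio_eq hT' ha' hb' hab', smul_trioOf, mul_smul, mul_smul, e1, f1, f2]

/-! ### Certificates -/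

theorem cert_sound {A β κ : Type} [MulAction (Equiv.Perm GolayPt) A]
    [MulAction (Equiv.Perm GolayPt) β] (Fam : Set β) (codes : List κ) (dec : κ → β)
    (hdec : ∀ X ∈ Fam, ∃ k ∈ codes, dec k = X)
    (x0 : A) (c0 : β → ℕ) (cls : κ → ℕ) (hcls : ∀ k ∈ codes, c0 (dec k) = cls k)
    (repc : ℕ → κ) (test : κ → List Nat → Bool)
    (htest : ∀ k ∈ codes, ∀ T, test k T = true →
      permOf T ∈ M24 ∧ permOf T • x0 = x0 ∧ permOf T • dec k = dec (repc (cls k)))
    (hz : ∀ k ∈ codes, ∃ T, test k T = true) :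
    ∀ X ∈ Fam, ∃ g ∈ M24, g • x0 = x0 ∧ g • X = dec (repc (c0 X)) := by
  intro X hX
  obtain ⟨k, hk, rfl⟩ := hdec X hX
  obtain ⟨T, hT⟩ := hz k hk
  obtain ⟨h1, h2, h3⟩ := htest k hk T hT
  refine ⟨permOf T, h1, h2, ?_⟩
  rw [hcls k hk]
  exact h3

theorem sext_dec {S : Finset (Finset GolayPt)} (hS : S ∈ sextets) :
    ∃ m ∈ tetL, sextOf (toSet m) = S := by
  obtain ⟨t, ht, hp⟩ := sext_cover hS (pt 0)
  obtain ⟨m, hm, rfl⟩ := tet_complete t (hS.2.1 t ht) hp
  exact ⟨m, hm, (sext_eq hS ht).symm⟩

theorem oct_dec {o : Finset GolayPt} (ho : o ∈ octads) : ∃ c ∈ octL, toSet c = o :=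
  ⟨maskOf o, octL_complete ho, toSet_maskOf o⟩

end Golay
end Cfsg.Agent.Helper28
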