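import Mathlib
import Cfsg.Agent.Helper28.NilAlt

namespace Cfsg.Agent.Helper28.NilAlt3

open Cfsg.Agent.Helper28

/-- Twice the order of a Sylow 2-subgroup of `A_k` (`k ≥ 2`) is `2 ^ v_2(k!)`. -/
theorem two_mul_card_sylow_alt (k : ℕ) (hk : 2 ≤ k) (P : Sylow 2 (alternatingGroup (Fin k))) :
    2 * Nat.card P = 2 ^ NilNum.V k := by
  have hP : Nat.card P = 2 ^ (Nat.card (alternatingGroup (Fin k))).factorization 2 :=
    Sylow.card_eq_multiplicity P
  have hnt : Nontrivial (Fin k) := Fin.nontrivial_iff_two_le.2 hk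
  have h3 : 2 * Nat.card (alternatingGroup (Fin k)) = Nat.card (Equiv.Perm (Fin k)) :=
    two_mul_nat_card_alternatingGroup
  rw [Nat.card_perm, Nat.card_fin] at h3
  have hA0 : Nat.card (alternatingGroup (Fin k)) ≠ 0 := Nat.card_pos.ne'
  have hV : NilNum.V k = (Nat.card (alternatingGroup (Fin k))).factorization 2 + 1 := by
    unfold NilNum.V
    rw [← h3, ← Nat.factorization_def _ Nat.prime_two,
      Nat.factorization_mul two_ne_zero hA0, Finsupp.add_apply,
      Nat.prime_two.factorization_self]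
    omega
  rw [hP, hV, pow_succ]
  exact mul_comm _ _

/-- Nilpotent subgroups of `A_n` consist of even permutations: `2 |N| ≤ D n`. -/
theorem two_mul_card_le_D (n : ℕ) (N : Subgroup (alternatingGroup (Fin n)))
    (hN : Group.IsNilpotent N) : 2 * Nat.card N ≤ NilNum.D n := by
  have hinj : Function.Injective (alternatingGroup (Fin n)).subtype :=
    Subgroup.subtype_injective _
  have hcardM : Nat.card (N.map (alternatingGroup (Fin n)).subtype) = Nat.card N :=
    Subgroup.card_map_of_injective hinj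
  have hMnil : Group.IsNilpotent (N.map (alternatingGroup (Fin n)).subtype) := by
    have := hN
    exact Group.nilpotent_of_surjective ((alternatingGroup (Fin n)).subtype.subgroupMap N)
      (MonoidHom.subgroupMap_surjective _ _)
  have hMev : ∀ g ∈ N.map (alternatingGroup (Fin n)).subtype, NilAlt.sgn g = 1 := by
    rintro g ⟨a, _, rfl⟩
    rw [NilAlt.sgn_eq_sign]
    exact Equiv.Perm.mem_alternatingGroup.1 a.2
  have hmain := NilAlt.mainA n (Fin n) _ (Nat.card_fin n) hMnil hMev
  rw [hcardM] at hmain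
  exact hmain

/-- `B n = 3 * 2 ^ V (n - 3)` for `n ≡ 3 (mod 4)`. -/
theorem B_three_mod_four (n : ℕ) (hn : n % 4 = 3) :
    NilNum.B n = 3 * 2 ^ NilNum.V (n - 3) := by
  obtain ⟨j, hj⟩ : ∃ j, n = 4 * j + 3 := ⟨n / 4, by omega⟩
  have hVn : NilNum.V n = NilNum.V (n - 3) + 1 := by
    have e : n - 3 = 4 * j := by omega
    rw [e, hj, NilNum.V_four_add_three, NilNum.V_four]
  unfold NilNum.B
  rw [if_pos hn, hVn, Nat.add_sub_cancel]

/-- First conjunct of the `A_n`, `n ≡ 3 (mod 4)` statement. -/
theorem bound_three (n : ℕ) (hn : n % 4 = 3) (h7 : 7 ≤ n)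
    (P : Sylow 2 (alternatingGroup (Fin (n - 3))))
    (N : Subgroup (alternatingGroup (Fin n))) (hN : Group.IsNilpotent N) :
    Nat.card N ≤ 3 * Nat.card P := by
  have hmain := two_mul_card_le_D n N hN
  have hD : NilNum.D n = NilNum.B n :=
    NilNum.D_eq_B n (by omega) (by omega) (by omega) (by omega) (by omega) (by omega)
  have hP := two_mul_card_sylow_alt (n - 3) (by omega) P
  rw [hD, B_three_mod_four n hn, ← hP] at hmain
  omega

end Cfsg.Agent.Helper28.NilAlt3
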