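import Mathlib

namespace Cfsg.Agent.Helper28.NilAlt4

/-- The embedding `Perm (Fin a) × Perm (Fin b) → Perm (Fin n)` for `a + b = n`. -/
noncomputable def emb (a b n : ℕ) (h : a + b = n) :
    Equiv.Perm (Fin a) × Equiv.Perm (Fin b) →* Equiv.Perm (Fin n) :=
  ((finSumFinEquiv.trans (finCongr h)).permCongrHom.toMonoidHom).comp
    (Equiv.Perm.sumCongrHom (Fin a) (Fin b))

theorem emb_injective (a b n : ℕ) (h : a + b = n) : Function.Injective (emb a b n h) := by
  intro x y hxy
  apply Equiv.Perm.sumCongrHom_injective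
  exact (finSumFinEquiv.trans (finCongr h)).permCongrHom.injective hxy

theorem sign_emb (a b n : ℕ) (h : a + b = n) (x : Equiv.Perm (Fin a) × Equiv.Perm (Fin b)) :
    Equiv.Perm.sign (emb a b n h x) = Equiv.Perm.sign x.1 * Equiv.Perm.sign x.2 := by
  have e : emb a b n h x
      = (finSumFinEquiv.trans (finCongr h)).permCongr (Equiv.Perm.sumCongr x.1 x.2) := rfl
  rw [e, Equiv.Perm.sign_permCongr, Equiv.Perm.sign_sumCongr]

/-- Existence of a nilpotent subgroup `P × C_3` of `A_n`, `P` a Sylow 2-subgroup of `A_{n-3}`. -/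
theorem exists_three (n : ℕ) (h3 : 3 ≤ n)
    (P : Sylow 2 (alternatingGroup (Fin (n - 3)))) :
    ∃ M : Subgroup (alternatingGroup (Fin n)), Group.IsNilpotent M ∧
      Nat.card M = 3 * Nat.card P ∧
      Nonempty (M ≃* (↥(P : Subgroup (alternatingGroup (Fin (n - 3)))) ×
        Multiplicative (ZMod 3))) := by
  have hsum : n - 3 + 3 = n := by omega
  let pm : ↥(P : Subgroup (alternatingGroup (Fin (n - 3)))) × ↥(alternatingGroup (Fin 3)) →*
      Equiv.Perm (Fin (n - 3)) × Equiv.Perm (Fin 3) :=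
    MonoidHom.prodMap
      ((alternatingGroup (Fin (n - 3))).subtype.comp
        (P : Subgroup (alternatingGroup (Fin (n - 3)))).subtype)
      (alternatingGroup (Fin 3)).subtype
  have hF : ∀ x, (emb (n - 3) 3 n hsum) (pm x) ∈ alternatingGroup (Fin n) := by
    intro x
    rw [Equiv.Perm.mem_alternatingGroup, sign_emb]
    have h1 : Equiv.Perm.sign (pm x).1 = 1 :=
      Equiv.Perm.mem_alternatingGroup.1 (x.1 : alternatingGroup (Fin (n - 3))).2
    have h2 : Equiv.Perm.sign (pm x).2 = 1 := Equiv.Perm.mem_alternatingGroup.1 x.2.2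
    rw [h1, h2, one_mul]
  let g : ↥(P : Subgroup (alternatingGroup (Fin (n - 3)))) × ↥(alternatingGroup (Fin 3)) →*
      ↥(alternatingGroup (Fin n)) :=
    ((emb (n - 3) 3 n hsum).comp pm).codRestrict (alternatingGroup (Fin n)) hF
  have hg : Function.Injective g := by
    intro x y hxy
    have h1 : (emb (n - 3) 3 n hsum) (pm x) = (emb (n - 3) 3 n hsum) (pm y) :=
      congrArg Subtype.val hxy
    have h2 : pm x = pm y := emb_injective (n - 3) 3 n hsum h1
    have h3 : (pm x).1 = (pm y).1 := congrArg Prod.fst h2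
    have h4 : (pm x).2 = (pm y).2 := congrArg Prod.snd h2
    exact Prod.ext (Subtype.ext (Subtype.ext h3)) (Subtype.ext h4)
  have eM := MonoidHom.ofInjective hg
  have hP : Group.IsNilpotent ↥(P : Subgroup (alternatingGroup (Fin (n - 3)))) :=
    P.isPGroup'.isNilpotent
  have hA3card : Nat.card ↥(alternatingGroup (Fin 3)) = 3 := by
    rw [nat_card_alternatingGroup, Nat.card_fin]; rfl
  have hA3 : Group.IsNilpotent ↥(alternatingGroup (Fin 3)) :=
    (IsPGroup.of_card (p := 3) (n := 1) (by rw [hA3card, pow_one])).isNilpotent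
  have hM : Group.IsNilpotent g.range := Group.nilpotent_of_mulEquiv eM
  have hZ3 : Nat.card (Multiplicative (ZMod 3)) = 3 :=
    (Nat.card_congr Multiplicative.toAdd).trans (Nat.card_zmod 3)
  have hc : Nat.card g.range = 3 * Nat.card (P : Subgroup (alternatingGroup (Fin (n - 3)))) := by
    rw [← Nat.card_congr eM.toEquiv, Nat.card_prod, hA3card, mul_comm]
  exact ⟨g.range, hM, hc,
    ⟨eM.symm.trans (MulEquiv.prodCongr (MulEquiv.refl _) (mulEquivOfPrimeCardEq hA3card hZ3))⟩⟩

end Cfsg.Agent.Helper28.NilAlt4
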