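import Mathlib
import Cfsg.Agent.Helper28.GolayOrb
import Cfsg.Agent.Helper28.OctStab

set_option autoImplicit false

namespace Cfsg.Agent.Helper28
namespace Golay

open Cfsg
open scoped Pointwise

def repsB : List Nat := [0, 7221256, 0, 13062145, 0, 8966165, 0, 0, 0, 8391797]

def clsB (c : Nat) : Nat := if (Nat.beq (wt c) 8 && !c.testBit 1) = true then wt (O0 &&& c) + 1 else 0

def certsB_0 : List (List Nat) :=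
  [[],
   [0, 1, 2, 3, 4, 5, 6, 7, 8, 9, 10, 11, 12, 13, 14, 15, 16, 17, 18, 19, 20, 21, 22, 23],
   [],
   [],
   [6, 1, 0, 8, 11, 10, 2, 19, 9, 20, 5, 4, 17, 16, 3, 18, 15, 13, 12, 21, 22, 7, 14, 23],
   [0, 1, 23, 21, 6, 10, 11, 19, 15, 13, 2, 5, 7, 17, 14, 22, 12, 18, 8, 3, 16, 20, 9, 4],
   [],
   [],
   [0, 1, 2, 3, 4, 5, 6, 7, 8, 9, 10, 11, 12, 13, 14, 15, 16, 17, 18, 19, 20, 21, 22, 23],
   [0, 1, 10, 12, 11, 5, 4, 21, 9, 3, 6, 2, 20, 17, 16, 13, 22, 19, 15, 18, 8, 14, 7, 23],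
   [],
   [],
   [2, 1, 0, 14, 10, 5, 4, 13, 7, 8, 11, 6, 19, 9, 3, 18, 15, 17, 21, 22, 12, 16, 20, 23],
   [],
   [],
   [],
   [5, 1, 2, 20, 23, 11, 10, 21, 13, 19, 4, 6, 12, 17, 7, 9, 14, 16, 15, 22, 18, 8, 3, 0],
   [0, 1, 6, 21, 23, 5, 11, 7, 15, 20, 2, 10, 19, 17, 16, 8, 9, 3, 22, 18, 14, 13, 12, 4],
   [],
   [],
   [2, 1, 0, 20, 23, 11, 6, 15, 19, 8, 10, 4, 9, 3, 7, 22, 17, 16, 18, 12, 21, 13, 14, 5],
   [0, 1, 2, 3, 4, 5, 6, 7, 8, 9, 10, 11, 12, 13, 14, 15, 16, 17, 18, 19, 20, 21, 22, 23],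
   [],
   [],
   [11, 1, 6, 18, 23, 4, 5, 19, 3, 21, 10, 2, 9, 15, 7, 20, 16, 13, 22, 8, 12, 17, 14, 0],
   [23, 1, 5, 16, 0, 11, 6, 19, 20, 9, 10, 2, 12, 7, 18, 3, 15, 17, 21, 13, 22, 14, 8, 4],
   [],
   [],
   [5, 1, 23, 14, 0, 4, 11, 3, 21, 8, 2, 10, 17, 18, 13, 16, 22, 19, 15, 7, 9, 12, 20, 6],
   [],
   [],
   [],
   [6, 1, 11, 15, 2, 0, 5, 7, 21, 9, 10, 4, 8, 17, 14, 19, 13, 16, 22, 3, 18, 12, 20, 23],
   [0, 1, 10, 8, 2, 23, 11, 21, 19, 9, 5, 4, 22, 17, 13, 7, 18, 3, 15, 20, 14, 12, 16, 6],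
   [],
   [],
   [10, 1, 0, 21, 2, 23, 11, 8, 19, 20, 5, 6, 22, 7, 14, 17, 3, 18, 15, 9, 13, 16, 12, 4],
   [4, 1, 23, 16, 10, 2, 5, 7, 3, 17, 6, 11, 20, 21, 22, 12, 14, 13, 19, 8, 9, 15, 18, 0],
   [],
   [],
   [2, 1, 4, 22, 6, 0, 11, 7, 19, 20, 5, 10, 17, 15, 16, 21, 3, 13, 8, 14, 12, 9, 18, 23],
   [23, 1, 6, 17, 11, 0, 10, 20, 19, 15, 2, 5, 13, 8, 9, 3, 22, 12, 14, 16, 18, 7, 21, 4],
   [],
   [],
   [5, 1, 0, 18, 2, 23, 10, 9, 8, 3, 4, 11, 19, 12, 22, 16, 13, 20, 17, 14, 21, 7, 15, 6],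
   [],
   [],
   [],
   [11, 1, 10, 8, 23, 0, 2, 20, 3, 7, 5, 6, 14, 13, 16, 19, 12, 9, 17, 22, 21, 18, 15, 4],
   [2, 1, 5, 20, 0, 23, 10, 16, 22, 3, 11, 6, 7, 18, 21, 13, 9, 12, 17, 14, 8, 15, 19, 4],
   [],
   [],
   [],
   [],
   [],
   [],
   [4, 1, 5, 17, 0, 23, 6, 20, 3, 7, 10, 2, 13, 14, 16, 19, 12, 18, 8, 15, 21, 9, 22, 11],
   [2, 1, 6, 15, 0, 23, 10, 13, 16, 7, 5, 11, 12, 14, 18, 22, 20, 3, 19, 21, 17, 9, 8, 4],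
   [],
   [],
   [],
   [2, 1, 23, 15, 0, 4, 11, 20, 8, 22, 10, 5, 9, 7, 18, 14, 21, 3, 16, 13, 12, 17, 19, 6],
   [],
   [],
   [4, 1, 2, 8, 11, 10, 0, 13, 15, 20, 5, 6, 3, 7, 17, 12, 9, 19, 18, 22, 21, 16, 14, 23],
   [23, 1, 10, 9, 6, 4, 0, 19, 13, 20, 11, 2, 18, 21, 3, 14, 17, 22, 7, 16, 8, 12, 15, 5],
   [],
   [],
   [10, 1, 0, 15, 4, 11, 23, 19, 21, 9, 6, 2, 22, 17, 18, 7, 13, 3, 8, 16, 14, 12, 20, 5],
   [],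
   [],
   [],
   [4, 1, 5, 17, 2, 11, 0, 7, 9, 13, 6, 10, 22, 12, 18, 14, 21, 16, 3, 8, 19, 15, 20, 23],
   [0, 1, 5, 16, 11, 6, 23, 7, 13, 19, 2, 10, 20, 22, 21, 18, 14, 3, 17, 8, 9, 15, 12, 4],
   [],
   [],
   [4, 1, 0, 12, 2, 5, 23, 3, 13, 9, 10, 6, 7, 15, 22, 8, 21, 14, 18, 19, 16, 20, 17, 11],
   [2, 1, 4, 12, 6, 5, 0, 16, 8, 7, 11, 10, 19, 18, 20, 9, 15, 21, 17, 22, 14, 13, 3, 23],
   [],
   [],
   [],
   [0, 1, 5, 20, 4, 6, 2, 17, 9, 16, 10, 11, 13, 15, 18, 12, 8, 22, 21, 3, 19, 14, 7, 23],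
   [],
   [],
   [10, 1, 4, 16, 23, 5, 0, 7, 18, 9, 6, 11, 20, 17, 14, 13, 19, 15, 22, 3, 21, 12, 8, 2],
   [4, 1, 2, 21, 23, 10, 0, 20, 16, 17, 5, 11, 12, 3, 13, 7, 18, 9, 19, 8, 22, 14, 15, 6],
   [],
   [],
   [4, 1, 2, 17, 23, 6, 0, 19, 13, 15, 10, 11, 8, 20, 22, 14, 12, 7, 3, 18, 16, 9, 21, 5],
   [],
   [],
   [],
   [],
   [2, 1, 4, 19, 23, 6, 0, 17, 13, 18, 10, 5, 8, 14, 16, 20, 7, 12, 3, 15, 22, 21, 9, 11],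
   [],
   [],
   [4, 1, 6, 20, 11, 0, 23, 15, 21, 7, 5, 10, 9, 12, 8, 17, 19, 14, 13, 18, 22, 3, 16, 2],
   [],
   [],
   [],
   [10, 1, 0, 18, 5, 23, 2, 3, 22, 16, 11, 6, 15, 20, 21, 9, 13, 14, 19, 12, 8, 7, 17, 4],
   [2, 1, 23, 18, 5, 0, 4, 7, 20, 3, 10, 6, 13, 22, 12, 16, 19, 8, 17, 14, 21, 9, 15, 11],
   [],
   [],
   [4, 1, 2, 17, 6, 23, 0, 7, 20, 15, 5, 11, 22, 13, 8, 16, 9, 19, 18, 3, 14, 12, 21, 10],
   [],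
   [],
   [],
   [10, 1, 4, 19, 5, 23, 0, 7, 13, 22, 11, 6, 21, 14, 17, 18, 16, 8, 9, 3, 20, 12, 15, 2],
   [],
   [],
   [],
   [11, 1, 10, 17, 4, 0, 2, 3, 20, 9, 6, 5, 14, 13, 22, 19, 15, 7, 8, 16, 18, 21, 12, 23],
   [23, 1, 6, 22, 4, 2, 0, 8, 17, 18, 11, 5, 21, 7, 12, 19, 16, 14, 15, 3, 9, 13, 20, 10],
   [],
   [],
   [11, 1, 23, 17, 0, 2, 4, 22, 3, 18, 10, 5, 7, 14, 20, 9, 15, 13, 12, 8, 19, 21, 16, 6],
   [],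
   [],
   [],
   [],
   [],
   [],
   [],
   [],
   [],
   [],
   [],
   [5, 1, 23, 16, 0, 11, 2, 12, 14, 9, 10, 6, 19, 15, 17, 22, 7, 18, 13, 21, 3, 20, 8, 4],
   [23, 1, 5, 15, 6, 4, 2, 17, 9, 19, 10, 11, 21, 20, 8, 12, 18, 7, 13, 14, 16, 3, 22, 0],
   [],
   [],
   [6, 1, 0, 20, 4, 5, 11, 14, 13, 21, 2, 10, 8, 17, 18, 19, 9, 22, 3, 16, 7, 15, 12, 23],
   [0, 1, 23, 13, 2, 11, 10, 16, 20, 8, 4, 6, 22, 17, 9, 7, 14, 21, 18, 12, 15, 19, 3, 5],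
   [],
   [],
   [11, 1, 23, 12, 10, 5, 2, 13, 16, 8, 4, 0, 15, 19, 3, 22, 9, 7, 14, 20, 21, 17, 18, 6],
   [],
   [],
   [],
   [11, 1, 0, 22, 5, 10, 6, 14, 8, 3, 4, 2, 12, 21, 17, 20, 13, 7, 18, 15, 19, 16, 9, 23],
   [23, 1, 0, 17, 5, 11, 4, 14, 8, 9, 2, 6, 3, 19, 7, 20, 16, 22, 13, 21, 15, 18, 12, 10],
   [],
   [],
   [2, 1, 4, 9, 23, 5, 6, 14, 3, 21, 11, 10, 7, 22, 18, 17, 16, 19, 12, 20, 15, 8, 13, 0],
   [23, 1, 10, 19, 0, 2, 6, 16, 13, 9, 5, 11, 12, 14, 8, 22, 21, 17, 15, 20, 3, 7, 18, 4],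
   [],
   [],
   [2, 1, 0, 8, 23, 6, 5, 18, 3, 21, 11, 10, 12, 13, 14, 15, 16, 20, 7, 19, 17, 9, 22, 4],
   [4, 1, 0, 18, 2, 10, 11, 19, 17, 7, 5, 6, 9, 16, 21, 8, 22, 14, 12, 3, 15, 20, 13, 23],
   [],
   [],
   [],
   [23, 1, 4, 12, 0, 2, 11, 17, 3, 13, 6, 10, 9, 7, 20, 14, 8, 21, 22, 16, 19, 18, 15, 5],
   [],
   [],
   [],
   [],
   [],
   [],
   [10, 1, 2, 15, 4, 0, 6, 14, 21, 7, 5, 11, 16, 17, 9, 18, 19, 20, 3, 12, 13, 22, 8, 23],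
   [],
   [],
   [],
   [2, 1, 0, 21, 11, 23, 10, 17, 13, 8, 4, 5, 15, 9, 19, 20, 3, 7, 12, 18, 14, 16, 22, 6],
   [],
   [],
   [],
   [6, 1, 5, 22, 4, 23, 11, 17, 9, 13, 2, 10, 7, 3, 20, 12, 21, 18, 14, 19, 15, 8, 16, 0],
   [23, 1, 5, 17, 11, 0, 10, 18, 8, 21, 4, 6, 16, 19, 14, 12, 22, 3, 9, 13, 20, 7, 15, 2],
   [],
   [],
   [2, 1, 23, 12, 10, 0, 4, 14, 19, 20, 6, 5, 22, 16, 8, 13, 3, 18, 15, 9, 17, 7, 21, 11],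
   [],
   [],
   [],
   [11, 1, 4, 15, 23, 0, 6, 12, 8, 20, 10, 5, 13, 7, 21, 18, 14, 17, 3, 19, 22, 16, 9, 2],
   [],
   [],
   [],
   [],
   [0, 1, 2, 21, 23, 4, 10, 19, 20, 22, 6, 5, 7, 12, 15, 3, 18, 17, 16, 13, 9, 14, 8, 11],
   [],
   [],
   [],
   [],
   [],
   [],
   [10, 1, 23, 19, 0, 2, 11, 12, 7, 9, 5, 6, 16, 21, 17, 3, 14, 8, 20, 15, 22, 13, 18, 4],
   [],
   [],
   [],
   [10, 1, 11, 20, 4, 5, 0, 22, 9, 21, 2, 6, 18, 15, 8, 3, 13, 14, 19, 7, 16, 17, 12, 23],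
   [23, 1, 2, 15, 11, 6, 0, 22, 8, 20, 5, 10, 19, 7, 18, 21, 14, 3, 17, 13, 12, 16, 9, 4],
   [],
   [],
   [6, 1, 0, 3, 2, 4, 23, 22, 7, 8, 11, 10, 9, 12, 21, 17, 15, 16, 14, 20, 19, 18, 13, 5],
   [],
   [],
   [],
   [11, 1, 10, 14, 4, 2, 23, 17, 15, 20, 6, 5, 3, 16, 13, 21, 9, 19, 18, 22, 12, 7, 8, 0],
   [],
   [],
   [],
   [6, 1, 0, 18, 2, 4, 23, 16, 19, 20, 10, 5, 17, 9, 7, 12, 3, 13, 8, 14, 21, 15, 22, 11],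
   [],
   [],
   [],
   [11, 1, 4, 8, 0, 2, 23, 16, 20, 21, 10, 6, 9, 14, 3, 7, 12, 13, 15, 17, 19, 18, 22, 5],
   [],
   [],
   [],
   [],
   [],
   [],
   [],
   [10, 1, 6, 17, 0, 11, 23, 16, 8, 21, 2, 5, 18, 19, 3, 9, 22, 14, 12, 20, 13, 7, 15, 4],
   [4, 1, 10, 15, 2, 6, 23, 14, 8, 13, 5, 11, 16, 7, 19, 20, 3, 22, 9, 21, 17, 18, 12, 0],
   [],
   [],
   [],
   [],
   [],
   [],
   [5, 1, 6, 7, 4, 0, 23, 17, 13, 3, 2, 11, 22, 18, 14, 20, 8, 9, 16, 21, 19, 15, 12, 10],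
   [23, 1, 11, 18, 6, 2, 4, 19, 21, 17, 10, 5, 9, 14, 8, 7, 15, 12, 13, 20, 22, 3, 16, 0],
   [],
   [],
   [6, 1, 2, 21, 11, 23, 4, 14, 16, 13, 5, 10, 18, 3, 19, 15, 22, 7, 17, 20, 12, 8, 9, 0],
   [],
   [],
   [],
   [4, 1, 5, 14, 10, 0, 23, 16, 9, 13, 2, 6, 15, 7, 22, 8, 21, 12, 20, 17, 3, 18, 19, 11],
   [],
   [],
   [],
   [],
   [],
   [],
   [],
   [],
   [2, 1, 11, 22, 23, 4, 0, 19, 8, 9, 5, 6, 15, 21, 18, 17, 16, 20, 7, 14, 12, 13, 3, 10],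
   [],
   [],
   [],
   [],
   [],
   [],
   [],
   [],
   [],
   [],
   [],
   [],
   [],
   []]

theorem orbB_0 : orbChunkL [O0] [1] clsB repsB 256 0 certsB_0 = true := by
  decide +kernel

def certsB_1 : List (List Nat) :=
  [[10, 1, 4, 16, 23, 5, 0, 7, 18, 9, 6, 11, 20, 17, 14, 13, 19, 15, 22, 3, 21, 12, 8, 2],
   [],
   [],
   [],
   [11, 1, 23, 3, 6, 4, 10, 7, 18, 21, 5, 2, 12, 15, 19, 13, 14, 20, 8, 22, 9, 17, 16, 0],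
   [0, 1, 23, 19, 6, 5, 11, 7, 14, 20, 2, 4, 21, 13, 16, 9, 8, 12, 18, 22, 15, 17, 3, 10],
   [],
   [],
   [2, 1, 4, 22, 6, 0, 11, 7, 19, 20, 5, 10, 17, 15, 16, 21, 3, 13, 8, 14, 12, 9, 18, 23],
   [23, 1, 4, 22, 5, 2, 11, 3, 17, 21, 10, 6, 9, 7, 16, 14, 15, 13, 12, 20, 18, 19, 8, 0],
   [],
   [],
   [11, 1, 23, 22, 2, 10, 4, 19, 14, 21, 5, 6, 15, 12, 7, 13, 18, 17, 16, 3, 9, 20, 8, 0],
   [23, 1, 0, 17, 6, 2, 11, 9, 16, 7, 4, 10, 12, 18, 14, 8, 20, 3, 19, 21, 15, 13, 22, 5],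
   [],
   [],
   [11, 1, 5, 20, 23, 2, 6, 8, 12, 15, 10, 4, 14, 21, 7, 18, 13, 16, 22, 19, 3, 17, 9, 0],
   [0, 1, 2, 19, 23, 10, 5, 7, 17, 9, 6, 4, 21, 8, 14, 22, 12, 13, 15, 20, 3, 16, 18, 11],
   [],
   [],
   [5, 1, 23, 21, 0, 4, 6, 9, 18, 15, 11, 10, 13, 14, 20, 19, 3, 12, 7, 8, 22, 16, 17, 2],
   [],
   [],
   [],
   [10, 1, 11, 18, 23, 5, 2, 19, 16, 20, 6, 4, 9, 17, 3, 12, 7, 15, 8, 14, 21, 13, 22, 0],
   [],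
   [],
   [],
   [5, 1, 23, 22, 0, 2, 10, 20, 16, 3, 6, 4, 18, 13, 19, 7, 21, 15, 17, 14, 12, 8, 9, 11],
   [],
   [],
   [],
   [6, 1, 11, 15, 5, 23, 10, 20, 22, 7, 4, 2, 9, 19, 16, 18, 17, 14, 3, 12, 13, 21, 8, 0],
   [23, 1, 10, 8, 5, 0, 4, 20, 22, 19, 11, 2, 14, 21, 3, 18, 15, 13, 12, 16, 9, 7, 17, 6],
   [],
   [],
   [],
   [2, 1, 4, 22, 6, 0, 11, 7, 19, 20, 5, 10, 17, 15, 16, 21, 3, 13, 8, 14, 12, 9, 18, 23],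
   [],
   [],
   [],
   [0, 1, 2, 14, 6, 23, 11, 20, 22, 19, 4, 10, 8, 12, 3, 18, 15, 17, 21, 7, 9, 16, 13, 5],
   [],
   [],
   [11, 1, 0, 18, 4, 23, 5, 7, 14, 3, 6, 10, 13, 21, 12, 9, 17, 8, 19, 20, 22, 16, 15, 2],
   [],
   [],
   [],
   [6, 1, 2, 13, 0, 23, 10, 15, 16, 21, 5, 4, 12, 22, 17, 14, 3, 20, 19, 7, 18, 8, 9, 11],
   [],
   [],
   [],
   [11, 1, 4, 21, 23, 2, 10, 8, 12, 7, 6, 5, 22, 20, 15, 18, 3, 17, 14, 9, 13, 16, 19, 0],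
   [2, 1, 0, 18, 4, 23, 6, 9, 14, 16, 5, 10, 19, 21, 8, 7, 15, 12, 13, 22, 20, 3, 17, 11],
   [],
   [],
   [],
   [],
   [],
   [],
   [],
   [],
   [],
   [],
   [4, 1, 5, 21, 11, 2, 0, 7, 14, 3, 10, 6, 19, 18, 12, 9, 17, 20, 13, 8, 22, 15, 16, 23],
   [23, 1, 4, 15, 2, 10, 0, 3, 16, 8, 6, 5, 18, 14, 13, 21, 9, 12, 17, 19, 22, 20, 7, 11],
   [],
   [],
   [5, 1, 23, 9, 6, 10, 0, 8, 18, 21, 2, 11, 16, 19, 22, 12, 14, 3, 17, 15, 20, 7, 13, 4],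
   [2, 1, 0, 20, 11, 6, 23, 16, 12, 9, 5, 10, 7, 21, 8, 19, 17, 14, 3, 22, 18, 13, 15, 4],
   [],
   [],
   [],
   [0, 1, 5, 17, 6, 4, 23, 19, 22, 3, 11, 2, 8, 7, 20, 15, 9, 13, 21, 16, 18, 12, 14, 10],
   [],
   [],
   [],
   [],
   [],
   [],
   [5, 1, 6, 21, 23, 11, 0, 15, 22, 3, 10, 4, 17, 8, 18, 19, 9, 14, 7, 12, 20, 13, 16, 2],
   [23, 1, 6, 8, 4, 5, 0, 21, 12, 13, 11, 10, 22, 18, 9, 20, 15, 16, 14, 19, 17, 7, 3, 2],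
   [],
   [],
   [],
   [],
   [],
   [],
   [10, 1, 4, 16, 23, 5, 0, 7, 18, 9, 6, 11, 20, 17, 14, 13, 19, 15, 22, 3, 21, 12, 8, 2],
   [],
   [],
   [],
   [],
   [],
   [],
   [],
   [5, 1, 4, 20, 6, 23, 0, 9, 16, 13, 11, 10, 15, 7, 21, 8, 22, 12, 14, 19, 3, 18, 17, 2],
   [23, 1, 5, 21, 10, 4, 0, 17, 19, 9, 6, 11, 15, 7, 12, 8, 18, 20, 22, 3, 16, 14, 13, 2],
   [],
   [],
   [],
   [],
   [],
   [],
   [2, 1, 4, 17, 5, 23, 0, 7, 18, 21, 6, 11, 22, 16, 19, 13, 14, 8, 20, 12, 9, 3, 15, 10],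
   [],
   [],
   [],
   [],
   [],
   [],
   [],
   [],
   [],
   [],
   [],
   [11, 1, 0, 7, 2, 4, 23, 16, 12, 17, 5, 10, 20, 3, 18, 19, 9, 13, 21, 15, 8, 14, 22, 6],
   [],
   [],
   [],
   [11, 1, 6, 12, 0, 2, 23, 21, 15, 3, 10, 5, 20, 13, 16, 17, 18, 19, 9, 22, 14, 8, 7, 4],
   [],
   [],
   [],
   [],
   [],
   [],
   [],
   [0, 1, 10, 8, 2, 23, 11, 21, 19, 9, 5, 4, 22, 17, 13, 7, 18, 3, 15, 20, 14, 12, 16, 6],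
   [23, 1, 6, 21, 5, 2, 4, 17, 14, 8, 10, 11, 15, 18, 19, 3, 20, 7, 16, 9, 13, 12, 22, 0],
   [],
   [],
   [],
   [23, 1, 0, 21, 4, 5, 2, 18, 16, 7, 10, 6, 14, 3, 13, 17, 20, 9, 15, 8, 22, 12, 19, 11],
   [],
   [],
   [10, 1, 23, 12, 4, 0, 2, 13, 17, 14, 11, 6, 15, 9, 19, 20, 3, 16, 21, 18, 8, 7, 22, 5],
   [23, 1, 5, 17, 4, 2, 10, 16, 22, 21, 11, 6, 18, 7, 3, 13, 8, 14, 20, 12, 9, 19, 15, 0],
   [],
   [],
   [],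
   [],
   [],
   [],
   [6, 1, 10, 20, 0, 4, 2, 12, 17, 19, 11, 5, 21, 13, 16, 9, 8, 7, 15, 22, 18, 14, 3, 23],
   [],
   [],
   [],
   [],
   [],
   [],
   [],
   [],
   [0, 1, 4, 17, 23, 11, 10, 12, 18, 20, 6, 5, 9, 16, 21, 8, 22, 15, 19, 3, 14, 7, 13, 2],
   [],
   [],
   [5, 1, 23, 16, 0, 11, 2, 12, 14, 9, 10, 6, 19, 15, 17, 22, 7, 18, 13, 21, 3, 20, 8, 4],
   [],
   [],
   [],
   [5, 1, 4, 15, 10, 23, 6, 16, 12, 9, 2, 11, 14, 13, 8, 19, 17, 7, 22, 3, 18, 21, 20, 0],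
   [0, 1, 6, 9, 10, 23, 2, 14, 18, 3, 5, 11, 7, 19, 17, 21, 15, 12, 13, 8, 16, 20, 22, 4],
   [],
   [],
   [11, 1, 23, 9, 4, 0, 10, 14, 12, 19, 2, 6, 7, 17, 13, 22, 16, 21, 3, 20, 15, 8, 18, 5],
   [],
   [],
   [],
   [],
   [],
   [],
   [],
   [],
   [],
   [],
   [],
   [10, 1, 4, 9, 0, 23, 2, 16, 12, 21, 11, 6, 8, 17, 3, 19, 20, 22, 18, 14, 7, 15, 13, 5],
   [],
   [],
   [],
   [],
   [],
   [],
   [],
   [2, 1, 10, 17, 0, 23, 5, 16, 22, 9, 6, 11, 18, 7, 8, 13, 3, 19, 20, 15, 21, 14, 12, 4],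
   [],
   [],
   [],
   [],
   [],
   [],
   [],
   [],
   [0, 1, 2, 15, 5, 4, 23, 12, 14, 9, 6, 10, 13, 16, 17, 22, 7, 21, 19, 18, 3, 8, 20, 11],
   [],
   [],
   [11, 1, 23, 13, 6, 4, 0, 17, 14, 21, 2, 5, 20, 19, 15, 3, 18, 12, 8, 22, 16, 7, 9, 10],
   [],
   [],
   [],
   [10, 1, 4, 12, 6, 2, 23, 18, 16, 13, 5, 11, 8, 19, 7, 17, 22, 3, 9, 21, 20, 14, 15, 0],
   [],
   [],
   [],
   [],
   [],
   [],
   [],
   [6, 1, 4, 13, 0, 10, 23, 18, 17, 19, 11, 5, 7, 20, 9, 16, 8, 21, 22, 15, 12, 3, 14, 2],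
   [],
   [],
   [],
   [5, 1, 23, 16, 0, 11, 2, 12, 14, 9, 10, 6, 19, 15, 17, 22, 7, 18, 13, 21, 3, 20, 8, 4],
   [],
   [],
   [],
   [],
   [],
   [],
   [],
   [],
   [],
   [],
   [],
   [],
   [],
   [],
   [],
   [],
   [],
   [],
   [],
   [],
   [],
   [],
   [],
   [],
   [2, 1, 0, 15, 6, 4, 23, 12, 19, 20, 5, 10, 13, 22, 21, 16, 3, 17, 14, 8, 7, 18, 9, 11],
   [],
   [],
   [],
   [],
   [],
   [],
   [],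
   [],
   [],
   [],
   [],
   [],
   [],
   [],
   [],
   [],
   [],
   []]

theorem orbB_1 : orbChunkL [O0] [1] clsB repsB 256 1 certsB_1 = true := by
  decide +kernel

def certsB_2 : List (List Nat) :=
  [[0, 1, 10, 14, 5, 11, 4, 7, 20, 18, 6, 23, 9, 8, 13, 16, 22, 19, 15, 3, 17, 12, 21, 2],
   [23, 1, 10, 13, 2, 6, 11, 7, 21, 12, 5, 4, 18, 9, 3, 19, 20, 8, 14, 22, 16, 17, 15, 0],
   [],
   [],
   [],
   [23, 1, 0, 13, 10, 5, 2, 8, 20, 16, 6, 4, 3, 17, 9, 14, 7, 21, 19, 12, 15, 18, 22, 11],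
   [],
   [],
   [2, 1, 23, 18, 4, 5, 0, 15, 16, 12, 6, 11, 3, 17, 13, 14, 19, 7, 21, 20, 22, 9, 8, 10],
   [23, 1, 6, 14, 4, 11, 2, 19, 3, 22, 5, 10, 13, 17, 15, 20, 9, 16, 8, 21, 18, 7, 12, 0],
   [],
   [],
   [5, 1, 0, 22, 10, 6, 11, 21, 15, 14, 2, 4, 8, 19, 18, 17, 16, 20, 7, 9, 3, 13, 12, 23],
   [23, 1, 0, 17, 10, 4, 2, 7, 20, 14, 11, 5, 22, 13, 9, 16, 8, 12, 18, 21, 15, 19, 3, 6],
   [],
   [],
   [6, 1, 5, 7, 23, 10, 4, 3, 13, 17, 11, 2, 12, 18, 14, 8, 20, 9, 15, 21, 19, 16, 22, 0],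
   [23, 1, 10, 3, 0, 5, 2, 8, 15, 16, 6, 11, 13, 18, 9, 7, 14, 22, 12, 19, 20, 17, 21, 4],
   [],
   [],
   [11, 1, 23, 19, 0, 2, 10, 20, 7, 18, 4, 6, 3, 21, 22, 16, 13, 15, 12, 8, 17, 14, 9, 5],
   [],
   [],
   [],
   [2, 1, 10, 16, 23, 6, 5, 21, 7, 14, 11, 4, 3, 20, 18, 19, 9, 17, 12, 22, 13, 8, 15, 0],
   [0, 1, 6, 17, 23, 11, 10, 9, 13, 16, 4, 2, 12, 20, 8, 21, 22, 19, 15, 14, 3, 7, 18, 5],
   [],
   [],
   [],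
   [],
   [],
   [],
   [4, 1, 11, 20, 5, 0, 10, 15, 7, 22, 6, 2, 9, 16, 19, 8, 17, 3, 14, 12, 21, 13, 18, 23],
   [0, 1, 6, 20, 4, 23, 11, 8, 7, 12, 2, 10, 14, 16, 18, 15, 3, 22, 9, 17, 13, 19, 21, 5],
   [],
   [],
   [5, 1, 0, 8, 6, 23, 2, 19, 13, 22, 11, 10, 17, 3, 15, 14, 16, 7, 20, 18, 12, 9, 21, 4],
   [],
   [],
   [],
   [6, 1, 11, 16, 2, 0, 10, 19, 7, 22, 4, 5, 12, 20, 15, 21, 17, 14, 3, 9, 8, 18, 13, 23],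
   [0, 1, 4, 22, 6, 23, 5, 19, 21, 12, 10, 11, 15, 8, 16, 7, 20, 13, 17, 9, 3, 18, 14, 2],
   [],
   [],
   [],
   [],
   [],
   [],
   [6, 1, 11, 13, 0, 23, 10, 7, 21, 16, 4, 5, 18, 9, 20, 19, 3, 17, 14, 15, 12, 8, 22, 2],
   [2, 1, 5, 3, 4, 0, 10, 13, 16, 19, 11, 6, 8, 21, 14, 22, 12, 17, 9, 18, 15, 7, 20, 23],
   [],
   [],
   [11, 1, 23, 8, 4, 2, 5, 21, 17, 14, 6, 10, 22, 19, 18, 15, 3, 12, 7, 9, 16, 13, 20, 0],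
   [],
   [],
   [],
   [10, 1, 11, 14, 23, 0, 4, 20, 15, 17, 5, 6, 8, 16, 13, 9, 21, 19, 7, 22, 12, 18, 3, 2],
   [],
   [],
   [],
   [],
   [],
   [],
   [],
   [5, 1, 11, 8, 2, 6, 23, 13, 15, 14, 4, 10, 3, 7, 19, 12, 16, 17, 18, 21, 22, 9, 20, 0],
   [23, 1, 6, 15, 5, 4, 0, 21, 20, 14, 10, 11, 17, 9, 18, 12, 8, 3, 13, 19, 22, 7, 16, 2],
   [],
   [],
   [5, 1, 0, 20, 4, 2, 23, 13, 8, 18, 10, 6, 17, 14, 7, 3, 12, 16, 19, 9, 15, 21, 22, 11],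
   [0, 1, 23, 17, 10, 5, 4, 22, 21, 12, 11, 6, 7, 15, 14, 8, 20, 3, 19, 16, 18, 13, 9, 2],
   [],
   [],
   [],
   [],
   [],
   [],
   [4, 1, 23, 14, 5, 11, 0, 13, 8, 18, 6, 10, 19, 20, 7, 3, 12, 9, 17, 16, 15, 22, 21, 2],
   [],
   [],
   [],
   [5, 1, 4, 21, 0, 11, 23, 3, 15, 12, 6, 2, 16, 17, 7, 18, 13, 19, 14, 22, 8, 9, 20, 10],
   [],
   [],
   [],
   [6, 1, 23, 22, 0, 11, 2, 18, 7, 14, 5, 10, 20, 17, 21, 13, 9, 8, 16, 15, 19, 3, 12, 4],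
   [],
   [],
   [],
   [4, 1, 11, 14, 23, 10, 0, 7, 20, 12, 2, 5, 9, 8, 3, 16, 21, 17, 15, 13, 19, 18, 22, 6],
   [],
   [],
   [],
   [],
   [],
   [],
   [],
   [11, 1, 6, 8, 2, 23, 0, 7, 9, 17, 10, 5, 15, 16, 22, 14, 12, 21, 20, 13, 3, 18, 19, 4],
   [],
   [],
   [],
   [],
   [4, 1, 2, 17, 6, 23, 0, 7, 20, 15, 5, 11, 22, 13, 8, 16, 9, 19, 18, 3, 14, 12, 21, 10],
   [],
   [],
   [],
   [23, 1, 11, 19, 6, 0, 2, 9, 17, 15, 10, 5, 18, 8, 20, 12, 21, 3, 16, 14, 13, 7, 22, 4],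
   [],
   [],
   [],
   [],
   [],
   [],
   [],
   [],
   [],
   [],
   [],
   [],
   [],
   [],
   [],
   [],
   [],
   [],
   [10, 1, 23, 12, 4, 0, 2, 13, 17, 14, 11, 6, 15, 9, 19, 20, 3, 16, 21, 18, 8, 7, 22, 5],
   [],
   [],
   [],
   [5, 1, 11, 9, 23, 4, 10, 13, 14, 17, 0, 2, 21, 7, 20, 19, 3, 15, 18, 16, 8, 22, 12, 6],
   [0, 1, 6, 15, 2, 11, 4, 12, 8, 22, 5, 10, 13, 7, 14, 18, 21, 16, 3, 9, 20, 17, 19, 23],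
   [],
   [],
   [2, 1, 23, 15, 5, 10, 4, 22, 21, 18, 11, 6, 19, 17, 20, 8, 14, 9, 7, 13, 12, 16, 3, 0],
   [],
   [],
   [],
   [5, 1, 10, 3, 11, 6, 23, 18, 14, 22, 0, 4, 15, 17, 20, 21, 12, 19, 16, 13, 8, 7, 9, 2],
   [],
   [],
   [],
   [],
   [23, 1, 0, 14, 10, 11, 5, 18, 19, 17, 4, 2, 21, 13, 16, 9, 8, 15, 7, 22, 12, 20, 3, 6],
   [],
   [],
   [],
   [],
   [],
   [],
   [6, 1, 0, 20, 23, 4, 10, 18, 3, 12, 5, 11, 22, 19, 8, 15, 7, 14, 9, 17, 13, 16, 21, 2],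
   [],
   [],
   [],
   [10, 1, 6, 14, 23, 5, 11, 12, 19, 17, 2, 4, 22, 13, 9, 16, 8, 7, 15, 21, 18, 20, 3, 0],
   [],
   [],
   [],
   [10, 1, 23, 14, 0, 5, 6, 18, 3, 12, 4, 2, 21, 17, 8, 15, 7, 20, 16, 19, 13, 9, 22, 11],
   [],
   [],
   [],
   [],
   [23, 1, 11, 20, 10, 0, 2, 14, 21, 17, 5, 6, 8, 12, 3, 18, 15, 19, 22, 7, 16, 9, 13, 4],
   [],
   [],
   [5, 1, 0, 19, 6, 23, 4, 17, 21, 18, 11, 2, 8, 7, 16, 15, 14, 12, 22, 20, 3, 13, 9, 10],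
   [4, 1, 0, 22, 5, 2, 6, 12, 21, 19, 11, 10, 14, 8, 16, 20, 7, 13, 18, 9, 3, 17, 15, 23],
   [],
   [],
   [],
   [],
   [],
   [],
   [],
   [],
   [],
   [],
   [10, 1, 4, 20, 23, 0, 2, 16, 19, 18, 6, 11, 7, 3, 17, 12, 9, 13, 21, 14, 8, 15, 22, 5],
   [],
   [],
   [],
   [],
   [],
   [],
   [],
   [],
   [],
   [],
   [],
   [],
   [],
   [],
   [],
   [5, 1, 2, 7, 6, 11, 23, 17, 8, 18, 4, 10, 22, 15, 16, 19, 12, 20, 21, 14, 9, 3, 13, 0],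
   [23, 1, 2, 13, 10, 6, 0, 18, 9, 22, 5, 4, 7, 21, 20, 19, 3, 17, 14, 12, 15, 8, 16, 11],
   [],
   [],
   [],
   [],
   [],
   [],
   [],
   [0, 1, 2, 16, 10, 5, 23, 18, 15, 22, 6, 4, 17, 14, 20, 3, 19, 7, 21, 8, 9, 12, 13, 11],
   [],
   [],
   [],
   [],
   [],
   [],
   [10, 1, 5, 15, 23, 2, 0, 17, 19, 18, 6, 11, 21, 22, 16, 8, 9, 14, 7, 13, 12, 20, 3, 4],
   [],
   [],
   [],
   [],
   [2, 1, 23, 18, 4, 5, 0, 15, 16, 12, 6, 11, 3, 17, 13, 14, 19, 7, 21, 20, 22, 9, 8, 10],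
   [],
   [],
   [],
   [],
   [],
   [],
   [],
   [],
   [],
   [],
   [],
   [],
   [],
   [],
   [],
   [],
   [],
   [],
   [6, 1, 2, 18, 5, 23, 0, 14, 13, 16, 11, 10, 21, 7, 15, 19, 22, 3, 9, 8, 12, 20, 17, 4],
   [],
   [],
   [],
   [],
   [],
   [],
   [],
   [10, 1, 6, 9, 23, 2, 0, 19, 8, 14, 11, 5, 18, 16, 13, 17, 20, 21, 12, 22, 3, 15, 7, 4],
   [],
   [],
   [],
   [],
   [],
   [],
   [],
   [],
   [],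
   [],
   [],
   [],
   [],
   [],
   []]

theorem orbB_2 : orbChunkL [O0] [1] clsB repsB 256 2 certsB_2 = true := by
  decide +kernel

def certsB_3 : List (List Nat) :=
  [[0, 1, 10, 15, 23, 4, 5, 9, 12, 18, 2, 11, 20, 13, 19, 17, 8, 22, 21, 14, 16, 7, 3, 6],
   [0, 1, 6, 13, 11, 10, 2, 7, 22, 12, 4, 5, 18, 16, 3, 17, 14, 8, 20, 21, 9, 19, 15, 23],
   [],
   [],
   [4, 1, 0, 9, 5, 6, 11, 19, 14, 16, 2, 10, 18, 7, 12, 13, 15, 17, 21, 3, 22, 20, 8, 23],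
   [0, 1, 23, 3, 6, 4, 5, 13, 18, 17, 10, 2, 8, 15, 20, 7, 16, 19, 12, 9, 22, 21, 14, 11],
   [],
   [],
   [5, 1, 4, 12, 0, 2, 6, 14, 3, 18, 11, 10, 22, 7, 21, 17, 15, 20, 9, 19, 16, 13, 8, 23],
   [],
   [],
   [],
   [],
   [],
   [],
   [],
   [],
   [0, 1, 10, 15, 23, 4, 5, 9, 12, 18, 2, 11, 20, 13, 19, 17, 8, 22, 21, 14, 16, 7, 3, 6],
   [],
   [],
   [2, 1, 23, 21, 0, 4, 11, 19, 18, 16, 6, 10, 7, 14, 12, 9, 17, 20, 13, 22, 8, 15, 3, 5],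
   [],
   [],
   [],
   [],
   [],
   [],
   [],
   [],
   [0, 1, 23, 12, 2, 6, 5, 8, 14, 19, 11, 10, 18, 22, 17, 20, 13, 9, 21, 7, 3, 15, 16, 4],
   [],
   [],
   [10, 1, 2, 15, 11, 23, 4, 7, 22, 16, 6, 5, 8, 19, 20, 17, 13, 9, 21, 3, 18, 12, 14, 0],
   [],
   [],
   [],
   [10, 1, 0, 15, 11, 23, 4, 3, 16, 22, 5, 6, 18, 14, 9, 21, 13, 20, 17, 7, 8, 12, 19, 2],
   [],
   [],
   [],
   [],
   [],
   [],
   [],
   [10, 1, 23, 12, 4, 0, 2, 13, 17, 14, 11, 6, 15, 9, 19, 20, 3, 16, 21, 18, 8, 7, 22, 5],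
   [],
   [],
   [],
   [],
   [],
   [],
   [],
   [],
   [],
   [],
   [],
   [10, 1, 4, 12, 0, 23, 5, 7, 17, 18, 2, 6, 3, 9, 13, 22, 16, 15, 14, 21, 20, 19, 8, 11],
   [],
   [],
   [],
   [],
   [],
   [],
   [],
   [5, 1, 2, 20, 10, 4, 0, 3, 22, 16, 6, 11, 19, 18, 21, 9, 13, 12, 15, 14, 8, 17, 7, 23],
   [],
   [],
   [],
   [],
   [],
   [],
   [],
   [4, 1, 5, 16, 10, 6, 23, 15, 22, 18, 2, 11, 14, 13, 3, 19, 20, 21, 12, 8, 9, 7, 17, 0],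
   [0, 1, 4, 22, 6, 5, 23, 19, 17, 16, 10, 2, 15, 7, 12, 8, 18, 14, 21, 3, 9, 20, 13, 11],
   [],
   [],
   [2, 1, 23, 18, 4, 5, 0, 15, 16, 12, 6, 11, 3, 17, 13, 14, 19, 7, 21, 20, 22, 9, 8, 10],
   [],
   [],
   [],
   [5, 1, 2, 19, 0, 10, 23, 9, 14, 22, 4, 11, 18, 13, 3, 7, 12, 20, 21, 8, 17, 16, 15, 6],
   [],
   [],
   [],
   [],
   [],
   [],
   [],
   [],
   [],
   [],
   [],
   [],
   [],
   [],
   [],
   [5, 1, 4, 13, 11, 23, 0, 3, 12, 17, 2, 10, 8, 15, 14, 7, 9, 19, 18, 16, 22, 21, 20, 6],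
   [],
   [],
   [],
   [],
   [],
   [],
   [],
   [],
   [],
   [],
   [],
   [],
   [],
   [],
   [],
   [],
   [0, 1, 6, 13, 4, 23, 2, 18, 14, 12, 11, 5, 7, 19, 8, 21, 22, 3, 9, 17, 20, 16, 15, 10],
   [],
   [],
   [],
   [],
   [],
   [],
   [],
   [],
   [],
   [],
   [],
   [],
   [],
   [],
   [0, 1, 6, 20, 10, 2, 23, 12, 3, 18, 11, 5, 21, 19, 8, 7, 15, 14, 16, 17, 13, 9, 22, 4],
   [],
   [],
   [],
   [2, 1, 23, 20, 6, 10, 5, 17, 16, 12, 11, 4, 13, 7, 9, 18, 19, 15, 22, 14, 8, 3, 21, 0],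
   [],
   [],
   [],
   [11, 1, 4, 18, 5, 0, 10, 17, 19, 22, 23, 2, 16, 9, 7, 8, 15, 13, 12, 14, 21, 3, 20, 6],
   [],
   [],
   [],
   [],
   [],
   [],
   [],
   [11, 1, 6, 19, 0, 10, 2, 17, 22, 12, 5, 4, 8, 15, 9, 7, 14, 18, 21, 20, 3, 13, 16, 23],
   [23, 1, 5, 19, 0, 2, 6, 12, 18, 14, 10, 4, 16, 9, 22, 8, 21, 15, 17, 3, 20, 7, 13, 11],
   [],
   [],
   [],
   [],
   [],
   [],
   [],
   [],
   [],
   [],
   [],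
   [],
   [],
   [],
   [],
   [23, 1, 5, 21, 10, 0, 4, 17, 22, 12, 6, 2, 15, 8, 9, 7, 14, 13, 19, 16, 3, 18, 20, 11],
   [],
   [],
   [],
   [],
   [],
   [],
   [2, 1, 5, 14, 4, 0, 6, 16, 22, 18, 10, 11, 15, 12, 17, 13, 20, 3, 19, 9, 7, 8, 21, 23],
   [],
   [],
   [],
   [],
   [],
   [],
   [],
   [],
   [],
   [],
   [],
   [],
   [],
   [],
   [],
   [],
   [],
   [],
   [],
   [],
   [],
   [],
   [],
   [],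
   [],
   [],
   [],
   [6, 1, 23, 20, 11, 10, 0, 17, 14, 18, 2, 5, 13, 8, 16, 3, 21, 7, 19, 9, 15, 12, 22, 4],
   [],
   [],
   [],
   [],
   [],
   [],
   [],
   [],
   [],
   [],
   [],
   [],
   [],
   [],
   [],
   [],
   [],
   [],
   [],
   [],
   [],
   [],
   [],
   [],
   [],
   [],
   [],
   [2, 1, 11, 9, 10, 0, 23, 17, 16, 14, 5, 4, 12, 8, 3, 18, 15, 22, 19, 13, 21, 20, 7, 6],
   [],
   [],
   [],
   [],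
   [],
   [],
   [],
   [],
   [],
   [],
   [],
   [],
   [],
   [],
   [],
   [],
   [],
   [],
   [],
   [],
   [],
   [],
   [],
   [],
   [],
   [],
   [],
   [],
   [],
   [],
   []]

theorem orbB_3 : orbChunkL [O0] [1] clsB repsB 256 3 certsB_3 = true := by
  decide +kernel

def certsB_4 : List (List Nat) :=
  [[11, 1, 2, 13, 10, 6, 5, 19, 9, 8, 0, 4, 14, 21, 17, 18, 16, 20, 7, 15, 12, 22, 3, 23],
   [0, 1, 11, 19, 4, 10, 6, 3, 7, 8, 23, 5, 20, 21, 13, 12, 15, 14, 16, 9, 18, 22, 17, 2],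
   [],
   [],
   [11, 1, 0, 20, 4, 2, 10, 3, 8, 21, 23, 6, 19, 14, 16, 13, 22, 7, 17, 15, 9, 18, 12, 5],
   [2, 1, 4, 3, 6, 10, 5, 18, 17, 13, 23, 11, 15, 14, 7, 16, 20, 12, 21, 9, 22, 19, 8, 0],
   [],
   [],
   [],
   [0, 1, 2, 22, 4, 10, 6, 13, 20, 3, 23, 11, 16, 18, 8, 17, 19, 21, 7, 12, 14, 15, 9, 5],
   [],
   [],
   [10, 1, 23, 12, 5, 6, 4, 19, 3, 15, 0, 11, 16, 7, 22, 20, 18, 14, 21, 17, 9, 8, 13, 2],
   [4, 1, 0, 14, 6, 10, 11, 20, 7, 22, 2, 5, 8, 9, 18, 16, 17, 21, 15, 19, 13, 3, 12, 23],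
   [],
   [],
   [6, 1, 2, 19, 0, 11, 5, 7, 13, 3, 23, 10, 21, 14, 12, 18, 8, 16, 9, 22, 15, 17, 20, 4],
   [],
   [],
   [],
   [],
   [0, 1, 23, 22, 4, 5, 11, 16, 3, 7, 2, 10, 13, 9, 20, 21, 12, 18, 8, 15, 19, 14, 17, 6],
   [],
   [],
   [11, 1, 10, 22, 23, 5, 2, 7, 3, 20, 0, 4, 17, 9, 16, 12, 19, 13, 14, 8, 21, 15, 18, 6],
   [4, 1, 5, 15, 0, 10, 6, 7, 3, 20, 23, 11, 8, 18, 16, 12, 19, 14, 13, 17, 21, 22, 9, 2],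
   [],
   [],
   [11, 1, 0, 15, 4, 6, 5, 21, 22, 18, 2, 10, 17, 19, 14, 8, 20, 16, 7, 13, 12, 9, 3, 23],
   [],
   [],
   [],
   [5, 1, 11, 20, 10, 0, 4, 8, 21, 15, 23, 6, 14, 12, 7, 22, 17, 16, 18, 3, 19, 13, 9, 2],
   [4, 1, 6, 3, 5, 2, 11, 21, 20, 17, 0, 10, 16, 19, 15, 12, 13, 18, 7, 22, 9, 8, 14, 23],
   [],
   [],
   [10, 1, 4, 21, 6, 23, 5, 13, 8, 7, 2, 11, 9, 22, 18, 3, 15, 14, 16, 20, 12, 17, 19, 0],
   [4, 1, 2, 9, 5, 23, 10, 18, 16, 21, 0, 6, 19, 8, 14, 17, 3, 7, 12, 20, 15, 22, 13, 11],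
   [],
   [],
   [5, 1, 2, 12, 4, 0, 11, 21, 3, 9, 23, 10, 20, 7, 13, 16, 22, 15, 19, 18, 8, 14, 17, 6],
   [],
   [],
   [],
   [],
   [],
   [],
   [],
   [11, 1, 5, 16, 2, 23, 10, 7, 9, 22, 0, 6, 20, 8, 17, 14, 3, 18, 15, 19, 12, 21, 13, 4],
   [],
   [],
   [],
   [10, 1, 0, 18, 4, 2, 11, 21, 9, 3, 23, 5, 14, 19, 16, 13, 22, 17, 7, 12, 8, 20, 15, 6],
   [],
   [],
   [],
   [],
   [],
   [],
   [],
   [10, 1, 0, 12, 2, 23, 6, 7, 18, 20, 4, 11, 3, 8, 16, 13, 22, 19, 15, 9, 17, 14, 21, 5],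
   [],
   [],
   [],
   [10, 1, 4, 13, 5, 2, 23, 20, 3, 15, 0, 11, 17, 8, 9, 19, 18, 21, 14, 16, 22, 7, 12, 6],
   [2, 1, 10, 16, 11, 5, 0, 3, 13, 17, 23, 6, 21, 22, 14, 8, 20, 15, 9, 12, 19, 7, 18, 4],
   [],
   [],
   [6, 1, 2, 9, 11, 10, 23, 3, 17, 8, 0, 5, 22, 12, 13, 14, 19, 21, 7, 15, 20, 18, 16, 4],
   [],
   [],
   [],
   [2, 1, 4, 18, 6, 10, 0, 15, 8, 9, 23, 5, 3, 12, 20, 7, 16, 22, 13, 21, 14, 17, 19, 11],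
   [],
   [],
   [],
   [],
   [23, 1, 0, 15, 10, 11, 4, 9, 18, 7, 2, 5, 20, 3, 14, 19, 13, 16, 22, 17, 21, 12, 8, 6],
   [],
   [],
   [10, 1, 11, 18, 2, 5, 23, 22, 21, 9, 4, 6, 20, 14, 3, 8, 13, 15, 12, 17, 16, 7, 19, 0],
   [23, 1, 11, 20, 4, 5, 2, 3, 9, 17, 0, 6, 19, 15, 14, 22, 12, 8, 18, 16, 7, 21, 13, 10],
   [],
   [],
   [10, 1, 2, 3, 0, 6, 23, 7, 9, 16, 4, 11, 12, 22, 20, 14, 8, 19, 17, 18, 15, 13, 21, 5],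
   [],
   [],
   [],
   [6, 1, 5, 15, 0, 11, 23, 13, 18, 17, 2, 10, 12, 3, 20, 7, 16, 9, 8, 19, 22, 14, 21, 4],
   [],
   [],
   [],
   [],
   [],
   [],
   [],
   [],
   [2, 1, 10, 18, 6, 23, 4, 16, 9, 22, 0, 11, 17, 19, 13, 8, 3, 7, 12, 14, 21, 15, 20, 5],
   [],
   [],
   [],
   [],
   [],
   [],
   [10, 1, 5, 19, 11, 0, 2, 7, 17, 3, 4, 6, 21, 8, 12, 22, 14, 16, 15, 18, 9, 13, 20, 23],
   [0, 1, 10, 19, 5, 4, 2, 16, 21, 13, 23, 11, 12, 7, 22, 3, 9, 15, 20, 17, 8, 18, 14, 6],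
   [],
   [],
   [],
   [],
   [],
   [],
   [6, 1, 11, 9, 0, 4, 23, 3, 16, 18, 2, 10, 22, 8, 15, 21, 17, 20, 13, 7, 14, 12, 19, 5],
   [],
   [],
   [],
   [],
   [],
   [],
   [],
   [],
   [],
   [],
   [],
   [],
   [],
   [],
   [],
   [4, 1, 5, 20, 2, 10, 11, 12, 3, 15, 23, 6, 21, 19, 13, 7, 18, 17, 16, 14, 8, 22, 9, 0],
   [0, 1, 2, 8, 11, 4, 10, 18, 13, 21, 23, 5, 12, 3, 14, 7, 9, 20, 15, 17, 19, 16, 22, 6],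
   [],
   [],
   [],
   [],
   [],
   [],
   [5, 1, 11, 16, 4, 2, 10, 18, 19, 13, 23, 6, 17, 12, 7, 9, 14, 20, 8, 3, 21, 15, 22, 0],
   [0, 1, 10, 17, 11, 2, 4, 22, 9, 13, 23, 5, 7, 12, 16, 3, 21, 18, 14, 19, 8, 15, 20, 6],
   [],
   [],
   [4, 1, 23, 22, 2, 11, 10, 16, 19, 9, 0, 5, 13, 15, 8, 12, 18, 21, 14, 7, 17, 20, 3, 6],
   [],
   [],
   [],
   [2, 1, 11, 8, 0, 5, 10, 18, 19, 7, 23, 6, 12, 17, 13, 9, 21, 3, 16, 20, 14, 22, 15, 4],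
   [],
   [],
   [],
   [5, 1, 0, 9, 2, 11, 10, 19, 22, 7, 4, 6, 18, 3, 21, 15, 17, 13, 20, 16, 8, 12, 14, 23],
   [],
   [],
   [],
   [10, 1, 5, 12, 23, 11, 4, 16, 3, 8, 0, 6, 19, 7, 9, 21, 13, 17, 20, 14, 22, 15, 18, 2],
   [],
   [],
   [],
   [],
   [],
   [],
   [],
   [2, 1, 10, 21, 11, 0, 4, 16, 20, 13, 23, 6, 3, 12, 22, 7, 17, 8, 19, 14, 18, 15, 9, 5],
   [],
   [],
   [],
   [],
   [2, 1, 0, 17, 11, 23, 6, 15, 22, 18, 4, 10, 21, 7, 3, 19, 20, 14, 8, 12, 9, 13, 16, 5],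
   [],
   [],
   [],
   [4, 1, 5, 15, 10, 23, 11, 14, 21, 9, 2, 6, 16, 17, 7, 18, 13, 8, 3, 22, 19, 12, 20, 0],
   [],
   [],
   [],
   [],
   [],
   [],
   [10, 1, 11, 13, 4, 2, 6, 12, 3, 22, 23, 5, 15, 8, 14, 7, 9, 19, 18, 20, 17, 21, 16, 0],
   [0, 1, 6, 9, 23, 2, 10, 12, 8, 7, 4, 5, 17, 16, 3, 18, 15, 22, 19, 21, 13, 20, 14, 11],
   [],
   [],
   [],
   [],
   [],
   [],
   [],
   [],
   [],
   [],
   [],
   [],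
   [],
   [],
   [6, 1, 5, 13, 4, 11, 0, 14, 3, 15, 23, 2, 19, 8, 16, 17, 18, 22, 20, 9, 21, 7, 12, 10],
   [4, 1, 5, 16, 10, 6, 23, 15, 22, 18, 2, 11, 14, 13, 3, 19, 20, 21, 12, 8, 9, 7, 17, 0],
   [],
   [],
   [],
   [2, 1, 4, 18, 6, 10, 0, 15, 8, 9, 23, 5, 3, 12, 20, 7, 16, 22, 13, 21, 14, 17, 19, 11],
   [],
   [],
   [],
   [],
   [],
   [],
   [],
   [],
   [],
   [],
   [],
   [],
   [],
   [],
   [5, 1, 0, 7, 23, 10, 2, 15, 17, 16, 4, 11, 8, 22, 14, 21, 18, 9, 19, 12, 3, 13, 20, 6],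
   [],
   [],
   [],
   [],
   [],
   [],
   [],
   [],
   [],
   [],
   [],
   [],
   [],
   [],
   [],
   [10, 1, 4, 13, 11, 0, 2, 15, 18, 9, 23, 6, 12, 7, 20, 3, 19, 17, 8, 16, 22, 14, 21, 5],
   [],
   [],
   [],
   [],
   [],
   [],
   [],
   [],
   [],
   [],
   [],
   [],
   [],
   [],
   [],
   [],
   [],
   [],
   [],
   [6, 1, 10, 12, 23, 4, 0, 14, 13, 20, 2, 11, 22, 15, 8, 19, 17, 18, 16, 7, 3, 9, 21, 5],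
   [],
   [],
   [],
   [],
   [],
   [],
   []]

theorem orbB_4 : orbChunkL [O0] [1] clsB repsB 256 4 certsB_4 = true := by
  decide +kernel

def certsB_5 : List (List Nat) :=
  [[11, 1, 5, 8, 10, 6, 2, 20, 12, 13, 23, 4, 14, 18, 17, 21, 15, 19, 22, 16, 9, 7, 3, 0],
   [23, 1, 6, 21, 2, 5, 4, 7, 18, 8, 0, 11, 19, 14, 15, 13, 12, 17, 9, 16, 3, 20, 22, 10],
   [],
   [],
   [10, 1, 23, 15, 2, 11, 6, 20, 22, 21, 0, 5, 9, 19, 12, 18, 8, 13, 3, 16, 14, 7, 17, 4],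
   [],
   [],
   [],
   [5, 1, 11, 12, 6, 4, 10, 3, 16, 9, 23, 2, 7, 19, 22, 21, 8, 14, 20, 15, 13, 18, 17, 0],
   [0, 1, 4, 18, 10, 6, 2, 21, 12, 19, 23, 5, 14, 8, 7, 20, 16, 13, 22, 15, 3, 17, 9, 11],
   [],
   [],
   [],
   [],
   [],
   [],
   [4, 1, 5, 15, 0, 2, 11, 7, 12, 9, 23, 6, 8, 13, 14, 3, 17, 16, 18, 19, 22, 21, 20, 10],
   [0, 1, 6, 21, 23, 5, 11, 7, 15, 20, 2, 10, 19, 17, 16, 8, 9, 3, 22, 18, 14, 13, 12, 4],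
   [],
   [],
   [],
   [0, 1, 4, 13, 23, 11, 5, 16, 15, 20, 2, 10, 22, 12, 7, 14, 9, 18, 19, 3, 8, 21, 17, 6],
   [],
   [],
   [],
   [],
   [],
   [],
   [],
   [],
   [],
   [],
   [5, 1, 6, 9, 10, 23, 4, 7, 18, 15, 0, 11, 14, 19, 8, 13, 3, 16, 21, 17, 12, 22, 20, 2],
   [],
   [],
   [],
   [],
   [],
   [],
   [],
   [11, 1, 6, 22, 2, 23, 5, 9, 14, 13, 0, 10, 3, 12, 21, 7, 19, 8, 17, 20, 18, 15, 16, 4],
   [],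
   [],
   [],
   [10, 1, 4, 14, 5, 23, 11, 16, 19, 3, 2, 6, 15, 13, 21, 12, 20, 18, 22, 9, 7, 8, 17, 0],
   [],
   [],
   [],
   [10, 1, 11, 22, 0, 4, 6, 7, 12, 16, 23, 5, 17, 14, 20, 3, 19, 18, 9, 8, 21, 15, 13, 2],
   [],
   [],
   [],
   [],
   [],
   [],
   [],
   [],
   [0, 1, 10, 15, 23, 4, 5, 9, 12, 18, 2, 11, 20, 13, 19, 17, 8, 22, 21, 14, 16, 7, 3, 6],
   [],
   [],
   [],
   [],
   [],
   [],
   [5, 1, 4, 20, 10, 11, 23, 13, 22, 21, 0, 2, 17, 18, 9, 16, 8, 15, 7, 19, 3, 14, 12, 6],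
   [],
   [],
   [],
   [5, 1, 23, 18, 6, 10, 4, 20, 19, 17, 0, 11, 22, 9, 13, 3, 8, 7, 15, 21, 14, 12, 16, 2],
   [],
   [],
   [],
   [4, 1, 10, 22, 6, 11, 23, 19, 16, 3, 0, 5, 15, 13, 20, 12, 21, 18, 14, 17, 7, 8, 9, 2],
   [],
   [],
   [],
   [],
   [],
   [],
   [],
   [],
   [],
   [],
   [],
   [],
   [],
   [],
   [],
   [],
   [],
   [],
   [],
   [6, 1, 4, 15, 2, 5, 0, 18, 14, 22, 23, 10, 3, 16, 20, 21, 12, 9, 17, 7, 8, 13, 19, 11],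
   [],
   [],
   [],
   [],
   [2, 1, 6, 17, 11, 0, 4, 13, 19, 22, 23, 5, 20, 8, 16, 14, 15, 18, 3, 9, 12, 21, 7, 10],
   [],
   [],
   [6, 1, 23, 16, 5, 0, 4, 8, 19, 20, 2, 10, 9, 12, 14, 17, 3, 15, 18, 22, 13, 21, 7, 11],
   [],
   [],
   [],
   [],
   [],
   [],
   [],
   [],
   [],
   [],
   [],
   [],
   [],
   [],
   [],
   [],
   [],
   [],
   [],
   [],
   [],
   [],
   [],
   [],
   [],
   [],
   [],
   [4, 1, 2, 9, 5, 11, 6, 18, 17, 13, 0, 10, 19, 12, 7, 16, 20, 14, 8, 3, 22, 15, 21, 23],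
   [],
   [],
   [],
   [6, 1, 0, 15, 11, 4, 5, 14, 17, 13, 23, 2, 16, 21, 19, 3, 20, 22, 18, 7, 8, 9, 12, 10],
   [4, 1, 23, 3, 11, 6, 10, 19, 12, 22, 0, 5, 20, 7, 15, 16, 14, 18, 21, 8, 13, 17, 9, 2],
   [],
   [],
   [],
   [],
   [],
   [],
   [4, 1, 0, 17, 6, 10, 11, 12, 18, 15, 23, 2, 9, 16, 13, 8, 3, 20, 19, 22, 7, 14, 21, 5],
   [],
   [],
   [],
   [5, 1, 10, 19, 23, 4, 6, 16, 17, 3, 0, 2, 12, 8, 21, 18, 14, 7, 9, 22, 15, 13, 20, 11],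
   [],
   [],
   [],
   [],
   [],
   [],
   [],
   [],
   [],
   [],
   [],
   [],
   [],
   [],
   [],
   [6, 1, 4, 20, 2, 23, 11, 14, 12, 15, 0, 5, 8, 21, 16, 22, 13, 7, 18, 3, 19, 17, 9, 10],
   [],
   [],
   [],
   [],
   [],
   [],
   [],
   [],
   [],
   [],
   [],
   [],
   [],
   [],
   [],
   [],
   [],
   [],
   [],
   [],
   [],
   [],
   [],
   [],
   [],
   [],
   [],
   [],
   [],
   [],
   [],
   [],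
   [],
   [],
   [],
   [],
   [],
   [],
   [],
   [10, 1, 6, 17, 2, 4, 23, 18, 22, 21, 0, 5, 16, 7, 14, 20, 8, 3, 13, 9, 12, 19, 15, 11],
   [],
   [],
   [],
   [],
   [],
   [],
   [],
   [],
   [0, 1, 5, 9, 4, 6, 23, 19, 15, 21, 2, 11, 18, 20, 7, 22, 17, 14, 3, 16, 8, 12, 13, 10],
   [],
   [],
   [],
   [],
   [],
   [],
   [],
   [],
   [],
   [],
   [],
   [],
   [],
   [],
   [11, 1, 6, 9, 10, 0, 4, 19, 14, 20, 23, 5, 18, 7, 3, 13, 8, 22, 21, 12, 17, 16, 15, 2],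
   [],
   [],
   [],
   [],
   [],
   [],
   [],
   [],
   [],
   [],
   [],
   [],
   [],
   [],
   [],
   [],
   [],
   [],
   [],
   [],
   [],
   [],
   [],
   [],
   [],
   [],
   [],
   [],
   [],
   [],
   []]

theorem orbB_5 : orbChunkL [O0] [1] clsB repsB 256 5 certsB_5 = true := by
  decide +kernel

def certsB_6 : List (List Nat) :=
  [[4, 1, 6, 3, 5, 2, 11, 21, 20, 17, 0, 10, 16, 19, 15, 12, 13, 18, 7, 22, 9, 8, 14, 23],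
   [23, 1, 11, 3, 4, 5, 10, 19, 13, 16, 0, 2, 20, 8, 12, 14, 22, 7, 17, 18, 15, 9, 21, 6],
   [],
   [],
   [11, 1, 23, 13, 5, 4, 2, 21, 19, 17, 0, 6, 9, 14, 15, 7, 8, 12, 18, 16, 22, 3, 20, 10],
   [],
   [],
   [],
   [4, 1, 10, 17, 2, 5, 6, 19, 9, 14, 23, 11, 8, 12, 13, 18, 7, 20, 16, 15, 21, 22, 3, 0],
   [],
   [],
   [],
   [11, 1, 23, 18, 2, 6, 5, 8, 15, 17, 0, 4, 12, 3, 19, 7, 21, 9, 13, 20, 22, 14, 16, 10],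
   [],
   [],
   [],
   [2, 1, 6, 21, 0, 4, 11, 7, 3, 14, 23, 5, 19, 16, 9, 12, 17, 13, 20, 8, 22, 15, 18, 10],
   [],
   [],
   [],
   [6, 1, 0, 7, 23, 11, 5, 21, 22, 14, 2, 10, 19, 17, 18, 8, 12, 13, 15, 16, 20, 3, 9, 4],
   [23, 1, 2, 22, 0, 11, 10, 13, 9, 12, 4, 6, 16, 3, 15, 21, 17, 19, 8, 18, 20, 7, 14, 5],
   [],
   [],
   [],
   [],
   [],
   [],
   [],
   [],
   [],
   [],
   [],
   [],
   [],
   [],
   [5, 1, 4, 20, 10, 2, 6, 13, 18, 15, 0, 11, 17, 22, 12, 7, 3, 21, 16, 14, 8, 19, 9, 23],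
   [],
   [],
   [],
   [10, 1, 2, 12, 4, 23, 11, 7, 20, 17, 0, 5, 3, 21, 22, 16, 13, 14, 19, 8, 18, 15, 9, 6],
   [],
   [],
   [],
   [],
   [4, 1, 0, 12, 10, 23, 11, 7, 16, 14, 2, 5, 3, 19, 9, 20, 15, 17, 21, 18, 8, 13, 22, 6],
   [],
   [],
   [],
   [2, 1, 6, 21, 0, 4, 11, 7, 3, 14, 23, 5, 19, 16, 9, 12, 17, 13, 20, 8, 22, 15, 18, 10],
   [],
   [],
   [],
   [],
   [],
   [],
   [],
   [],
   [],
   [],
   [],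
   [],
   [],
   [],
   [2, 1, 5, 9, 6, 11, 0, 8, 15, 18, 23, 4, 16, 20, 12, 7, 3, 17, 14, 21, 13, 22, 19, 10],
   [4, 1, 5, 13, 10, 11, 23, 20, 22, 19, 0, 6, 17, 16, 3, 18, 15, 8, 7, 21, 9, 12, 14, 2],
   [],
   [],
   [],
   [],
   [],
   [],
   [4, 1, 5, 14, 6, 2, 0, 13, 21, 22, 23, 11, 19, 18, 16, 9, 8, 15, 7, 17, 3, 20, 12, 10],
   [],
   [],
   [],
   [],
   [],
   [],
   [],
   [],
   [],
   [],
   [],
   [],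
   [],
   [],
   [],
   [],
   [2, 1, 6, 19, 23, 10, 4, 7, 18, 12, 0, 11, 21, 9, 3, 13, 8, 20, 14, 22, 15, 17, 16, 5],
   [],
   [],
   [],
   [],
   [],
   [],
   [5, 1, 6, 9, 10, 23, 4, 7, 18, 15, 0, 11, 14, 19, 8, 13, 3, 16, 21, 17, 12, 22, 20, 2],
   [],
   [],
   [],
   [11, 1, 0, 13, 6, 23, 2, 7, 3, 14, 4, 10, 18, 8, 9, 12, 17, 21, 15, 16, 22, 20, 19, 5],
   [],
   [],
   [],
   [],
   [],
   [],
   [],
   [],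
   [],
   [],
   [],
   [11, 1, 5, 17, 4, 0, 2, 18, 13, 12, 23, 10, 16, 20, 8, 7, 15, 19, 22, 14, 3, 21, 9, 6],
   [],
   [],
   [],
   [],
   [],
   [],
   [],
   [],
   [],
   [],
   [],
   [],
   [],
   [],
   [],
   [11, 1, 10, 9, 6, 4, 5, 18, 13, 17, 23, 2, 19, 21, 16, 7, 20, 8, 14, 3, 22, 15, 12, 0],
   [23, 1, 11, 15, 6, 4, 2, 16, 20, 22, 0, 5, 14, 9, 13, 7, 18, 12, 8, 21, 17, 3, 19, 10],
   [],
   [],
   [11, 1, 0, 15, 6, 4, 5, 16, 19, 18, 23, 10, 14, 22, 17, 12, 9, 21, 13, 7, 8, 20, 3, 2],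
   [],
   [],
   [],
   [],
   [],
   [],
   [],
   [],
   [],
   [],
   [],
   [],
   [4, 1, 5, 20, 2, 10, 11, 12, 3, 15, 23, 6, 21, 19, 13, 7, 18, 17, 16, 14, 8, 22, 9, 0],
   [],
   [],
   [],
   [],
   [],
   [],
   [10, 1, 5, 16, 0, 2, 6, 12, 7, 22, 23, 11, 19, 20, 14, 3, 17, 15, 21, 8, 9, 18, 13, 4],
   [],
   [],
   [],
   [],
   [],
   [],
   [],
   [11, 1, 6, 21, 10, 23, 2, 12, 15, 18, 0, 5, 20, 17, 8, 13, 3, 22, 9, 19, 7, 16, 14, 4],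
   [],
   [],
   [],
   [],
   [],
   [],
   [],
   [11, 1, 4, 18, 5, 0, 10, 17, 19, 22, 23, 2, 16, 9, 7, 8, 15, 13, 12, 14, 21, 3, 20, 6],
   [],
   [],
   [],
   [],
   [],
   [],
   [],
   [],
   [],
   [],
   [],
   [],
   [],
   [],
   [],
   [],
   [],
   [],
   [],
   [],
   [],
   [],
   [],
   [2, 1, 10, 21, 11, 4, 0, 16, 19, 22, 23, 5, 3, 7, 13, 12, 15, 9, 20, 18, 14, 17, 8, 6],
   [],
   [],
   [],
   [],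
   [],
   [],
   [],
   [],
   [],
   [],
   [],
   [6, 1, 2, 12, 11, 10, 0, 19, 9, 15, 4, 5, 16, 17, 22, 18, 20, 14, 8, 7, 3, 21, 13, 23],
   [],
   [],
   [],
   [],
   [],
   [],
   [],
   [],
   [],
   [],
   [],
   [],
   [],
   [],
   [],
   [],
   [],
   [],
   [],
   [],
   [],
   [],
   [],
   [],
   [],
   [],
   [],
   [],
   [],
   [],
   [],
   [],
   [],
   [],
   [],
   [],
   [],
   [],
   [],
   [],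
   [],
   [],
   [],
   [],
   [],
   [],
   [],
   [],
   [],
   [],
   []]

theorem orbB_6 : orbChunkL [O0] [1] clsB repsB 256 6 certsB_6 = true := by
  decide +kernel

def certsB_7 : List (List Nat) :=
  [[],
   [23, 1, 4, 15, 5, 2, 11, 8, 16, 12, 0, 10, 7, 14, 18, 9, 19, 3, 20, 21, 17, 22, 13, 6],
   [],
   [],
   [4, 1, 23, 8, 5, 10, 6, 15, 14, 22, 0, 11, 7, 20, 19, 16, 12, 17, 9, 3, 13, 18, 21, 2],
   [],
   [],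
   [],
   [10, 1, 11, 12, 6, 4, 5, 20, 16, 17, 0, 2, 21, 19, 13, 7, 18, 15, 3, 14, 22, 8, 9, 23],
   [],
   [],
   [],
   [],
   [],
   [],
   [],
   [5, 1, 11, 9, 23, 4, 10, 13, 14, 17, 0, 2, 21, 7, 20, 19, 3, 15, 18, 16, 8, 22, 12, 6],
   [],
   [],
   [],
   [],
   [],
   [],
   [],
   [5, 1, 6, 22, 23, 2, 11, 20, 12, 16, 0, 10, 18, 14, 7, 21, 19, 17, 8, 9, 3, 15, 13, 4],
   [],
   [],
   [],
   [],
   [],
   [],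
   [],
   [11, 1, 2, 9, 4, 0, 10, 7, 18, 17, 23, 5, 14, 19, 22, 13, 16, 3, 21, 15, 20, 8, 12, 6],
   [4, 1, 5, 7, 6, 23, 10, 17, 12, 19, 2, 11, 22, 3, 8, 9, 16, 15, 14, 13, 18, 20, 21, 0],
   [],
   [],
   [],
   [],
   [],
   [],
   [],
   [],
   [],
   [],
   [],
   [],
   [],
   [],
   [],
   [],
   [],
   [],
   [],
   [],
   [],
   [],
   [],
   [],
   [],
   [],
   [],
   [],
   [],
   [],
   [],
   [],
   [],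
   [],
   [],
   [2, 1, 23, 3, 5, 11, 4, 17, 12, 15, 0, 6, 14, 7, 21, 9, 13, 16, 22, 19, 20, 8, 18, 10],
   [],
   [],
   [],
   [],
   [],
   [],
   [],
   [],
   [],
   [],
   [10, 1, 5, 18, 2, 11, 4, 13, 14, 12, 23, 6, 7, 21, 15, 19, 22, 3, 9, 17, 16, 20, 8, 0],
   [],
   [],
   [],
   [],
   [],
   [],
   [],
   [],
   [],
   [],
   [],
   [],
   [],
   [],
   [],
   [],
   [],
   [],
   [],
   [],
   [],
   [],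
   [],
   [],
   [],
   [],
   [],
   [],
   [],
   [],
   [],
   [],
   [],
   [],
   [],
   [],
   [],
   [],
   [],
   [],
   [],
   [],
   [],
   [],
   [],
   [],
   [],
   [],
   [],
   [],
   [],
   [],
   [],
   [],
   [],
   [],
   [0, 1, 6, 16, 11, 5, 2, 14, 22, 17, 23, 10, 15, 13, 3, 12, 7, 21, 19, 8, 9, 20, 18, 4],
   [],
   [],
   [],
   [],
   [],
   [],
   [],
   [],
   [],
   [],
   [],
   [],
   [],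
   [],
   [],
   [],
   [],
   [],
   [],
   [],
   [],
   [],
   [],
   [],
   [],
   [],
   [],
   [],
   [],
   [],
   [],
   [],
   [],
   [],
   [],
   [],
   [],
   [],
   [],
   [],
   [],
   [],
   [6, 1, 0, 17, 23, 2, 11, 12, 14, 19, 4, 5, 9, 3, 16, 22, 13, 18, 7, 21, 15, 20, 8, 10],
   [],
   [],
   [],
   [],
   [],
   [],
   [],
   [],
   [],
   [],
   [],
   [5, 1, 10, 3, 11, 6, 23, 18, 14, 22, 0, 4, 15, 17, 20, 21, 12, 19, 16, 13, 8, 7, 9, 2],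
   [],
   [],
   [],
   [],
   [],
   [],
   [],
   [],
   [],
   [],
   [],
   [],
   [],
   [],
   [],
   [],
   [],
   [],
   [],
   [],
   [],
   [],
   [],
   [],
   [],
   [],
   [],
   [],
   [],
   [],
   [],
   [],
   [],
   [],
   [],
   [],
   [],
   [],
   [],
   [],
   [],
   [],
   [],
   [],
   [],
   [],
   [],
   [],
   [],
   [],
   [],
   [],
   [],
   [],
   [],
   [],
   [],
   [],
   [],
   [],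
   [],
   [],
   []]

theorem orbB_7 : orbChunkL [O0] [1] clsB repsB 256 7 certsB_7 = true := by
  decide +kernel

def certsB_8 : List (List Nat) :=
  [[10, 1, 2, 8, 6, 5, 4, 7, 9, 19, 11, 23, 15, 16, 21, 14, 18, 22, 20, 3, 13, 12, 17, 0],
   [0, 1, 4, 19, 6, 5, 11, 15, 13, 3, 10, 23, 22, 14, 18, 12, 8, 9, 16, 21, 7, 17, 20, 2],
   [],
   [],
   [11, 1, 0, 3, 10, 6, 4, 15, 8, 20, 5, 23, 18, 13, 9, 7, 14, 22, 12, 21, 16, 17, 19, 2],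
   [2, 1, 4, 18, 11, 5, 6, 20, 16, 3, 10, 23, 22, 17, 19, 7, 21, 9, 13, 8, 12, 14, 15, 0],
   [],
   [],
   [5, 1, 10, 22, 6, 4, 2, 13, 19, 8, 11, 0, 16, 15, 3, 14, 17, 9, 12, 18, 20, 7, 21, 23],
   [23, 1, 2, 22, 5, 10, 4, 15, 21, 13, 11, 0, 19, 8, 12, 17, 9, 14, 7, 18, 20, 3, 16, 6],
   [],
   [],
   [10, 1, 23, 18, 2, 11, 4, 7, 8, 21, 5, 0, 13, 12, 19, 15, 22, 9, 3, 16, 17, 20, 14, 6],
   [],
   [],
   [],
   [5, 1, 10, 20, 23, 2, 4, 8, 9, 13, 11, 0, 14, 15, 3, 16, 21, 19, 7, 18, 22, 12, 17, 6],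
   [],
   [],
   [],
   [5, 1, 2, 8, 4, 10, 6, 13, 17, 16, 11, 23, 3, 19, 22, 20, 18, 21, 14, 15, 7, 12, 9, 0],
   [],
   [],
   [],
   [6, 1, 11, 17, 23, 10, 5, 20, 7, 19, 2, 0, 13, 22, 3, 16, 21, 14, 18, 9, 12, 15, 8, 4],
   [],
   [],
   [],
   [11, 1, 23, 15, 0, 5, 10, 16, 7, 13, 6, 4, 14, 8, 22, 20, 18, 19, 9, 21, 17, 3, 12, 2],
   [0, 1, 2, 15, 4, 6, 10, 21, 3, 20, 11, 23, 17, 18, 12, 16, 19, 13, 14, 8, 7, 22, 9, 5],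
   [],
   [],
   [11, 1, 10, 8, 6, 0, 5, 7, 13, 20, 2, 23, 15, 3, 16, 18, 17, 9, 12, 21, 22, 19, 14, 4],
   [23, 1, 10, 9, 11, 0, 5, 18, 8, 22, 6, 4, 19, 16, 20, 12, 21, 15, 17, 7, 14, 13, 3, 2],
   [],
   [],
   [6, 1, 2, 3, 10, 4, 11, 20, 7, 9, 5, 0, 19, 12, 15, 16, 14, 18, 21, 13, 8, 17, 22, 23],
   [0, 1, 23, 3, 6, 4, 5, 13, 18, 17, 10, 2, 8, 15, 20, 7, 16, 19, 12, 9, 22, 21, 14, 11],
   [],
   [],
   [],
   [],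
   [],
   [],
   [],
   [23, 1, 0, 15, 11, 4, 10, 16, 17, 20, 6, 2, 14, 21, 7, 18, 13, 8, 3, 19, 22, 12, 9, 5],
   [],
   [],
   [],
   [23, 1, 6, 20, 4, 0, 11, 7, 8, 17, 10, 2, 16, 14, 22, 15, 19, 18, 9, 12, 21, 3, 13, 5],
   [],
   [],
   [11, 1, 23, 13, 2, 4, 5, 20, 22, 9, 6, 0, 17, 16, 15, 18, 3, 12, 7, 14, 19, 8, 21, 10],
   [],
   [],
   [],
   [5, 1, 10, 14, 23, 4, 6, 20, 21, 9, 11, 0, 8, 18, 15, 12, 13, 16, 22, 3, 17, 19, 7, 2],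
   [],
   [],
   [],
   [],
   [],
   [],
   [],
   [11, 1, 5, 9, 6, 10, 23, 15, 7, 13, 4, 0, 20, 14, 12, 8, 18, 17, 16, 22, 3, 19, 21, 2],
   [23, 1, 10, 21, 6, 11, 4, 17, 20, 18, 5, 0, 15, 12, 16, 13, 22, 3, 9, 19, 7, 8, 14, 2],
   [],
   [],
   [],
   [23, 1, 2, 16, 10, 6, 4, 21, 17, 22, 11, 0, 3, 18, 8, 15, 7, 9, 14, 12, 19, 20, 13, 5],
   [],
   [],
   [10, 1, 11, 17, 2, 6, 0, 9, 13, 7, 5, 23, 12, 20, 14, 21, 18, 3, 15, 8, 19, 16, 22, 4],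
   [2, 1, 5, 12, 11, 6, 4, 9, 3, 21, 10, 23, 17, 7, 13, 22, 16, 15, 14, 18, 8, 19, 20, 0],
   [],
   [],
   [],
   [],
   [],
   [],
   [11, 1, 6, 21, 0, 5, 23, 20, 16, 8, 10, 4, 12, 3, 14, 7, 9, 18, 19, 17, 15, 13, 22, 2],
   [23, 1, 6, 3, 0, 5, 2, 13, 21, 18, 10, 4, 8, 16, 7, 9, 14, 12, 22, 20, 19, 17, 15, 11],
   [],
   [],
   [6, 1, 0, 21, 4, 11, 23, 3, 17, 7, 5, 2, 16, 15, 12, 14, 22, 20, 18, 13, 9, 8, 19, 10],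
   [],
   [],
   [],
   [],
   [],
   [],
   [],
   [],
   [],
   [],
   [],
   [11, 1, 10, 22, 5, 23, 2, 13, 9, 20, 6, 4, 16, 3, 17, 21, 15, 7, 8, 14, 12, 19, 18, 0],
   [],
   [],
   [],
   [],
   [],
   [],
   [],
   [],
   [2, 1, 10, 12, 5, 23, 4, 9, 16, 7, 11, 0, 17, 19, 14, 8, 20, 22, 18, 13, 15, 21, 3, 6],
   [],
   [],
   [5, 1, 0, 19, 6, 23, 4, 17, 21, 18, 11, 2, 8, 7, 16, 15, 14, 12, 22, 20, 3, 13, 9, 10],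
   [],
   [],
   [],
   [11, 1, 10, 8, 23, 2, 0, 20, 17, 16, 5, 4, 14, 19, 7, 13, 18, 15, 3, 21, 22, 12, 9, 6],
   [],
   [],
   [],
   [],
   [],
   [],
   [],
   [5, 1, 6, 12, 23, 4, 2, 3, 9, 13, 11, 0, 7, 17, 8, 22, 21, 18, 14, 19, 16, 20, 15, 10],
   [],
   [],
   [],
   [],
   [],
   [],
   [],
   [],
   [23, 1, 10, 9, 4, 11, 2, 22, 8, 15, 5, 0, 3, 16, 19, 21, 7, 18, 13, 12, 17, 14, 20, 6],
   [],
   [],
   [2, 1, 23, 19, 11, 4, 6, 22, 20, 7, 5, 0, 15, 3, 17, 18, 16, 8, 9, 14, 13, 12, 21, 10],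
   [],
   [],
   [],
   [6, 1, 10, 22, 5, 2, 4, 16, 8, 19, 11, 0, 13, 21, 12, 9, 17, 14, 3, 20, 18, 7, 15, 23],
   [23, 1, 6, 22, 2, 11, 5, 14, 9, 20, 10, 0, 12, 3, 8, 7, 15, 21, 17, 13, 16, 19, 18, 4],
   [],
   [],
   [],
   [0, 1, 2, 15, 5, 10, 11, 12, 16, 21, 6, 4, 13, 14, 20, 19, 3, 9, 22, 8, 7, 18, 17, 23],
   [],
   [],
   [2, 1, 11, 19, 0, 4, 5, 14, 20, 15, 10, 23, 13, 3, 16, 8, 9, 12, 17, 21, 7, 18, 22, 6],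
   [23, 1, 6, 22, 2, 5, 11, 14, 17, 8, 10, 4, 12, 7, 20, 3, 19, 18, 9, 16, 13, 15, 21, 0],
   [],
   [],
   [],
   [],
   [],
   [],
   [11, 1, 5, 18, 23, 6, 10, 17, 20, 3, 4, 0, 16, 22, 14, 13, 19, 21, 7, 12, 8, 9, 15, 2],
   [],
   [],
   [],
   [],
   [],
   [],
   [],
   [4, 1, 10, 8, 6, 0, 2, 18, 13, 19, 5, 23, 12, 3, 9, 7, 14, 16, 15, 22, 21, 20, 17, 11],
   [2, 1, 10, 9, 11, 0, 6, 12, 8, 13, 5, 4, 17, 16, 15, 18, 3, 20, 19, 14, 7, 22, 21, 23],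
   [],
   [],
   [],
   [],
   [],
   [],
   [5, 1, 6, 14, 11, 0, 4, 18, 15, 19, 2, 23, 21, 16, 9, 3, 22, 7, 17, 8, 20, 12, 13, 10],
   [],
   [],
   [],
   [],
   [],
   [],
   [],
   [11, 1, 6, 18, 23, 4, 5, 19, 3, 21, 10, 2, 9, 15, 7, 20, 16, 13, 22, 8, 12, 17, 14, 0],
   [],
   [],
   [],
   [10, 1, 23, 13, 4, 0, 5, 15, 22, 18, 11, 2, 12, 16, 3, 19, 20, 8, 14, 21, 9, 17, 7, 6],
   [],
   [],
   [],
   [],
   [],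
   [],
   [],
   [],
   [],
   [],
   [],
   [2, 1, 10, 9, 5, 6, 23, 17, 7, 20, 11, 0, 12, 14, 13, 22, 16, 21, 3, 19, 18, 8, 15, 4],
   [],
   [],
   [],
   [11, 1, 2, 21, 5, 10, 4, 14, 8, 17, 6, 0, 18, 22, 3, 20, 19, 16, 12, 9, 13, 7, 15, 23],
   [23, 1, 4, 13, 10, 6, 0, 15, 21, 16, 11, 2, 12, 9, 14, 17, 3, 19, 20, 7, 18, 8, 22, 5],
   [],
   [],
   [],
   [],
   [],
   [],
   [],
   [],
   [],
   [],
   [6, 1, 11, 9, 23, 5, 2, 19, 13, 3, 10, 0, 18, 21, 20, 14, 8, 15, 7, 12, 17, 16, 22, 4],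
   [],
   [],
   [],
   [],
   [],
   [],
   [],
   [],
   [],
   [],
   [],
   [6, 1, 23, 12, 2, 11, 4, 14, 18, 17, 10, 0, 22, 8, 3, 21, 16, 7, 20, 13, 15, 19, 9, 5],
   [],
   [],
   [],
   [],
   [23, 1, 10, 17, 6, 0, 4, 15, 16, 8, 5, 2, 21, 18, 7, 14, 9, 22, 3, 13, 20, 12, 19, 11],
   [],
   [],
   [],
   [],
   [],
   [],
   [],
   [],
   [],
   [],
   [],
   [],
   [],
   [],
   [],
   [],
   [],
   [],
   [],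
   [],
   [],
   [],
   [],
   [],
   [],
   [],
   [],
   [],
   [],
   []]

theorem orbB_8 : orbChunkL [O0] [1] clsB repsB 256 8 certsB_8 = true := by
  decide +kernel

def certsB_9 : List (List Nat) :=
  [[11, 1, 2, 15, 6, 5, 4, 7, 12, 21, 10, 0, 8, 13, 19, 3, 20, 22, 18, 14, 16, 9, 17, 23],
   [0, 1, 11, 21, 4, 6, 5, 15, 22, 13, 2, 23, 17, 8, 12, 19, 16, 20, 7, 18, 14, 3, 9, 10],
   [],
   [],
   [10, 1, 0, 3, 5, 2, 6, 15, 14, 8, 11, 23, 18, 17, 7, 16, 20, 12, 21, 22, 9, 19, 13, 4],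
   [],
   [],
   [],
   [6, 1, 5, 12, 4, 11, 2, 8, 22, 15, 10, 0, 18, 14, 7, 21, 19, 3, 20, 9, 17, 16, 13, 23],
   [],
   [],
   [],
   [11, 1, 23, 12, 10, 5, 2, 13, 16, 8, 4, 0, 15, 19, 3, 22, 9, 7, 14, 20, 21, 17, 18, 6],
   [],
   [],
   [],
   [10, 1, 2, 3, 23, 5, 4, 21, 17, 7, 11, 0, 16, 14, 19, 15, 22, 20, 18, 13, 8, 9, 12, 6],
   [23, 1, 10, 13, 0, 11, 5, 3, 19, 7, 6, 2, 8, 14, 12, 20, 21, 15, 17, 22, 16, 9, 18, 4],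
   [],
   [],
   [10, 1, 4, 20, 0, 11, 6, 13, 19, 16, 5, 23, 17, 3, 22, 14, 12, 18, 8, 9, 15, 21, 7, 2],
   [],
   [],
   [],
   [10, 1, 11, 14, 23, 6, 2, 20, 16, 19, 5, 0, 8, 15, 3, 7, 12, 17, 9, 18, 21, 22, 13, 4],
   [],
   [],
   [],
   [],
   [],
   [],
   [],
   [11, 1, 4, 21, 10, 23, 2, 19, 18, 15, 5, 0, 7, 14, 22, 9, 3, 8, 13, 12, 20, 16, 17, 6],
   [],
   [],
   [],
   [],
   [],
   [],
   [],
   [2, 1, 6, 17, 4, 0, 11, 7, 12, 20, 5, 23, 22, 9, 16, 3, 21, 18, 14, 8, 19, 15, 13, 10],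
   [2, 1, 5, 14, 6, 23, 10, 21, 19, 16, 11, 4, 18, 13, 3, 7, 12, 17, 9, 8, 20, 22, 15, 0],
   [],
   [],
   [],
   [],
   [],
   [],
   [],
   [0, 1, 10, 8, 2, 23, 11, 21, 19, 9, 5, 4, 22, 17, 13, 7, 18, 3, 15, 20, 14, 12, 16, 6],
   [],
   [],
   [],
   [],
   [],
   [],
   [],
   [],
   [],
   [],
   [],
   [],
   [],
   [],
   [4, 1, 5, 7, 11, 6, 0, 19, 12, 15, 10, 23, 21, 3, 22, 16, 13, 17, 20, 9, 14, 18, 8, 2],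
   [],
   [],
   [],
   [],
   [23, 1, 0, 22, 6, 10, 2, 18, 19, 13, 5, 4, 20, 15, 7, 9, 14, 17, 3, 8, 21, 12, 16, 11],
   [],
   [],
   [],
   [],
   [],
   [],
   [11, 1, 4, 15, 5, 10, 0, 20, 14, 21, 6, 2, 9, 16, 12, 8, 18, 13, 7, 19, 22, 3, 17, 23],
   [],
   [],
   [],
   [],
   [],
   [],
   [],
   [],
   [],
   [],
   [],
   [],
   [2, 1, 11, 15, 23, 10, 0, 22, 12, 21, 5, 4, 19, 13, 8, 14, 20, 7, 16, 3, 18, 9, 17, 6],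
   [],
   [],
   [],
   [],
   [],
   [],
   [5, 1, 10, 22, 6, 4, 2, 13, 19, 8, 11, 0, 16, 15, 3, 14, 17, 9, 12, 18, 20, 7, 21, 23],
   [],
   [],
   [],
   [11, 1, 23, 18, 6, 4, 0, 9, 15, 8, 10, 2, 19, 3, 16, 20, 7, 17, 22, 21, 14, 13, 12, 5],
   [],
   [],
   [],
   [],
   [],
   [],
   [],
   [],
   [],
   [],
   [],
   [],
   [],
   [],
   [],
   [],
   [],
   [],
   [],
   [],
   [],
   [],
   [],
   [],
   [],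
   [],
   [],
   [11, 1, 2, 9, 5, 4, 6, 17, 18, 3, 10, 0, 12, 19, 14, 16, 15, 7, 8, 13, 21, 20, 22, 23],
   [0, 1, 10, 8, 5, 11, 6, 22, 14, 3, 2, 23, 21, 20, 9, 12, 17, 16, 18, 15, 7, 19, 13, 4],
   [],
   [],
   [2, 1, 23, 15, 6, 11, 10, 18, 14, 20, 4, 0, 3, 16, 22, 21, 8, 19, 17, 13, 12, 7, 9, 5],
   [],
   [],
   [],
   [],
   [],
   [],
   [],
   [],
   [],
   [],
   [],
   [],
   [],
   [],
   [],
   [],
   [23, 1, 4, 3, 0, 10, 6, 19, 12, 18, 11, 2, 20, 7, 9, 16, 8, 22, 21, 14, 17, 13, 15, 5],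
   [],
   [],
   [],
   [],
   [],
   [],
   [],
   [],
   [],
   [],
   [],
   [],
   [],
   [],
   [11, 1, 23, 18, 10, 0, 5, 19, 14, 17, 6, 4, 9, 21, 8, 13, 3, 12, 7, 22, 20, 15, 16, 2],
   [],
   [],
   [],
   [6, 1, 4, 18, 10, 23, 11, 12, 14, 7, 5, 0, 8, 21, 3, 22, 9, 15, 20, 16, 17, 19, 13, 2],
   [],
   [],
   [],
   [],
   [],
   [],
   [],
   [],
   [],
   [],
   [],
   [],
   [],
   [],
   [],
   [],
   [],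
   [],
   [],
   [],
   [],
   [],
   [],
   [10, 1, 2, 15, 4, 11, 23, 14, 17, 20, 5, 0, 16, 21, 8, 3, 13, 7, 18, 22, 19, 12, 9, 6],
   [],
   [],
   [],
   [],
   [],
   [],
   [],
   [5, 1, 2, 14, 6, 10, 0, 18, 12, 3, 11, 23, 21, 22, 15, 8, 7, 16, 20, 19, 13, 9, 17, 4],
   [],
   [],
   [],
   [],
   [],
   [],
   [],
   [],
   [],
   [],
   [],
   [],
   [],
   [],
   [],
   [],
   [],
   [],
   [],
   [],
   [],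
   [],
   [],
   [],
   [],
   [],
   [],
   [],
   [],
   [],
   [],
   [],
   [],
   [],
   [],
   [],
   [],
   [],
   [],
   [5, 1, 10, 9, 2, 0, 4, 12, 15, 22, 11, 23, 17, 20, 14, 13, 19, 7, 21, 8, 16, 18, 3, 6],
   [],
   [],
   [],
   [],
   [],
   [],
   [],
   [],
   [],
   [],
   [],
   [],
   [],
   [],
   []]

theorem orbB_9 : orbChunkL [O0] [1] clsB repsB 256 9 certsB_9 = true := by
  decide +kernel

def certsB_10 : List (List Nat) :=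
  [[2, 1, 6, 8, 11, 5, 4, 15, 19, 14, 10, 0, 7, 17, 16, 22, 13, 9, 21, 18, 12, 3, 20, 23],
   [],
   [],
   [],
   [2, 1, 23, 3, 6, 10, 5, 15, 8, 14, 4, 0, 18, 13, 16, 7, 20, 21, 12, 22, 9, 19, 17, 11],
   [0, 1, 4, 3, 5, 11, 10, 21, 13, 12, 6, 2, 16, 8, 20, 9, 15, 19, 22, 14, 17, 18, 7, 23],
   [],
   [],
   [],
   [0, 1, 11, 16, 2, 10, 6, 7, 3, 14, 5, 23, 20, 21, 9, 12, 17, 8, 19, 13, 22, 18, 15, 4],
   [],
   [],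
   [6, 1, 0, 18, 11, 2, 5, 7, 8, 22, 4, 23, 13, 12, 17, 15, 21, 16, 3, 9, 19, 14, 20, 10],
   [],
   [],
   [],
   [10, 1, 5, 8, 23, 4, 2, 20, 7, 22, 11, 0, 14, 15, 18, 16, 17, 12, 9, 3, 13, 19, 21, 6],
   [23, 1, 6, 16, 4, 5, 11, 20, 21, 14, 10, 0, 7, 3, 8, 12, 18, 9, 19, 13, 22, 17, 15, 2],
   [],
   [],
   [],
   [4, 1, 0, 9, 2, 10, 6, 18, 20, 12, 5, 23, 19, 15, 8, 22, 21, 16, 3, 7, 14, 13, 17, 11],
   [],
   [],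
   [],
   [],
   [],
   [],
   [],
   [],
   [],
   [],
   [10, 1, 2, 19, 6, 0, 4, 20, 21, 17, 5, 23, 3, 7, 13, 12, 15, 14, 16, 18, 9, 22, 8, 11],
   [],
   [],
   [],
   [],
   [],
   [],
   [],
   [4, 1, 5, 12, 10, 23, 11, 8, 19, 22, 6, 0, 18, 16, 21, 17, 15, 20, 9, 3, 7, 13, 14, 2],
   [],
   [],
   [],
   [10, 1, 23, 14, 5, 0, 6, 20, 17, 12, 11, 2, 8, 3, 21, 13, 9, 18, 19, 16, 15, 7, 22, 4],
   [],
   [],
   [],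
   [],
   [],
   [],
   [],
   [10, 1, 0, 16, 4, 2, 5, 9, 13, 12, 11, 23, 8, 22, 17, 21, 15, 18, 3, 7, 20, 14, 19, 6],
   [],
   [],
   [],
   [],
   [],
   [],
   [],
   [],
   [],
   [],
   [],
   [6, 1, 4, 9, 11, 10, 23, 15, 8, 17, 5, 0, 20, 16, 21, 7, 19, 13, 14, 3, 22, 18, 12, 2],
   [],
   [],
   [],
   [11, 1, 0, 20, 6, 5, 4, 21, 18, 19, 10, 23, 12, 22, 7, 14, 9, 16, 8, 17, 13, 15, 3, 2],
   [],
   [],
   [],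
   [11, 1, 2, 18, 4, 6, 0, 20, 15, 12, 10, 23, 22, 3, 21, 9, 13, 14, 19, 16, 17, 7, 8, 5],
   [],
   [],
   [],
   [],
   [],
   [],
   [],
   [],
   [23, 1, 10, 9, 4, 11, 2, 22, 8, 15, 5, 0, 3, 16, 19, 21, 7, 18, 13, 12, 17, 14, 20, 6],
   [],
   [],
   [],
   [],
   [],
   [],
   [10, 1, 11, 19, 4, 6, 0, 7, 16, 14, 5, 2, 21, 12, 9, 20, 15, 18, 3, 17, 8, 22, 13, 23],
   [],
   [],
   [],
   [],
   [],
   [],
   [],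
   [5, 1, 6, 13, 10, 0, 4, 22, 8, 14, 11, 23, 16, 3, 12, 21, 20, 15, 9, 7, 18, 17, 19, 2],
   [23, 1, 10, 21, 6, 2, 0, 17, 13, 14, 5, 4, 15, 9, 3, 20, 19, 16, 12, 22, 8, 7, 18, 11],
   [],
   [],
   [],
   [],
   [],
   [],
   [],
   [],
   [],
   [],
   [],
   [],
   [],
   [],
   [],
   [],
   [],
   [],
   [],
   [],
   [],
   [],
   [],
   [],
   [],
   [],
   [],
   [],
   [],
   [],
   [10, 1, 4, 15, 2, 11, 6, 16, 21, 22, 5, 0, 14, 17, 13, 3, 8, 12, 18, 20, 9, 7, 19, 23],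
   [23, 1, 2, 3, 10, 4, 5, 16, 7, 17, 11, 0, 21, 12, 18, 20, 22, 15, 19, 8, 13, 9, 14, 6],
   [],
   [],
   [4, 1, 0, 9, 2, 10, 6, 18, 20, 12, 5, 23, 19, 15, 8, 22, 21, 16, 3, 7, 14, 13, 17, 11],
   [],
   [],
   [],
   [2, 1, 10, 22, 4, 5, 6, 18, 9, 14, 11, 23, 20, 3, 21, 19, 7, 8, 15, 16, 13, 17, 12, 0],
   [],
   [],
   [],
   [],
   [],
   [],
   [],
   [6, 1, 2, 20, 0, 10, 11, 14, 9, 17, 4, 23, 8, 15, 3, 7, 12, 19, 16, 18, 22, 21, 13, 5],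
   [],
   [],
   [],
   [],
   [],
   [],
   [],
   [],
   [],
   [],
   [],
   [],
   [],
   [],
   [],
   [11, 1, 10, 3, 6, 23, 5, 17, 13, 18, 4, 0, 14, 8, 16, 20, 7, 21, 19, 9, 22, 12, 15, 2],
   [],
   [],
   [],
   [],
   [],
   [],
   [],
   [],
   [],
   [],
   [],
   [],
   [],
   [],
   [],
   [],
   [],
   [],
   [],
   [],
   [],
   [],
   [],
   [],
   [23, 1, 10, 12, 2, 4, 5, 14, 7, 19, 6, 0, 22, 3, 13, 9, 21, 15, 17, 8, 18, 20, 16, 11],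
   [],
   [],
   [],
   [],
   [],
   [],
   [],
   [],
   [],
   [],
   [],
   [],
   [],
   [],
   [5, 1, 6, 18, 10, 11, 0, 12, 9, 22, 4, 23, 8, 19, 14, 17, 3, 21, 16, 13, 7, 15, 20, 2],
   [],
   [],
   [],
   [],
   [],
   [],
   [],
   [],
   [],
   [],
   [],
   [],
   [],
   [],
   [],
   [],
   [],
   [],
   [],
   [],
   [],
   [],
   [],
   [],
   [],
   [],
   [],
   [5, 1, 4, 7, 10, 2, 23, 19, 3, 15, 11, 0, 21, 12, 22, 20, 18, 17, 16, 14, 9, 13, 8, 6],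
   [],
   [],
   [],
   [],
   [],
   [],
   [],
   [],
   [],
   [],
   [],
   [],
   [],
   [],
   [],
   [],
   [],
   [],
   [],
   [],
   [],
   [],
   [],
   [],
   [],
   [],
   []]

theorem orbB_10 : orbChunkL [O0] [1] clsB repsB 256 10 certsB_10 = true := by
  decide +kernel

def certsB_11 : List (List Nat) :=
  [[2, 1, 11, 15, 10, 4, 5, 7, 12, 22, 6, 23, 8, 13, 17, 3, 14, 21, 18, 20, 9, 16, 19, 0],
   [23, 1, 10, 7, 4, 2, 11, 20, 12, 17, 6, 0, 16, 3, 13, 21, 9, 18, 19, 8, 15, 14, 22, 5],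
   [],
   [],
   [],
   [],
   [],
   [],
   [],
   [23, 1, 4, 12, 11, 5, 6, 15, 22, 17, 10, 0, 13, 14, 21, 19, 7, 20, 16, 18, 8, 3, 9, 2],
   [],
   [],
   [],
   [],
   [],
   [],
   [],
   [],
   [],
   [],
   [],
   [],
   [],
   [],
   [10, 1, 2, 17, 23, 5, 6, 8, 14, 18, 4, 0, 19, 3, 12, 20, 21, 9, 13, 7, 22, 15, 16, 11],
   [],
   [],
   [],
   [],
   [],
   [],
   [],
   [11, 1, 2, 3, 5, 23, 6, 8, 14, 22, 4, 0, 13, 17, 21, 20, 12, 16, 19, 15, 18, 7, 9, 10],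
   [],
   [],
   [],
   [],
   [23, 1, 4, 17, 11, 0, 10, 16, 15, 19, 5, 2, 18, 21, 12, 14, 22, 9, 3, 20, 13, 7, 8, 6],
   [],
   [],
   [],
   [],
   [],
   [],
   [],
   [],
   [],
   [],
   [6, 1, 5, 17, 0, 2, 10, 8, 14, 15, 11, 23, 19, 3, 7, 20, 16, 22, 13, 12, 9, 18, 21, 4],
   [],
   [],
   [],
   [],
   [],
   [],
   [],
   [],
   [],
   [],
   [],
   [],
   [],
   [],
   [],
   [10, 1, 11, 7, 2, 4, 0, 15, 14, 22, 6, 23, 8, 9, 19, 16, 12, 21, 20, 18, 13, 3, 17, 5],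
   [],
   [],
   [],
   [],
   [],
   [],
   [],
   [],
   [],
   [],
   [],
   [],
   [],
   [],
   [],
   [],
   [],
   [],
   [],
   [10, 1, 4, 18, 2, 5, 23, 20, 19, 14, 11, 0, 22, 9, 8, 3, 13, 12, 15, 16, 17, 7, 21, 6],
   [],
   [],
   [],
   [],
   [],
   [],
   [],
   [],
   [],
   [],
   [],
   [],
   [],
   [],
   [],
   [],
   [],
   [],
   [],
   [],
   [],
   [],
   [],
   [],
   [],
   [],
   [],
   [],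
   [],
   [],
   [],
   [],
   [],
   [],
   [],
   [],
   [],
   [],
   [],
   [],
   [],
   [],
   [],
   [],
   [],
   [],
   [],
   [],
   [],
   [],
   [],
   [],
   [],
   [],
   [],
   [5, 1, 0, 14, 11, 6, 2, 22, 16, 17, 4, 23, 12, 15, 7, 13, 18, 9, 19, 8, 20, 21, 3, 10],
   [],
   [],
   [],
   [5, 1, 10, 21, 23, 4, 2, 17, 18, 22, 6, 0, 15, 14, 7, 16, 20, 19, 3, 9, 13, 12, 8, 11],
   [],
   [],
   [],
   [],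
   [],
   [],
   [],
   [],
   [],
   [],
   [],
   [],
   [],
   [],
   [],
   [],
   [],
   [],
   [],
   [],
   [],
   [],
   [],
   [],
   [],
   [],
   [],
   [],
   [],
   [],
   [],
   [],
   [],
   [],
   [],
   [],
   [],
   [],
   [],
   [],
   [],
   [],
   [],
   [],
   [],
   [],
   [],
   [],
   [2, 1, 10, 20, 6, 11, 23, 19, 12, 15, 5, 0, 3, 21, 22, 16, 13, 18, 7, 8, 14, 17, 9, 4],
   [],
   [],
   [],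
   [],
   [],
   [],
   [],
   [],
   [],
   [],
   [],
   [],
   [],
   [],
   [],
   [],
   [],
   [],
   [],
   [],
   [],
   [],
   [],
   [],
   [],
   [],
   [],
   [],
   [],
   [],
   [],
   [],
   [],
   [],
   [],
   [],
   [],
   [],
   [],
   [],
   [],
   [],
   [],
   [],
   [],
   [],
   [],
   [],
   [],
   [],
   [],
   [],
   [],
   [],
   [],
   [],
   [],
   [],
   [],
   [],
   [],
   []]

theorem orbB_11 : orbChunkL [O0] [1] clsB repsB 256 11 certsB_11 = true := by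
  decide +kernel

def certsB_12 : List (List Nat) :=
  [[6, 1, 5, 8, 2, 10, 11, 9, 21, 19, 23, 0, 16, 22, 18, 13, 7, 12, 3, 20, 14, 15, 17, 4],
   [4, 1, 5, 17, 11, 10, 6, 16, 9, 7, 23, 2, 18, 12, 20, 8, 14, 13, 19, 21, 15, 3, 22, 0],
   [],
   [],
   [6, 1, 0, 16, 5, 11, 10, 3, 7, 17, 4, 2, 21, 20, 14, 12, 22, 15, 19, 8, 9, 13, 18, 23],
   [23, 1, 0, 7, 5, 11, 6, 8, 20, 21, 4, 2, 15, 16, 22, 14, 12, 17, 9, 13, 18, 3, 19, 10],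
   [],
   [],
   [2, 1, 4, 12, 10, 11, 5, 7, 15, 20, 0, 23, 3, 13, 16, 8, 9, 19, 18, 22, 14, 17, 21, 6],
   [],
   [],
   [],
   [],
   [],
   [],
   [],
   [11, 1, 5, 18, 23, 6, 10, 17, 20, 3, 4, 0, 16, 22, 14, 13, 19, 21, 7, 12, 8, 9, 15, 2],
   [23, 1, 5, 17, 0, 10, 11, 3, 13, 16, 2, 4, 14, 20, 21, 8, 22, 15, 19, 12, 9, 7, 18, 6],
   [],
   [],
   [],
   [],
   [],
   [],
   [],
   [0, 1, 5, 15, 23, 11, 6, 7, 22, 13, 4, 2, 8, 19, 18, 17, 16, 3, 21, 9, 20, 14, 12, 10],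
   [],
   [],
   [],
   [],
   [],
   [],
   [10, 1, 11, 17, 6, 23, 5, 3, 13, 9, 4, 2, 14, 20, 22, 8, 21, 7, 19, 18, 16, 15, 12, 0],
   [0, 1, 6, 22, 11, 4, 5, 9, 8, 18, 2, 23, 3, 21, 19, 16, 12, 15, 13, 7, 17, 14, 20, 10],
   [],
   [],
   [10, 1, 0, 17, 11, 4, 6, 7, 21, 16, 23, 2, 22, 15, 20, 19, 3, 13, 8, 9, 12, 14, 18, 5],
   [],
   [],
   [],
   [11, 1, 10, 15, 6, 4, 5, 8, 22, 3, 2, 0, 7, 19, 13, 21, 9, 12, 17, 14, 16, 20, 18, 23],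
   [],
   [],
   [],
   [],
   [],
   [],
   [],
   [],
   [],
   [],
   [],
   [],
   [],
   [],
   [],
   [6, 1, 5, 15, 0, 23, 11, 13, 8, 20, 2, 4, 12, 7, 17, 3, 14, 21, 18, 22, 19, 16, 9, 10],
   [],
   [],
   [],
   [],
   [],
   [],
   [],
   [],
   [],
   [],
   [],
   [5, 1, 23, 20, 6, 10, 2, 22, 16, 21, 0, 4, 18, 7, 8, 13, 3, 14, 17, 15, 9, 19, 12, 11],
   [],
   [],
   [],
   [11, 1, 6, 12, 5, 10, 2, 3, 18, 16, 23, 4, 7, 8, 21, 15, 17, 20, 13, 22, 14, 9, 19, 0],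
   [],
   [],
   [],
   [5, 1, 0, 14, 11, 6, 2, 22, 16, 17, 4, 23, 12, 15, 7, 13, 18, 9, 19, 8, 20, 21, 3, 10],
   [],
   [],
   [],
   [5, 1, 10, 22, 4, 11, 0, 9, 20, 21, 23, 2, 3, 18, 13, 15, 12, 16, 19, 7, 17, 14, 8, 6],
   [],
   [],
   [],
   [],
   [],
   [],
   [],
   [],
   [],
   [],
   [],
   [],
   [],
   [],
   [],
   [5, 1, 10, 7, 6, 4, 2, 9, 20, 18, 0, 23, 14, 16, 19, 15, 22, 21, 8, 12, 3, 17, 13, 11],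
   [],
   [],
   [],
   [],
   [],
   [],
   [],
   [],
   [],
   [],
   [],
   [],
   [],
   [],
   [],
   [],
   [],
   [],
   [],
   [],
   [0, 1, 2, 3, 4, 5, 6, 7, 8, 9, 10, 11, 12, 13, 14, 15, 16, 17, 18, 19, 20, 21, 22, 23],
   [],
   [],
   [],
   [],
   [],
   [],
   [],
   [],
   [],
   [],
   [6, 1, 11, 9, 10, 4, 2, 18, 8, 3, 23, 0, 19, 16, 15, 12, 13, 20, 17, 14, 7, 21, 22, 5],
   [],
   [],
   [],
   [11, 1, 2, 13, 10, 5, 6, 19, 7, 17, 0, 23, 14, 18, 8, 21, 22, 3, 9, 12, 15, 16, 20, 4],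
   [],
   [],
   [],
   [6, 1, 2, 16, 10, 11, 5, 17, 3, 8, 0, 23, 18, 21, 19, 14, 13, 12, 15, 7, 20, 22, 9, 4],
   [],
   [],
   [],
   [],
   [],
   [],
   [],
   [],
   [0, 1, 6, 9, 23, 5, 11, 12, 16, 22, 4, 2, 17, 8, 14, 19, 13, 7, 18, 20, 15, 21, 3, 10],
   [],
   [],
   [10, 1, 23, 21, 0, 6, 11, 14, 7, 3, 4, 2, 18, 19, 17, 9, 12, 15, 13, 8, 22, 20, 16, 5],
   [],
   [],
   [],
   [],
   [],
   [],
   [],
   [],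
   [],
   [],
   [],
   [],
   [],
   [],
   [],
   [],
   [],
   [],
   [],
   [],
   [],
   [],
   [],
   [6, 1, 23, 14, 10, 0, 5, 12, 21, 13, 2, 4, 22, 18, 15, 20, 9, 16, 8, 3, 17, 7, 19, 11],
   [],
   [],
   [],
   [],
   [],
   [],
   [],
   [],
   [],
   [],
   [],
   [],
   [],
   [],
   [],
   [],
   [],
   [],
   [],
   [11, 1, 6, 20, 5, 10, 23, 15, 3, 13, 4, 2, 9, 19, 12, 18, 8, 21, 22, 16, 7, 14, 17, 0],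
   [],
   [],
   [],
   [],
   [],
   [],
   [],
   [],
   [23, 1, 10, 19, 5, 6, 4, 12, 3, 17, 0, 2, 16, 20, 9, 7, 14, 18, 21, 15, 22, 13, 8, 11],
   [],
   [],
   [],
   [],
   [],
   [],
   [],
   [],
   [],
   [],
   [],
   [],
   [],
   [],
   [],
   [],
   [],
   [],
   [],
   [],
   [],
   [],
   [5, 1, 11, 21, 10, 2, 0, 19, 3, 9, 4, 23, 7, 16, 18, 20, 22, 14, 12, 17, 15, 8, 13, 6],
   [],
   [],
   [],
   [],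
   [],
   [],
   [],
   [],
   [],
   [],
   [],
   [],
   [],
   [],
   [],
   [],
   [],
   [],
   [],
   [],
   [],
   [],
   [],
   [],
   [],
   [],
   [],
   [],
   [],
   [],
   []]

theorem orbB_12 : orbChunkL [O0] [1] clsB repsB 256 12 certsB_12 = true := by
  decide +kernel

def certsB_13 : List (List Nat) :=
  [[],
   [4, 1, 10, 9, 6, 5, 11, 13, 14, 8, 2, 0, 21, 7, 3, 19, 20, 22, 18, 12, 17, 15, 16, 23],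
   [],
   [],
   [],
   [],
   [],
   [],
   [11, 1, 10, 16, 2, 6, 4, 21, 18, 8, 23, 0, 3, 17, 22, 14, 12, 13, 15, 7, 20, 19, 9, 5],
   [],
   [],
   [],
   [],
   [0, 1, 23, 14, 10, 6, 5, 21, 12, 3, 4, 2, 18, 22, 16, 20, 7, 15, 8, 13, 19, 9, 17, 11],
   [],
   [],
   [],
   [],
   [],
   [],
   [11, 1, 0, 21, 4, 10, 5, 17, 14, 9, 2, 23, 15, 18, 12, 3, 7, 20, 16, 8, 22, 19, 13, 6],
   [],
   [],
   [],
   [],
   [],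
   [],
   [],
   [],
   [],
   [],
   [],
   [],
   [],
   [],
   [],
   [11, 1, 4, 18, 5, 0, 10, 17, 19, 22, 23, 2, 16, 9, 7, 8, 15, 13, 12, 14, 21, 3, 20, 6],
   [],
   [],
   [],
   [],
   [],
   [],
   [],
   [],
   [],
   [],
   [],
   [5, 1, 11, 9, 23, 4, 10, 13, 14, 17, 0, 2, 21, 7, 20, 19, 3, 15, 18, 16, 8, 22, 12, 6],
   [],
   [],
   [],
   [],
   [],
   [],
   [],
   [],
   [],
   [],
   [],
   [],
   [],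
   [],
   [],
   [5, 1, 10, 3, 11, 6, 23, 18, 14, 22, 0, 4, 15, 17, 20, 21, 12, 19, 16, 13, 8, 7, 9, 2],
   [0, 1, 11, 3, 6, 10, 23, 9, 14, 20, 2, 4, 22, 17, 15, 7, 8, 18, 12, 21, 16, 13, 19, 5],
   [],
   [],
   [],
   [],
   [],
   [],
   [],
   [],
   [],
   [],
   [],
   [],
   [],
   [],
   [11, 1, 10, 16, 2, 5, 0, 21, 14, 9, 23, 4, 3, 15, 13, 18, 7, 22, 17, 12, 19, 20, 8, 6],
   [],
   [],
   [],
   [],
   [],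
   [],
   [],
   [],
   [],
   [],
   [],
   [],
   [],
   [],
   [],
   [],
   [],
   [],
   [],
   [],
   [],
   [],
   [],
   [],
   [],
   [],
   [],
   [],
   [],
   [],
   [],
   [],
   [],
   [],
   [],
   [],
   [],
   [],
   [],
   [],
   [],
   [],
   [],
   [],
   [],
   [],
   [],
   [4, 1, 11, 8, 10, 5, 6, 16, 14, 21, 0, 23, 9, 20, 3, 15, 18, 13, 7, 19, 17, 12, 22, 2],
   [],
   [],
   [],
   [],
   [],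
   [],
   [],
   [],
   [],
   [],
   [],
   [],
   [],
   [],
   [],
   [],
   [],
   [],
   [],
   [],
   [],
   [],
   [],
   [6, 1, 5, 19, 23, 10, 11, 14, 12, 17, 4, 0, 13, 16, 3, 22, 9, 20, 15, 21, 7, 18, 8, 2],
   [],
   [],
   [],
   [],
   [],
   [],
   [],
   [],
   [4, 1, 5, 16, 10, 23, 6, 15, 12, 3, 2, 0, 14, 19, 18, 13, 7, 17, 22, 9, 8, 20, 21, 11],
   [],
   [],
   [],
   [],
   [],
   [],
   [],
   [],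
   [],
   [],
   [],
   [],
   [],
   [],
   [],
   [],
   [],
   [],
   [],
   [],
   [],
   [],
   [],
   [],
   [],
   [],
   [],
   [],
   [],
   [],
   [],
   [],
   [],
   [],
   [],
   [],
   [],
   [],
   [],
   [],
   [],
   [],
   [],
   [],
   [],
   [],
   [],
   [],
   [],
   [],
   [],
   [],
   [],
   [],
   [],
   [],
   [],
   [],
   [],
   [],
   [],
   [],
   [],
   [],
   [],
   [],
   [],
   [],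
   [],
   [],
   [],
   [],
   [],
   [],
   [],
   [],
   [],
   [],
   [],
   [],
   [],
   [],
   [],
   [],
   [],
   [],
   [],
   [],
   [],
   [],
   [],
   [],
   [],
   []]

theorem orbB_13 : orbChunkL [O0] [1] clsB repsB 256 13 certsB_13 = true := by
  decide +kernel

def certsB_14 : List (List Nat) :=
  [[4, 1, 10, 7, 6, 5, 2, 20, 9, 12, 23, 0, 16, 14, 21, 15, 17, 19, 8, 18, 13, 22, 3, 11],
   [],
   [],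
   [],
   [],
   [],
   [],
   [],
   [5, 1, 4, 12, 2, 10, 11, 20, 3, 14, 23, 0, 21, 7, 8, 19, 17, 18, 16, 15, 13, 9, 22, 6],
   [23, 1, 11, 15, 10, 6, 5, 13, 8, 19, 4, 2, 12, 7, 14, 3, 17, 16, 18, 9, 20, 21, 22, 0],
   [],
   [],
   [],
   [],
   [],
   [],
   [6, 1, 5, 9, 23, 10, 11, 8, 3, 15, 2, 4, 16, 22, 7, 13, 18, 14, 21, 17, 12, 19, 20, 0],
   [],
   [],
   [],
   [],
   [],
   [],
   [],
   [],
   [],
   [],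
   [],
   [11, 1, 2, 15, 4, 6, 5, 17, 3, 19, 0, 23, 21, 18, 8, 14, 20, 7, 16, 12, 13, 9, 22, 10],
   [],
   [],
   [],
   [],
   [2, 1, 11, 16, 5, 23, 6, 7, 18, 19, 0, 4, 20, 17, 21, 13, 9, 3, 22, 15, 14, 8, 12, 10],
   [],
   [],
   [],
   [],
   [],
   [],
   [],
   [],
   [],
   [],
   [],
   [],
   [],
   [],
   [5, 1, 10, 3, 4, 2, 11, 22, 7, 15, 23, 0, 9, 12, 19, 17, 8, 20, 14, 16, 21, 13, 18, 6],
   [],
   [],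
   [],
   [],
   [],
   [],
   [],
   [],
   [],
   [],
   [],
   [],
   [],
   [],
   [],
   [],
   [2, 1, 11, 18, 10, 5, 23, 20, 3, 12, 4, 0, 22, 15, 21, 19, 7, 14, 9, 17, 16, 13, 8, 6],
   [],
   [],
   [5, 1, 23, 7, 10, 6, 0, 13, 16, 15, 2, 4, 18, 20, 12, 22, 14, 3, 17, 21, 19, 9, 8, 11],
   [],
   [],
   [],
   [],
   [],
   [],
   [],
   [],
   [],
   [],
   [],
   [],
   [],
   [],
   [],
   [],
   [],
   [],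
   [],
   [],
   [],
   [],
   [],
   [],
   [],
   [],
   [],
   [],
   [],
   [],
   [],
   [],
   [],
   [],
   [],
   [],
   [],
   [],
   [],
   [],
   [],
   [],
   [],
   [],
   [],
   [],
   [],
   [],
   [],
   [],
   [],
   [],
   [],
   [],
   [],
   [],
   [],
   [],
   [],
   [],
   [],
   [],
   [],
   [],
   [0, 1, 23, 3, 5, 10, 11, 14, 9, 19, 2, 4, 17, 22, 13, 7, 18, 8, 12, 16, 21, 15, 20, 6],
   [],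
   [],
   [],
   [],
   [],
   [],
   [],
   [],
   [],
   [],
   [],
   [],
   [],
   [],
   [],
   [],
   [],
   [],
   [],
   [],
   [],
   [],
   [],
   [],
   [],
   [],
   [10, 1, 5, 3, 11, 4, 6, 15, 13, 19, 0, 2, 18, 8, 22, 12, 14, 9, 7, 21, 16, 17, 20, 23],
   [],
   [],
   [],
   [],
   [],
   [],
   [],
   [],
   [],
   [],
   [],
   [],
   [],
   [],
   [],
   [],
   [],
   [],
   [],
   [],
   [],
   [],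
   [],
   [],
   [],
   [],
   [],
   [],
   [],
   [],
   [],
   [],
   [],
   [],
   [],
   [],
   [],
   [],
   [],
   [],
   [],
   [],
   [],
   [],
   [],
   [],
   [],
   [11, 1, 6, 16, 23, 10, 2, 14, 20, 19, 0, 4, 15, 7, 13, 8, 3, 22, 9, 18, 17, 21, 12, 5],
   [],
   [],
   [],
   [],
   [],
   [],
   [],
   [],
   [],
   [],
   [],
   [],
   [],
   [],
   [],
   [],
   [],
   [],
   [],
   [],
   [],
   [],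
   [],
   [],
   [],
   [],
   [],
   [],
   [],
   [],
   [],
   [],
   [],
   [],
   [],
   [],
   [],
   [],
   [],
   [],
   [],
   [],
   [],
   [],
   [],
   [],
   []]

theorem orbB_14 : orbChunkL [O0] [1] clsB repsB 256 14 certsB_14 = true := by
  decide +kernel

def certsB_15 : List (List Nat) :=
  [[10, 1, 6, 19, 4, 5, 11, 15, 14, 18, 0, 23, 22, 13, 3, 16, 21, 20, 12, 8, 17, 7, 9, 2],
   [],
   [],
   [],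
   [11, 1, 0, 22, 10, 6, 5, 7, 15, 12, 23, 4, 17, 19, 3, 8, 13, 9, 21, 20, 18, 16, 14, 2],
   [],
   [],
   [],
   [],
   [],
   [],
   [],
   [],
   [],
   [],
   [],
   [],
   [],
   [],
   [],
   [],
   [],
   [],
   [],
   [],
   [],
   [],
   [],
   [],
   [],
   [],
   [],
   [],
   [],
   [],
   [],
   [],
   [],
   [],
   [],
   [],
   [],
   [],
   [],
   [],
   [],
   [],
   [],
   [],
   [],
   [],
   [],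
   [],
   [],
   [],
   [],
   [],
   [],
   [],
   [],
   [],
   [],
   [],
   [],
   [],
   [],
   [],
   [],
   [],
   [],
   [],
   [],
   [],
   [],
   [],
   [],
   [],
   [],
   [],
   [],
   [],
   [],
   [],
   [],
   [],
   [],
   [],
   [],
   [],
   [],
   [],
   [],
   [],
   [],
   [],
   [],
   [],
   [],
   [],
   [],
   [],
   [],
   [],
   [],
   [6, 1, 11, 14, 5, 4, 23, 18, 12, 15, 2, 0, 21, 22, 3, 8, 13, 17, 20, 9, 7, 19, 16, 10],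
   [],
   [],
   [],
   [],
   [],
   [],
   [],
   [],
   [],
   [],
   [],
   [],
   [],
   [],
   [],
   [],
   [],
   [],
   [],
   [],
   [],
   [],
   [],
   [2, 1, 11, 21, 4, 6, 10, 17, 22, 16, 0, 23, 15, 8, 18, 7, 13, 14, 19, 12, 20, 9, 3, 5],
   [],
   [],
   [],
   [],
   [],
   [],
   [],
   [],
   [],
   [],
   [],
   [],
   [],
   [],
   [],
   [],
   [],
   [],
   [],
   [],
   [],
   [],
   [],
   [],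
   [],
   [],
   [],
   [],
   [],
   [],
   [],
   [],
   [],
   [],
   [],
   [],
   [],
   [],
   [],
   [],
   [],
   [],
   [],
   [],
   [],
   [],
   [],
   [],
   [],
   [],
   [],
   [],
   [],
   [],
   [],
   [],
   [],
   [],
   [],
   [],
   [],
   [],
   [],
   [],
   [],
   [],
   [],
   [],
   [],
   [],
   [],
   [],
   [],
   [],
   [],
   [],
   [],
   [],
   [],
   [],
   [],
   [],
   [],
   [],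
   [],
   [],
   [],
   [],
   [],
   [],
   [],
   [],
   [],
   [],
   [],
   [],
   [],
   [],
   [],
   [],
   [],
   [],
   [],
   [],
   [],
   [],
   [],
   [],
   [],
   [],
   [],
   [],
   [],
   [],
   [],
   [],
   [],
   [],
   [],
   [],
   [],
   [],
   [],
   [],
   [],
   [],
   []]

theorem orbB_15 : orbChunkL [O0] [1] clsB repsB 256 15 certsB_15 = true := by
  decide +kernel

theorem orbB : OrbOK [O0] [1] clsB repsB := by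
  refine orbOK_of_chunks (by simp) fun k hk => ?_
  interval_cases k
  · exact ⟨certsB_0, orbB_0⟩
  · exact ⟨certsB_1, orbB_1⟩
  · exact ⟨certsB_2, orbB_2⟩
  · exact ⟨certsB_3, orbB_3⟩
  · exact ⟨certsB_4, orbB_4⟩
  · exact ⟨certsB_5, orbB_5⟩
  · exact ⟨certsB_6, orbB_6⟩
  · exact ⟨certsB_7, orbB_7⟩
  · exact ⟨certsB_8, orbB_8⟩
  · exact ⟨certsB_9, orbB_9⟩
  · exact ⟨certsB_10, orbB_10⟩
  · exact ⟨certsB_11, orbB_11⟩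
  · exact ⟨certsB_12, orbB_12⟩
  · exact ⟨certsB_13, orbB_13⟩
  · exact ⟨certsB_14, orbB_14⟩
  · exact ⟨certsB_15, orbB_15⟩

end Golay
end Cfsg.Agent.Helper28
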