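import Mathlib
import Cfsg.Agent.Helper28.GolayOrb
import Cfsg.Agent.Helper28.OctStab

set_option autoImplicit false

namespace Cfsg.Agent.Helper28
namespace Golay

open Cfsg
open scoped Pointwise

def repsF : List Nat := [0, 0, 0, 13062145, 0, 8966165, 0, 0, 0, 8391797]

def clsF (c : Nat) : Nat := if (Nat.beq (wt c) 8 && (c.testBit 23 && !c.testBit 1)) = true then wt (O0 &&& c) + 1 else 0

def certsF_0 : List (List Nat) :=
  [[],
   [0, 1, 2, 3, 4, 5, 6, 7, 8, 9, 10, 11, 12, 13, 14, 15, 16, 17, 18, 19, 20, 21, 22, 23],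
   [],
   [],
   [4, 1, 0, 15, 6, 5, 11, 19, 13, 21, 10, 2, 22, 12, 7, 14, 9, 8, 16, 3, 18, 20, 17, 23],
   [],
   [],
   [],
   [],
   [0, 1, 6, 12, 5, 4, 11, 15, 8, 21, 2, 10, 13, 18, 17, 7, 22, 9, 3, 16, 19, 14, 20, 23],
   [],
   [],
   [5, 1, 0, 17, 11, 2, 10, 19, 15, 20, 6, 4, 8, 21, 3, 22, 9, 14, 7, 16, 18, 12, 13, 23],
   [],
   [],
   [],
   [2, 1, 4, 8, 0, 10, 5, 20, 9, 3, 6, 11, 14, 16, 19, 15, 22, 17, 7, 12, 18, 21, 13, 23],
   [],
   [],
   [],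
   [],
   [0, 1, 2, 3, 4, 5, 6, 7, 8, 9, 10, 11, 12, 13, 14, 15, 16, 17, 18, 19, 20, 21, 22, 23],
   [],
   [],
   [10, 1, 4, 17, 0, 2, 6, 20, 15, 3, 5, 11, 13, 21, 19, 9, 18, 8, 12, 7, 22, 16, 14, 23],
   [],
   [],
   [],
   [],
   [],
   [],
   [],
   [10, 1, 4, 21, 2, 0, 5, 9, 15, 7, 6, 11, 13, 17, 14, 20, 8, 18, 12, 3, 16, 22, 19, 23],
   [],
   [],
   [],
   [],
   [4, 1, 2, 22, 10, 0, 6, 18, 21, 7, 11, 5, 20, 8, 13, 14, 19, 16, 12, 3, 9, 15, 17, 23],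
   [],
   [],
   [11, 1, 6, 16, 5, 0, 2, 13, 21, 19, 10, 4, 22, 3, 14, 9, 7, 15, 8, 17, 18, 20, 12, 23],
   [],
   [],
   [],
   [],
   [],
   [],
   [],
   [],
   [2, 1, 5, 17, 4, 0, 11, 22, 13, 9, 6, 10, 7, 20, 3, 16, 21, 14, 18, 19, 8, 15, 12, 23],
   [],
   [],
   [],
   [],
   [],
   [],
   [],
   [2, 1, 5, 14, 4, 0, 6, 16, 22, 18, 10, 11, 15, 12, 17, 13, 20, 3, 19, 9, 7, 8, 21, 23],
   [],
   [],
   [],
   [],
   [],
   [],
   [10, 1, 11, 8, 2, 5, 0, 7, 13, 9, 6, 4, 15, 3, 14, 18, 21, 20, 12, 17, 19, 22, 16, 23],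
   [],
   [],
   [],
   [],
   [],
   [],
   [],
   [11, 1, 4, 16, 2, 5, 0, 19, 15, 8, 6, 10, 12, 14, 17, 22, 7, 18, 13, 3, 21, 20, 9, 23],
   [],
   [],
   [],
   [],
   [0, 1, 2, 19, 10, 6, 4, 13, 3, 18, 11, 5, 14, 20, 7, 8, 15, 21, 17, 16, 12, 22, 9, 23],
   [],
   [],
   [],
   [2, 1, 5, 7, 0, 10, 4, 20, 9, 22, 11, 6, 16, 14, 18, 15, 3, 13, 8, 21, 19, 12, 17, 23],
   [],
   [],
   [11, 1, 2, 22, 4, 5, 0, 18, 17, 3, 10, 6, 20, 7, 15, 16, 14, 19, 13, 8, 21, 12, 9, 23],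
   [],
   [],
   [],
   [],
   [],
   [],
   [],
   [],
   [],
   [],
   [],
   [],
   [],
   [],
   [],
   [11, 1, 4, 20, 5, 0, 2, 9, 13, 22, 6, 10, 15, 17, 3, 21, 16, 19, 12, 14, 8, 7, 18, 23],
   [],
   [],
   [],
   [],
   [],
   [],
   [],
   [5, 1, 4, 15, 6, 0, 2, 20, 22, 16, 11, 10, 9, 19, 7, 18, 13, 8, 3, 21, 17, 12, 14, 23],
   [],
   [],
   [],
   [10, 1, 5, 3, 0, 4, 2, 18, 21, 20, 11, 6, 15, 16, 22, 14, 12, 9, 17, 13, 8, 7, 19, 23],
   [],
   [],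
   [],
   [],
   [],
   [],
   [],
   [],
   [],
   [],
   [],
   [],
   [],
   [],
   [],
   [],
   [0, 1, 11, 9, 6, 5, 10, 22, 20, 8, 2, 4, 3, 15, 21, 18, 14, 13, 19, 17, 12, 7, 16, 23],
   [],
   [],
   [11, 1, 0, 15, 2, 6, 10, 17, 13, 3, 4, 5, 21, 12, 14, 20, 8, 16, 9, 22, 19, 7, 18, 23],
   [],
   [],
   [],
   [],
   [],
   [],
   [],
   [2, 1, 0, 17, 6, 5, 4, 16, 8, 15, 10, 11, 18, 19, 14, 9, 7, 3, 12, 13, 20, 22, 21, 23],
   [],
   [],
   [],
   [5, 1, 2, 8, 0, 6, 11, 22, 20, 13, 10, 4, 21, 14, 16, 18, 17, 9, 12, 15, 7, 19, 3, 23],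
   [],
   [],
   [],
   [],
   [4, 1, 2, 8, 0, 10, 11, 14, 21, 3, 6, 5, 20, 22, 17, 18, 16, 19, 12, 7, 15, 9, 13, 23],
   [],
   [],
   [],
   [],
   [],
   [],
   [],
   [],
   [],
   [],
   [5, 1, 11, 13, 10, 0, 4, 16, 19, 3, 6, 2, 22, 14, 21, 12, 20, 9, 15, 18, 7, 17, 8, 23],
   [],
   [],
   [],
   [],
   [],
   [],
   [],
   [2, 1, 5, 17, 4, 0, 11, 22, 13, 9, 6, 10, 7, 20, 3, 16, 21, 14, 18, 19, 8, 15, 12, 23],
   [],
   [],
   [],
   [],
   [],
   [],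
   [],
   [],
   [],
   [],
   [],
   [],
   [],
   [],
   [],
   [],
   [],
   [],
   [],
   [11, 1, 0, 19, 2, 4, 6, 14, 9, 17, 10, 5, 13, 18, 3, 7, 12, 20, 21, 15, 22, 16, 8, 23],
   [],
   [],
   [],
   [10, 1, 5, 9, 11, 4, 0, 12, 15, 7, 2, 6, 17, 20, 3, 13, 8, 22, 21, 19, 18, 16, 14, 23],
   [],
   [],
   [],
   [],
   [],
   [],
   [],
   [5, 1, 2, 18, 11, 10, 0, 14, 20, 9, 6, 4, 21, 22, 7, 8, 15, 13, 12, 17, 16, 3, 19, 23],
   [],
   [],
   [],
   [],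
   [],
   [],
   [],
   [],
   [],
   [],
   [],
   [],
   [],
   [],
   [],
   [],
   [4, 1, 10, 15, 2, 11, 0, 14, 7, 22, 5, 6, 16, 8, 12, 9, 17, 13, 20, 18, 3, 21, 19, 23],
   [],
   [],
   [],
   [],
   [],
   [],
   [],
   [2, 1, 6, 3, 10, 4, 0, 19, 17, 9, 5, 11, 20, 14, 18, 8, 12, 15, 13, 21, 16, 7, 22, 23],
   [],
   [],
   [5, 1, 2, 17, 10, 0, 4, 12, 16, 22, 11, 6, 9, 18, 14, 19, 13, 3, 8, 21, 15, 20, 7, 23],
   [],
   [],
   [],
   [],
   [],
   [],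
   [],
   [],
   [],
   [],
   [],
   [],
   [],
   [],
   [],
   [],
   [],
   [],
   [],
   [],
   [],
   [],
   [],
   [],
   [],
   [],
   []]

theorem orbF_0 : orbChunkL [O0] [1, 23] clsF repsF 256 0 certsF_0 = true := by
  decide +kernel

def certsF_1 : List (List Nat) :=
  [[],
   [],
   [],
   [],
   [4, 1, 0, 19, 2, 11, 6, 9, 14, 15, 5, 10, 18, 13, 20, 7, 16, 3, 21, 17, 8, 12, 22, 23],
   [],
   [],
   [],
   [],
   [0, 1, 6, 12, 2, 4, 10, 13, 16, 20, 5, 11, 15, 19, 17, 22, 7, 9, 14, 8, 18, 3, 21, 23],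
   [],
   [],
   [6, 1, 0, 14, 4, 11, 10, 8, 22, 7, 2, 5, 20, 12, 15, 21, 17, 16, 18, 13, 19, 3, 9, 23],
   [],
   [],
   [],
   [4, 1, 5, 19, 0, 6, 10, 9, 17, 21, 2, 11, 18, 8, 13, 12, 15, 14, 16, 3, 20, 22, 7, 23],
   [],
   [],
   [],
   [],
   [],
   [],
   [],
   [2, 1, 11, 14, 0, 4, 6, 13, 22, 21, 10, 5, 19, 12, 9, 16, 8, 7, 15, 17, 3, 20, 18, 23],
   [],
   [],
   [],
   [],
   [],
   [],
   [],
   [5, 1, 10, 19, 6, 0, 11, 20, 22, 7, 2, 4, 3, 15, 16, 18, 17, 12, 9, 14, 13, 8, 21, 23],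
   [],
   [],
   [],
   [],
   [2, 1, 4, 22, 5, 0, 10, 17, 14, 18, 6, 11, 7, 12, 16, 3, 21, 13, 9, 19, 15, 8, 20, 23],
   [],
   [],
   [],
   [],
   [],
   [],
   [],
   [],
   [],
   [],
   [],
   [],
   [],
   [],
   [5, 1, 0, 3, 4, 2, 11, 21, 12, 18, 6, 10, 16, 7, 14, 20, 8, 17, 19, 9, 22, 13, 15, 23],
   [],
   [],
   [],
   [],
   [],
   [],
   [],
   [],
   [],
   [],
   [],
   [4, 1, 5, 21, 11, 2, 0, 7, 14, 3, 10, 6, 19, 18, 12, 9, 17, 20, 13, 8, 22, 15, 16, 23],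
   [],
   [],
   [],
   [],
   [4, 1, 0, 20, 10, 11, 2, 13, 12, 8, 5, 6, 17, 21, 3, 15, 18, 19, 9, 16, 7, 22, 14, 23],
   [],
   [],
   [],
   [],
   [],
   [],
   [],
   [],
   [],
   [],
   [],
   [2, 1, 10, 21, 0, 11, 4, 8, 12, 13, 5, 6, 22, 20, 3, 18, 15, 16, 14, 19, 7, 17, 9, 23],
   [],
   [],
   [],
   [],
   [],
   [],
   [],
   [],
   [],
   [],
   [],
   [],
   [],
   [],
   [],
   [4, 1, 11, 20, 6, 0, 2, 9, 12, 18, 5, 10, 15, 21, 19, 17, 8, 3, 13, 7, 16, 14, 22, 23],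
   [],
   [],
   [],
   [],
   [],
   [],
   [],
   [],
   [],
   [],
   [],
   [],
   [],
   [],
   [],
   [],
   [],
   [],
   [],
   [],
   [],
   [],
   [6, 1, 11, 14, 4, 0, 2, 17, 12, 18, 10, 5, 3, 22, 16, 9, 8, 15, 7, 13, 19, 20, 21, 23],
   [],
   [],
   [],
   [],
   [],
   [],
   [],
   [],
   [0, 1, 2, 7, 4, 6, 11, 12, 17, 20, 10, 5, 3, 22, 21, 9, 13, 19, 14, 8, 15, 18, 16, 23],
   [],
   [],
   [],
   [],
   [],
   [],
   [],
   [0, 1, 11, 22, 4, 10, 6, 14, 18, 9, 5, 2, 12, 20, 7, 21, 19, 17, 8, 16, 13, 15, 3, 23],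
   [],
   [],
   [],
   [],
   [],
   [],
   [2, 1, 10, 13, 0, 5, 6, 14, 17, 21, 11, 4, 19, 20, 18, 3, 15, 7, 8, 22, 16, 12, 9, 23],
   [],
   [],
   [],
   [],
   [],
   [],
   [],
   [],
   [],
   [],
   [],
   [],
   [],
   [],
   [],
   [5, 1, 11, 21, 2, 0, 10, 14, 17, 7, 6, 4, 18, 15, 9, 3, 22, 13, 16, 20, 12, 8, 19, 23],
   [],
   [],
   [],
   [],
   [],
   [],
   [],
   [],
   [],
   [],
   [],
   [],
   [],
   [],
   [],
   [],
   [],
   [],
   [],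
   [],
   [],
   [],
   [],
   [],
   [],
   [],
   [],
   [],
   [],
   [],
   [],
   [],
   [],
   [],
   [],
   [],
   [],
   [],
   [],
   [5, 1, 2, 12, 11, 4, 0, 17, 16, 13, 10, 6, 9, 19, 20, 18, 22, 21, 8, 3, 7, 14, 15, 23],
   [],
   [],
   [],
   [],
   [],
   [],
   [],
   [],
   [],
   [],
   [],
   [11, 1, 4, 16, 2, 5, 0, 19, 15, 8, 6, 10, 12, 14, 17, 22, 7, 18, 13, 3, 21, 20, 9, 23],
   [],
   [],
   [],
   [],
   [],
   [],
   [],
   [],
   [],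
   [],
   [],
   [],
   [],
   [],
   [],
   [],
   [],
   [],
   [],
   [],
   [],
   [],
   [],
   [],
   [],
   [],
   [],
   [],
   [],
   [],
   [],
   [],
   [],
   [],
   [],
   [],
   [],
   [],
   [],
   [],
   [],
   [],
   []]

theorem orbF_1 : orbChunkL [O0] [1, 23] clsF repsF 256 1 certsF_1 = true := by
  decide +kernel

def certsF_2 : List (List Nat) :=
  [[],
   [0, 1, 5, 8, 11, 4, 10, 19, 3, 22, 6, 2, 17, 13, 15, 20, 9, 7, 14, 12, 18, 16, 21, 23],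
   [],
   [],
   [],
   [],
   [],
   [],
   [],
   [0, 1, 6, 18, 4, 5, 2, 7, 8, 16, 11, 10, 13, 12, 20, 15, 9, 22, 3, 21, 14, 19, 17, 23],
   [],
   [],
   [6, 1, 0, 18, 4, 5, 10, 13, 19, 16, 11, 2, 7, 9, 22, 14, 12, 20, 21, 3, 15, 8, 17, 23],
   [],
   [],
   [],
   [11, 1, 6, 3, 0, 5, 10, 9, 21, 17, 2, 4, 22, 16, 12, 13, 15, 7, 8, 19, 20, 18, 14, 23],
   [],
   [],
   [],
   [],
   [],
   [],
   [],
   [6, 1, 10, 14, 0, 2, 4, 7, 19, 17, 5, 11, 9, 13, 22, 21, 8, 12, 18, 16, 15, 20, 3, 23],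
   [],
   [],
   [],
   [],
   [],
   [],
   [],
   [6, 1, 10, 13, 2, 0, 5, 21, 19, 16, 4, 11, 9, 14, 3, 7, 12, 8, 18, 17, 20, 15, 22, 23],
   [],
   [],
   [],
   [],
   [],
   [],
   [],
   [6, 1, 5, 18, 2, 0, 10, 21, 19, 12, 11, 4, 14, 9, 20, 7, 16, 22, 13, 15, 3, 17, 8, 23],
   [],
   [],
   [],
   [],
   [],
   [],
   [],
   [],
   [2, 1, 10, 9, 4, 0, 5, 13, 16, 12, 6, 11, 21, 8, 15, 22, 19, 20, 3, 7, 14, 18, 17, 23],
   [],
   [],
   [11, 1, 0, 3, 2, 4, 5, 9, 7, 15, 6, 10, 22, 12, 20, 14, 8, 19, 17, 21, 16, 13, 18, 23],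
   [],
   [],
   [],
   [],
   [],
   [],
   [],
   [],
   [],
   [],
   [],
   [5, 1, 4, 9, 6, 10, 0, 15, 21, 18, 11, 2, 20, 13, 3, 17, 14, 22, 12, 8, 16, 7, 19, 23],
   [],
   [],
   [],
   [],
   [0, 1, 4, 20, 5, 11, 2, 13, 9, 14, 10, 6, 17, 15, 19, 21, 7, 3, 12, 22, 18, 16, 8, 23],
   [],
   [],
   [],
   [],
   [],
   [],
   [],
   [],
   [],
   [],
   [],
   [],
   [],
   [],
   [10, 1, 2, 16, 0, 11, 4, 17, 7, 14, 6, 5, 18, 20, 3, 22, 9, 21, 13, 19, 12, 8, 15, 23],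
   [],
   [],
   [],
   [],
   [],
   [],
   [],
   [],
   [],
   [],
   [],
   [],
   [],
   [],
   [],
   [],
   [],
   [],
   [],
   [],
   [2, 1, 11, 14, 6, 4, 0, 18, 3, 19, 5, 10, 21, 17, 9, 15, 20, 7, 16, 12, 22, 8, 13, 23],
   [],
   [],
   [],
   [],
   [],
   [],
   [],
   [],
   [],
   [],
   [],
   [],
   [],
   [],
   [],
   [],
   [],
   [],
   [],
   [],
   [],
   [],
   [],
   [0, 1, 5, 19, 11, 10, 2, 17, 7, 18, 6, 4, 8, 21, 16, 22, 13, 12, 15, 3, 20, 14, 9, 23],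
   [],
   [],
   [10, 1, 0, 8, 4, 6, 5, 16, 20, 22, 11, 2, 9, 14, 13, 7, 18, 3, 15, 19, 17, 12, 21, 23],
   [],
   [],
   [],
   [],
   [],
   [],
   [],
   [],
   [],
   [],
   [],
   [],
   [],
   [],
   [],
   [],
   [],
   [],
   [],
   [6, 1, 2, 17, 0, 11, 5, 16, 15, 22, 10, 4, 18, 21, 13, 14, 19, 20, 3, 9, 12, 8, 7, 23],
   [],
   [],
   [],
   [],
   [],
   [],
   [],
   [],
   [],
   [],
   [],
   [],
   [0, 1, 2, 13, 5, 4, 10, 15, 8, 19, 6, 11, 12, 3, 22, 7, 17, 16, 18, 9, 21, 20, 14, 23],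
   [],
   [],
   [],
   [],
   [],
   [],
   [],
   [],
   [],
   [],
   [],
   [],
   [],
   [],
   [],
   [],
   [],
   [],
   [],
   [],
   [],
   [],
   [],
   [],
   [],
   [],
   [2, 1, 4, 19, 11, 10, 0, 16, 21, 18, 6, 5, 12, 7, 17, 3, 14, 8, 20, 22, 15, 13, 9, 23],
   [],
   [],
   [],
   [],
   [],
   [],
   [],
   [],
   [],
   [],
   [],
   [],
   [],
   [],
   [],
   [],
   [],
   [],
   [],
   [],
   [],
   [],
   [],
   [],
   [],
   [],
   [],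
   [],
   [],
   [],
   [],
   [],
   [],
   [],
   [],
   [],
   [],
   [],
   [],
   [],
   [],
   [],
   [],
   [],
   [],
   [],
   [],
   [11, 1, 10, 17, 2, 0, 4, 12, 18, 14, 5, 6, 9, 16, 22, 8, 21, 7, 19, 13, 20, 15, 3, 23],
   [],
   [],
   [],
   [],
   [],
   [],
   [],
   [],
   [],
   [],
   [],
   [],
   [],
   [],
   []]

theorem orbF_2 : orbChunkL [O0] [1, 23] clsF repsF 256 2 certsF_2 = true := by
  decide +kernel

def certsF_3 : List (List Nat) :=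
  [[],
   [0, 1, 11, 13, 10, 5, 4, 19, 16, 18, 2, 6, 14, 22, 9, 12, 17, 21, 15, 3, 8, 20, 7, 23],
   [],
   [],
   [5, 1, 0, 3, 4, 2, 11, 21, 12, 18, 6, 10, 16, 7, 14, 20, 8, 17, 19, 9, 22, 13, 15, 23],
   [],
   [],
   [],
   [],
   [],
   [],
   [],
   [],
   [],
   [],
   [],
   [],
   [],
   [],
   [],
   [],
   [],
   [],
   [],
   [],
   [],
   [],
   [],
   [],
   [4, 1, 0, 19, 2, 11, 6, 9, 14, 15, 5, 10, 18, 13, 20, 7, 16, 3, 21, 17, 8, 12, 22, 23],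
   [],
   [],
   [2, 1, 10, 9, 4, 0, 5, 13, 16, 12, 6, 11, 21, 8, 15, 22, 19, 20, 3, 7, 14, 18, 17, 23],
   [],
   [],
   [],
   [],
   [],
   [],
   [],
   [],
   [],
   [],
   [],
   [],
   [],
   [],
   [],
   [],
   [],
   [],
   [],
   [],
   [],
   [],
   [],
   [],
   [],
   [],
   [],
   [],
   [],
   [],
   [],
   [10, 1, 4, 19, 11, 2, 0, 21, 16, 22, 5, 6, 7, 12, 8, 3, 13, 17, 20, 18, 9, 14, 15, 23],
   [],
   [],
   [],
   [],
   [],
   [],
   [],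
   [5, 1, 11, 12, 2, 6, 0, 9, 16, 14, 10, 4, 17, 19, 7, 8, 15, 3, 18, 21, 20, 13, 22, 23],
   [],
   [],
   [],
   [],
   [],
   [],
   [],
   [],
   [],
   [],
   [],
   [],
   [],
   [],
   [],
   [],
   [],
   [],
   [],
   [],
   [],
   [],
   [],
   [],
   [],
   [],
   [],
   [],
   [],
   [],
   [],
   [],
   [],
   [],
   [],
   [],
   [],
   [],
   [],
   [],
   [],
   [],
   [],
   [],
   [],
   [],
   [],
   [],
   [],
   [],
   [],
   [],
   [],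
   [],
   [],
   [],
   [],
   [],
   [],
   [2, 1, 0, 15, 6, 10, 11, 12, 22, 17, 5, 4, 13, 19, 9, 14, 7, 20, 16, 18, 3, 8, 21, 23],
   [],
   [],
   [],
   [],
   [],
   [],
   [],
   [],
   [],
   [],
   [],
   [6, 1, 5, 7, 0, 11, 4, 14, 16, 17, 10, 2, 9, 20, 3, 15, 18, 12, 8, 19, 21, 13, 22, 23],
   [],
   [],
   [],
   [],
   [],
   [],
   [],
   [],
   [],
   [],
   [],
   [],
   [],
   [],
   [],
   [],
   [],
   [],
   [],
   [],
   [],
   [],
   [],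
   [4, 1, 10, 18, 6, 0, 11, 12, 17, 22, 5, 2, 8, 16, 14, 9, 7, 21, 19, 15, 3, 13, 20, 23],
   [],
   [],
   [],
   [],
   [],
   [],
   [],
   [],
   [],
   [],
   [],
   [],
   [],
   [],
   [],
   [],
   [],
   [],
   [],
   [],
   [],
   [],
   [],
   [],
   [],
   [],
   [],
   [],
   [],
   [],
   [],
   [],
   [],
   [],
   [],
   [],
   [],
   [],
   [],
   [],
   [],
   [],
   [],
   [],
   [],
   [],
   [],
   [],
   [],
   [],
   [],
   [],
   [],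
   [],
   [],
   [],
   [],
   [],
   [],
   [],
   [],
   [],
   [],
   [],
   [],
   [],
   [],
   [],
   [],
   [],
   [],
   [],
   [],
   [],
   [],
   [],
   [],
   [],
   [],
   [],
   [],
   [],
   [],
   [],
   [],
   [],
   []]

theorem orbF_3 : orbChunkL [O0] [1, 23] clsF repsF 256 3 certsF_3 = true := by
  decide +kernel

def certsF_4 : List (List Nat) :=
  [[2, 1, 5, 20, 11, 4, 10, 7, 9, 3, 0, 6, 16, 15, 12, 14, 22, 21, 8, 13, 17, 18, 19, 23],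
   [],
   [],
   [],
   [],
   [0, 1, 4, 9, 5, 6, 10, 18, 20, 16, 2, 11, 19, 15, 17, 22, 7, 12, 3, 21, 13, 14, 8, 23],
   [],
   [],
   [],
   [],
   [],
   [],
   [],
   [4, 1, 0, 15, 11, 5, 6, 17, 18, 22, 2, 10, 21, 3, 7, 16, 20, 8, 14, 12, 13, 9, 19, 23],
   [],
   [],
   [],
   [],
   [],
   [],
   [],
   [],
   [],
   [],
   [],
   [4, 1, 5, 19, 0, 6, 10, 9, 17, 21, 2, 11, 18, 8, 13, 12, 15, 14, 16, 3, 20, 22, 7, 23],
   [],
   [],
   [5, 1, 4, 19, 0, 6, 11, 18, 22, 21, 2, 10, 9, 15, 14, 20, 8, 13, 3, 16, 12, 17, 7, 23],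
   [],
   [],
   [],
   [],
   [4, 1, 10, 8, 11, 2, 5, 9, 7, 18, 0, 6, 16, 15, 19, 14, 13, 17, 20, 22, 21, 3, 12, 23],
   [],
   [],
   [5, 1, 0, 8, 10, 4, 6, 22, 9, 17, 2, 11, 21, 16, 7, 3, 12, 15, 13, 20, 14, 18, 19, 23],
   [],
   [],
   [],
   [],
   [],
   [],
   [],
   [],
   [],
   [],
   [],
   [10, 1, 6, 16, 0, 4, 11, 18, 21, 22, 2, 5, 17, 3, 20, 14, 8, 7, 15, 19, 12, 9, 13, 23],
   [],
   [],
   [],
   [],
   [],
   [],
   [],
   [],
   [],
   [],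
   [],
   [],
   [],
   [],
   [],
   [],
   [4, 1, 11, 13, 5, 10, 0, 3, 22, 7, 2, 6, 8, 16, 12, 9, 17, 15, 21, 19, 14, 20, 18, 23],
   [],
   [],
   [11, 1, 4, 8, 10, 6, 2, 9, 18, 3, 0, 5, 16, 12, 22, 19, 15, 21, 17, 14, 20, 7, 13, 23],
   [],
   [],
   [],
   [],
   [],
   [],
   [],
   [],
   [],
   [],
   [],
   [5, 1, 11, 8, 2, 10, 0, 13, 7, 17, 4, 6, 3, 15, 20, 18, 22, 14, 12, 9, 16, 21, 19, 23],
   [],
   [],
   [],
   [],
   [],
   [],
   [],
   [6, 1, 5, 15, 0, 10, 4, 13, 3, 9, 2, 11, 12, 18, 21, 8, 22, 17, 7, 14, 16, 19, 20, 23],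
   [],
   [],
   [],
   [],
   [],
   [],
   [],
   [],
   [],
   [],
   [],
   [],
   [],
   [],
   [],
   [5, 1, 10, 12, 6, 0, 2, 18, 20, 9, 4, 11, 8, 21, 19, 22, 15, 16, 14, 7, 3, 13, 17, 23],
   [],
   [],
   [],
   [],
   [],
   [],
   [],
   [],
   [],
   [],
   [],
   [],
   [],
   [],
   [],
   [],
   [],
   [],
   [],
   [],
   [],
   [],
   [],
   [5, 1, 4, 13, 10, 6, 11, 17, 21, 8, 0, 2, 20, 9, 19, 15, 22, 14, 12, 18, 7, 16, 3, 23],
   [],
   [],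
   [],
   [],
   [],
   [],
   [],
   [6, 1, 2, 18, 10, 4, 5, 16, 20, 21, 0, 11, 17, 22, 3, 7, 12, 15, 13, 9, 19, 8, 14, 23],
   [],
   [],
   [],
   [],
   [],
   [],
   [],
   [],
   [],
   [],
   [],
   [5, 1, 2, 9, 4, 6, 11, 19, 13, 17, 0, 10, 18, 21, 8, 14, 20, 16, 7, 22, 3, 15, 12, 23],
   [],
   [],
   [],
   [],
   [],
   [],
   [],
   [],
   [],
   [],
   [],
   [],
   [],
   [],
   [],
   [],
   [],
   [],
   [],
   [],
   [0, 1, 10, 14, 11, 4, 5, 19, 3, 9, 2, 6, 13, 17, 18, 20, 22, 21, 8, 16, 15, 12, 7, 23],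
   [],
   [],
   [],
   [],
   [],
   [],
   [10, 1, 5, 16, 4, 0, 11, 14, 21, 13, 2, 6, 15, 3, 19, 18, 9, 12, 17, 20, 7, 8, 22, 23],
   [],
   [],
   [],
   [],
   [],
   [],
   [],
   [],
   [],
   [],
   [],
   [],
   [],
   [],
   [],
   [],
   [0, 1, 11, 13, 10, 5, 4, 19, 16, 18, 2, 6, 14, 22, 9, 12, 17, 21, 15, 3, 8, 20, 7, 23],
   [],
   [],
   [],
   [],
   [],
   [],
   [],
   [],
   [],
   [],
   [],
   [],
   [],
   [],
   [],
   [],
   [],
   [],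
   [],
   [],
   [],
   [],
   [],
   [],
   [],
   [],
   [],
   [],
   [],
   [],
   [],
   [],
   [],
   [],
   [],
   [],
   [],
   [],
   [],
   [],
   [],
   [],
   [],
   [],
   [],
   [],
   [],
   [],
   [],
   [],
   [],
   [],
   [],
   [],
   [],
   [],
   [],
   [],
   [],
   [],
   [],
   []]

theorem orbF_4 : orbChunkL [O0] [1, 23] clsF repsF 256 4 certsF_4 = true := by
  decide +kernel

def certsF_5 : List (List Nat) :=
  [[10, 1, 2, 7, 4, 5, 11, 3, 22, 15, 0, 6, 12, 17, 18, 9, 19, 13, 14, 16, 20, 21, 8, 23],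
   [],
   [],
   [],
   [],
   [],
   [],
   [],
   [2, 1, 6, 14, 4, 10, 5, 8, 17, 21, 0, 11, 20, 3, 22, 19, 15, 12, 13, 9, 7, 16, 18, 23],
   [],
   [],
   [],
   [],
   [],
   [],
   [],
   [],
   [0, 1, 10, 7, 4, 11, 6, 3, 19, 9, 2, 5, 12, 21, 22, 20, 18, 17, 16, 8, 15, 13, 14, 23],
   [],
   [],
   [],
   [],
   [],
   [],
   [],
   [],
   [],
   [],
   [],
   [],
   [],
   [],
   [],
   [],
   [],
   [],
   [],
   [],
   [],
   [],
   [],
   [],
   [],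
   [],
   [5, 1, 0, 15, 6, 4, 11, 13, 19, 3, 2, 10, 12, 22, 8, 14, 20, 7, 16, 21, 17, 9, 18, 23],
   [],
   [],
   [],
   [6, 1, 11, 22, 0, 4, 10, 9, 12, 13, 2, 5, 3, 14, 21, 17, 15, 8, 7, 18, 20, 19, 16, 23],
   [],
   [],
   [],
   [],
   [],
   [],
   [],
   [],
   [],
   [],
   [],
   [],
   [],
   [],
   [],
   [],
   [],
   [],
   [],
   [6, 1, 2, 9, 11, 5, 4, 3, 12, 21, 0, 10, 22, 17, 16, 7, 20, 8, 14, 18, 19, 15, 13, 23],
   [],
   [],
   [],
   [],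
   [],
   [],
   [],
   [],
   [],
   [],
   [],
   [],
   [],
   [],
   [],
   [],
   [],
   [],
   [],
   [],
   [],
   [],
   [],
   [],
   [],
   [],
   [],
   [],
   [],
   [],
   [],
   [],
   [],
   [],
   [],
   [],
   [],
   [],
   [],
   [],
   [],
   [],
   [],
   [],
   [],
   [],
   [],
   [],
   [],
   [],
   [],
   [],
   [],
   [],
   [],
   [],
   [],
   [],
   [],
   [4, 1, 2, 9, 5, 11, 6, 18, 17, 13, 0, 10, 19, 12, 7, 16, 20, 14, 8, 3, 22, 15, 21, 23],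
   [],
   [],
   [],
   [],
   [2, 1, 4, 21, 11, 5, 6, 15, 19, 13, 0, 10, 17, 7, 12, 22, 14, 20, 8, 3, 16, 18, 9, 23],
   [],
   [],
   [],
   [],
   [],
   [],
   [],
   [],
   [],
   [],
   [],
   [],
   [],
   [],
   [],
   [],
   [],
   [],
   [],
   [],
   [],
   [],
   [],
   [],
   [],
   [],
   [],
   [],
   [],
   [],
   [],
   [],
   [],
   [],
   [],
   [],
   [],
   [],
   [],
   [],
   [],
   [],
   [],
   [],
   [],
   [],
   [],
   [],
   [],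
   [],
   [],
   [],
   [],
   [],
   [],
   [],
   [],
   [],
   [],
   [],
   [],
   [],
   [],
   [],
   [],
   [],
   [],
   [],
   [],
   [],
   [],
   [],
   [],
   [],
   [],
   [],
   [],
   [],
   [],
   [],
   [],
   [],
   [],
   [],
   [],
   [],
   [],
   [],
   [],
   [],
   [10, 1, 5, 9, 11, 4, 0, 12, 15, 7, 2, 6, 17, 20, 3, 13, 8, 22, 21, 19, 18, 16, 14, 23],
   [],
   [],
   [],
   [],
   [],
   [],
   [],
   [],
   [],
   [],
   [],
   [],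
   [],
   [],
   [],
   [],
   [],
   [],
   [],
   [],
   [],
   [],
   [],
   [],
   [],
   [],
   [],
   [],
   [],
   [],
   []]

theorem orbF_5 : orbChunkL [O0] [1, 23] clsF repsF 256 5 certsF_5 = true := by
  decide +kernel

def certsF_6 : List (List Nat) :=
  [[6, 1, 11, 21, 10, 4, 2, 20, 7, 14, 0, 5, 12, 19, 8, 16, 9, 22, 3, 17, 15, 13, 18, 23],
   [],
   [],
   [],
   [],
   [],
   [],
   [],
   [5, 1, 2, 22, 10, 11, 6, 8, 20, 17, 0, 4, 21, 18, 19, 14, 13, 15, 12, 9, 3, 16, 7, 23],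
   [],
   [],
   [],
   [],
   [],
   [],
   [],
   [],
   [],
   [],
   [],
   [6, 1, 0, 8, 4, 10, 5, 20, 16, 19, 2, 11, 14, 9, 3, 7, 12, 13, 15, 22, 21, 18, 17, 23],
   [],
   [],
   [],
   [],
   [],
   [],
   [],
   [],
   [],
   [],
   [],
   [],
   [],
   [],
   [],
   [6, 1, 4, 18, 11, 2, 5, 13, 20, 12, 0, 10, 7, 22, 15, 17, 21, 3, 16, 19, 9, 14, 8, 23],
   [],
   [],
   [],
   [],
   [],
   [],
   [],
   [],
   [],
   [],
   [],
   [],
   [],
   [],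
   [],
   [],
   [],
   [],
   [],
   [],
   [],
   [],
   [],
   [],
   [],
   [],
   [],
   [],
   [4, 1, 6, 22, 5, 11, 0, 17, 16, 15, 2, 10, 7, 13, 21, 18, 14, 8, 20, 9, 3, 12, 19, 23],
   [],
   [],
   [],
   [],
   [],
   [],
   [],
   [],
   [],
   [],
   [],
   [],
   [],
   [],
   [],
   [],
   [],
   [],
   [],
   [],
   [],
   [],
   [],
   [],
   [],
   [],
   [],
   [],
   [],
   [],
   [6, 1, 10, 3, 5, 0, 4, 20, 18, 14, 2, 11, 19, 15, 8, 22, 21, 13, 9, 7, 12, 16, 17, 23],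
   [],
   [],
   [],
   [],
   [],
   [],
   [],
   [],
   [],
   [],
   [],
   [],
   [],
   [],
   [],
   [],
   [],
   [],
   [],
   [],
   [],
   [],
   [],
   [],
   [],
   [],
   [],
   [],
   [],
   [],
   [],
   [10, 1, 11, 3, 5, 2, 6, 18, 13, 17, 0, 4, 15, 8, 16, 7, 20, 21, 12, 9, 22, 19, 14, 23],
   [],
   [],
   [],
   [],
   [],
   [],
   [],
   [],
   [],
   [],
   [],
   [],
   [],
   [],
   [],
   [],
   [2, 1, 11, 21, 0, 10, 5, 15, 20, 14, 4, 6, 17, 12, 16, 9, 8, 3, 13, 19, 7, 22, 18, 23],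
   [],
   [],
   [],
   [],
   [],
   [],
   [],
   [],
   [],
   [],
   [],
   [],
   [],
   [],
   [],
   [],
   [],
   [],
   [],
   [],
   [],
   [],
   [],
   [],
   [],
   [],
   [],
   [],
   [],
   [],
   [],
   [],
   [],
   [],
   [],
   [],
   [],
   [],
   [],
   [],
   [],
   [],
   [],
   [],
   [],
   [],
   [],
   [],
   [],
   [],
   [],
   [],
   [],
   [],
   [],
   [],
   [],
   [],
   [11, 1, 0, 14, 10, 6, 4, 19, 9, 12, 2, 5, 13, 7, 16, 18, 17, 15, 21, 20, 8, 3, 22, 23],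
   [],
   [],
   [],
   [],
   [],
   [],
   [],
   [],
   [],
   [],
   [],
   [],
   [],
   [],
   [],
   [],
   [],
   [],
   [],
   [],
   [],
   [],
   [],
   [],
   [],
   [],
   [],
   [],
   [],
   [],
   [],
   [],
   [],
   [],
   [],
   [],
   [],
   [],
   [],
   [],
   [],
   [],
   [],
   [],
   [],
   [],
   [],
   [],
   [],
   [],
   []]

theorem orbF_6 : orbChunkL [O0] [1, 23] clsF repsF 256 6 certsF_6 = true := by
  decide +kernel

def certsF_7 : List (List Nat) :=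
  [[],
   [],
   [],
   [],
   [],
   [],
   [],
   [],
   [5, 1, 6, 17, 11, 10, 2, 8, 14, 22, 0, 4, 19, 3, 21, 20, 12, 15, 13, 16, 18, 9, 7, 23],
   [],
   [],
   [],
   [],
   [],
   [],
   [],
   [],
   [],
   [],
   [],
   [],
   [],
   [],
   [],
   [],
   [],
   [],
   [],
   [],
   [],
   [],
   [],
   [],
   [4, 1, 11, 7, 6, 2, 5, 18, 15, 19, 0, 10, 13, 8, 9, 3, 22, 14, 12, 16, 20, 17, 21, 23],
   [],
   [],
   [],
   [],
   [],
   [],
   [],
   [],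
   [],
   [],
   [],
   [],
   [],
   [],
   [],
   [],
   [],
   [],
   [],
   [],
   [],
   [],
   [],
   [],
   [],
   [],
   [],
   [],
   [],
   [],
   [],
   [],
   [],
   [],
   [],
   [],
   [],
   [],
   [],
   [],
   [],
   [],
   [],
   [],
   [],
   [],
   [10, 1, 5, 20, 4, 11, 2, 13, 15, 19, 0, 6, 17, 9, 14, 12, 22, 8, 21, 7, 16, 18, 3, 23],
   [],
   [],
   [],
   [],
   [],
   [],
   [],
   [],
   [],
   [],
   [],
   [],
   [],
   [],
   [],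
   [],
   [],
   [],
   [],
   [],
   [],
   [],
   [],
   [],
   [],
   [],
   [],
   [],
   [],
   [],
   [],
   [],
   [],
   [],
   [],
   [],
   [],
   [],
   [],
   [],
   [],
   [],
   [],
   [],
   [],
   [],
   [],
   [],
   [],
   [],
   [],
   [],
   [],
   [],
   [],
   [],
   [],
   [],
   [],
   [],
   [],
   [],
   [],
   [],
   [],
   [],
   [],
   [],
   [],
   [],
   [],
   [],
   [],
   [],
   [],
   [],
   [],
   [],
   [],
   [],
   [],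
   [],
   [],
   [],
   [],
   [],
   [],
   [],
   [],
   [],
   [],
   [],
   [],
   [],
   [],
   [],
   [],
   [],
   [],
   [],
   [],
   [],
   [],
   [],
   [],
   [],
   [],
   [],
   [],
   [],
   [],
   [],
   [],
   [],
   [],
   [],
   [],
   [],
   [],
   [],
   [],
   [],
   [],
   [],
   [],
   [],
   [],
   [],
   [],
   [],
   [],
   [],
   [],
   [],
   [],
   [],
   [],
   [],
   [],
   [],
   [],
   [],
   [],
   [],
   [],
   [],
   [],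
   [],
   [],
   [],
   [],
   [],
   [],
   [],
   [],
   [],
   [],
   [],
   [],
   [],
   [],
   [],
   [],
   [],
   [],
   [],
   [],
   [],
   [],
   [],
   [],
   [],
   [],
   [],
   []]

theorem orbF_7 : orbChunkL [O0] [1, 23] clsF repsF 256 7 certsF_7 = true := by
  decide +kernel

def certsF_8 : List (List Nat) :=
  [[11, 1, 5, 19, 4, 2, 6, 7, 9, 8, 10, 0, 21, 18, 15, 14, 16, 22, 13, 3, 20, 12, 17, 23],
   [],
   [],
   [],
   [],
   [0, 1, 4, 18, 11, 10, 5, 7, 22, 9, 6, 2, 13, 20, 14, 17, 3, 21, 16, 8, 12, 15, 19, 23],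
   [],
   [],
   [5, 1, 6, 14, 2, 4, 10, 21, 20, 7, 11, 0, 18, 8, 19, 12, 16, 13, 22, 17, 3, 15, 9, 23],
   [],
   [],
   [],
   [],
   [],
   [],
   [],
   [],
   [],
   [],
   [],
   [10, 1, 0, 8, 4, 6, 5, 16, 20, 22, 11, 2, 9, 14, 13, 7, 18, 3, 15, 19, 17, 12, 21, 23],
   [],
   [],
   [],
   [],
   [],
   [],
   [],
   [5, 1, 4, 14, 2, 6, 11, 16, 8, 22, 10, 0, 15, 20, 13, 9, 21, 19, 7, 17, 3, 18, 12, 23],
   [],
   [],
   [],
   [],
   [0, 1, 11, 8, 5, 2, 10, 17, 3, 16, 6, 4, 19, 13, 18, 14, 21, 12, 20, 7, 15, 22, 9, 23],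
   [],
   [],
   [6, 1, 4, 9, 5, 0, 10, 20, 18, 21, 11, 2, 15, 19, 12, 22, 14, 17, 3, 16, 8, 7, 13, 23],
   [],
   [],
   [],
   [],
   [],
   [],
   [],
   [],
   [],
   [],
   [],
   [],
   [],
   [],
   [],
   [],
   [],
   [],
   [],
   [5, 1, 6, 14, 2, 4, 10, 21, 20, 7, 11, 0, 18, 8, 19, 12, 16, 13, 22, 17, 3, 15, 9, 23],
   [],
   [],
   [],
   [],
   [],
   [],
   [],
   [],
   [4, 1, 10, 3, 11, 5, 2, 17, 18, 7, 6, 0, 14, 15, 22, 16, 13, 9, 21, 19, 20, 8, 12, 23],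
   [],
   [],
   [],
   [],
   [],
   [],
   [],
   [0, 1, 5, 19, 11, 10, 2, 17, 7, 18, 6, 4, 8, 21, 16, 22, 13, 12, 15, 3, 20, 14, 9, 23],
   [],
   [],
   [],
   [],
   [],
   [],
   [6, 1, 5, 3, 2, 11, 0, 20, 13, 21, 10, 4, 19, 8, 12, 17, 9, 7, 14, 18, 15, 22, 16, 23],
   [],
   [],
   [],
   [],
   [],
   [],
   [],
   [],
   [],
   [],
   [],
   [],
   [],
   [],
   [],
   [5, 1, 11, 16, 10, 4, 2, 22, 9, 7, 6, 0, 13, 8, 17, 3, 14, 18, 21, 19, 12, 15, 20, 23],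
   [],
   [],
   [],
   [],
   [],
   [],
   [],
   [],
   [],
   [],
   [],
   [],
   [],
   [],
   [],
   [],
   [],
   [],
   [],
   [],
   [],
   [],
   [],
   [],
   [],
   [],
   [],
   [],
   [],
   [],
   [],
   [],
   [],
   [],
   [],
   [],
   [],
   [],
   [],
   [5, 1, 4, 18, 6, 11, 2, 12, 7, 9, 10, 0, 8, 13, 17, 3, 14, 16, 15, 20, 22, 21, 19, 23],
   [],
   [],
   [],
   [],
   [4, 1, 0, 15, 6, 5, 11, 19, 13, 21, 10, 2, 22, 12, 7, 14, 9, 8, 16, 3, 18, 20, 17, 23],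
   [],
   [],
   [],
   [2, 1, 11, 13, 0, 6, 5, 19, 7, 3, 10, 4, 14, 18, 20, 21, 12, 17, 9, 22, 16, 15, 8, 23],
   [],
   [],
   [],
   [],
   [],
   [],
   [],
   [],
   [],
   [],
   [],
   [],
   [],
   [],
   [],
   [2, 1, 10, 17, 5, 4, 6, 12, 20, 16, 11, 0, 9, 13, 19, 21, 7, 8, 15, 14, 3, 22, 18, 23],
   [],
   [],
   [],
   [],
   [],
   [],
   [],
   [],
   [],
   [],
   [],
   [],
   [],
   [],
   [5, 1, 11, 21, 2, 0, 10, 14, 17, 7, 6, 4, 18, 15, 9, 3, 22, 13, 16, 20, 12, 8, 19, 23],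
   [],
   [],
   [],
   [],
   [],
   [],
   [],
   [],
   [],
   [],
   [],
   [],
   [],
   [],
   [],
   [],
   [],
   [],
   [],
   [5, 1, 4, 18, 6, 11, 2, 12, 7, 9, 10, 0, 8, 13, 17, 3, 14, 16, 15, 20, 22, 21, 19, 23],
   [],
   [],
   [],
   [],
   [],
   [],
   [],
   [],
   [],
   [],
   [],
   [6, 1, 5, 7, 0, 11, 4, 14, 16, 17, 10, 2, 9, 20, 3, 15, 18, 12, 8, 19, 21, 13, 22, 23],
   [],
   [],
   [],
   [],
   [],
   [],
   [],
   [],
   [],
   [],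
   [],
   [],
   [],
   [],
   [],
   [],
   [],
   [],
   [],
   [],
   [],
   [],
   [],
   [],
   [],
   [],
   [],
   [],
   [],
   [],
   [],
   [],
   [],
   [],
   [],
   [],
   [],
   [],
   [],
   [],
   [],
   [],
   [],
   [],
   [],
   [],
   []]

theorem orbF_8 : orbChunkL [O0] [1, 23] clsF repsF 256 8 certsF_8 = true := by
  decide +kernel

def certsF_9 : List (List Nat) :=
  [[11, 1, 2, 7, 10, 4, 5, 15, 12, 20, 6, 0, 8, 3, 9, 13, 21, 14, 18, 22, 17, 19, 16, 23],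
   [],
   [],
   [],
   [],
   [],
   [],
   [],
   [6, 1, 5, 12, 4, 11, 2, 8, 22, 15, 10, 0, 18, 14, 7, 21, 19, 3, 20, 9, 17, 16, 13, 23],
   [],
   [],
   [],
   [],
   [],
   [],
   [],
   [],
   [4, 1, 10, 13, 0, 11, 6, 20, 19, 9, 5, 2, 17, 14, 15, 3, 18, 12, 8, 16, 22, 7, 21, 23],
   [],
   [],
   [6, 1, 2, 17, 0, 11, 5, 16, 15, 22, 10, 4, 18, 21, 13, 14, 19, 20, 3, 9, 12, 8, 7, 23],
   [],
   [],
   [],
   [],
   [],
   [],
   [],
   [],
   [],
   [],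
   [],
   [],
   [],
   [],
   [],
   [],
   [],
   [],
   [],
   [],
   [4, 1, 10, 14, 11, 0, 5, 3, 19, 16, 6, 2, 17, 13, 21, 20, 12, 18, 8, 9, 7, 22, 15, 23],
   [],
   [],
   [],
   [],
   [],
   [],
   [],
   [],
   [],
   [],
   [],
   [],
   [],
   [],
   [],
   [],
   [],
   [],
   [],
   [],
   [],
   [],
   [],
   [],
   [],
   [],
   [],
   [],
   [],
   [],
   [],
   [],
   [],
   [],
   [5, 1, 0, 19, 11, 10, 4, 8, 14, 18, 6, 2, 17, 13, 12, 20, 21, 16, 3, 15, 22, 7, 9, 23],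
   [],
   [],
   [],
   [],
   [],
   [],
   [],
   [],
   [],
   [],
   [],
   [],
   [],
   [],
   [],
   [],
   [],
   [],
   [],
   [5, 1, 11, 13, 10, 0, 4, 16, 19, 3, 6, 2, 22, 14, 21, 12, 20, 9, 15, 18, 7, 17, 8, 23],
   [],
   [],
   [],
   [],
   [],
   [],
   [],
   [],
   [],
   [],
   [],
   [],
   [],
   [],
   [],
   [],
   [],
   [],
   [],
   [],
   [],
   [],
   [],
   [],
   [],
   [],
   [],
   [],
   [],
   [],
   [],
   [4, 1, 10, 3, 11, 5, 2, 17, 18, 7, 6, 0, 14, 15, 22, 16, 13, 9, 21, 19, 20, 8, 12, 23],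
   [],
   [],
   [],
   [],
   [],
   [],
   [],
   [],
   [],
   [],
   [],
   [],
   [],
   [],
   [],
   [],
   [],
   [],
   [],
   [],
   [],
   [],
   [],
   [],
   [],
   [],
   [],
   [],
   [],
   [],
   [],
   [],
   [],
   [],
   [],
   [11, 1, 2, 7, 10, 4, 5, 15, 12, 20, 6, 0, 8, 3, 9, 13, 21, 14, 18, 22, 17, 19, 16, 23],
   [],
   [],
   [],
   [],
   [],
   [],
   [],
   [],
   [],
   [],
   [],
   [],
   [],
   [],
   [],
   [],
   [],
   [],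
   [],
   [],
   [],
   [],
   [],
   [],
   [],
   [],
   [],
   [],
   [],
   [],
   [],
   [],
   [],
   [],
   [],
   [],
   [],
   [],
   [],
   [],
   [],
   [],
   [],
   [],
   [],
   [],
   [],
   [],
   [],
   [],
   [],
   [],
   [],
   [],
   [],
   [],
   [],
   [],
   [],
   [],
   [],
   [],
   [],
   [],
   [],
   [],
   [],
   [],
   [],
   [],
   [],
   [],
   [],
   [],
   [],
   [],
   [],
   [],
   [],
   [],
   [],
   [],
   [],
   [],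
   [],
   [],
   [],
   [],
   [],
   [],
   []]

theorem orbF_9 : orbChunkL [O0] [1, 23] clsF repsF 256 9 certsF_9 = true := by
  decide +kernel

def certsF_10 : List (List Nat) :=
  [[10, 1, 6, 7, 11, 4, 5, 15, 13, 14, 2, 0, 8, 18, 16, 12, 19, 20, 3, 17, 22, 21, 9, 23],
   [],
   [],
   [],
   [],
   [4, 1, 0, 18, 6, 10, 5, 7, 16, 19, 11, 2, 13, 17, 21, 20, 12, 14, 22, 15, 3, 8, 9, 23],
   [],
   [],
   [],
   [],
   [],
   [],
   [],
   [],
   [],
   [],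
   [],
   [0, 1, 5, 22, 2, 6, 11, 21, 7, 12, 10, 4, 8, 17, 20, 19, 3, 18, 15, 13, 16, 9, 14, 23],
   [],
   [],
   [],
   [],
   [],
   [],
   [],
   [],
   [],
   [],
   [],
   [],
   [],
   [],
   [],
   [],
   [],
   [],
   [],
   [],
   [],
   [],
   [],
   [],
   [],
   [],
   [10, 1, 4, 19, 5, 2, 6, 7, 18, 15, 11, 0, 21, 9, 8, 13, 3, 17, 14, 16, 12, 20, 22, 23],
   [],
   [],
   [],
   [],
   [],
   [],
   [],
   [],
   [],
   [],
   [],
   [],
   [],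
   [],
   [],
   [],
   [],
   [],
   [],
   [],
   [],
   [],
   [],
   [11, 1, 4, 17, 6, 5, 0, 3, 7, 15, 10, 2, 14, 22, 18, 12, 8, 16, 9, 20, 13, 19, 21, 23],
   [],
   [],
   [],
   [],
   [],
   [],
   [],
   [],
   [],
   [],
   [],
   [],
   [],
   [],
   [],
   [],
   [],
   [],
   [],
   [11, 1, 10, 14, 4, 5, 0, 17, 16, 19, 6, 2, 3, 15, 8, 18, 12, 20, 21, 7, 9, 22, 13, 23],
   [],
   [],
   [],
   [],
   [],
   [],
   [],
   [11, 1, 6, 16, 5, 0, 2, 13, 21, 19, 10, 4, 22, 3, 14, 9, 7, 15, 8, 17, 18, 20, 12, 23],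
   [],
   [],
   [],
   [],
   [],
   [],
   [],
   [],
   [],
   [],
   [],
   [],
   [],
   [],
   [],
   [],
   [],
   [],
   [],
   [],
   [],
   [],
   [],
   [],
   [],
   [],
   [],
   [],
   [],
   [],
   [],
   [11, 1, 2, 21, 5, 10, 4, 14, 8, 17, 6, 0, 18, 22, 3, 20, 19, 16, 12, 9, 13, 7, 15, 23],
   [],
   [],
   [],
   [],
   [],
   [],
   [],
   [10, 1, 6, 17, 11, 5, 2, 14, 8, 16, 4, 0, 3, 19, 15, 20, 9, 21, 13, 22, 7, 12, 18, 23],
   [],
   [],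
   [],
   [],
   [],
   [],
   [],
   [],
   [],
   [],
   [],
   [],
   [],
   [],
   [],
   [],
   [],
   [],
   [],
   [],
   [],
   [],
   [],
   [],
   [],
   [],
   [],
   [],
   [],
   [],
   [],
   [],
   [],
   [],
   [],
   [],
   [],
   [],
   [],
   [],
   [],
   [],
   [],
   [],
   [],
   [],
   [],
   [],
   [],
   [],
   [],
   [],
   [],
   [],
   [],
   [],
   [],
   [],
   [],
   [],
   [],
   [],
   [],
   [],
   [],
   [],
   [],
   [],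
   [],
   [],
   [],
   [],
   [],
   [],
   [],
   [],
   [],
   [],
   [],
   [],
   [],
   [],
   [],
   [],
   [],
   [],
   [],
   [],
   [],
   [],
   [],
   [],
   [],
   [],
   [],
   [],
   [],
   [],
   [],
   [],
   [],
   [],
   [],
   [],
   [],
   [],
   [],
   [],
   [],
   [],
   [],
   [],
   [],
   [],
   [],
   [],
   [],
   [],
   []]

theorem orbF_10 : orbChunkL [O0] [1, 23] clsF repsF 256 10 certsF_10 = true := by
  decide +kernel

def certsF_11 : List (List Nat) :=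
  [[10, 1, 11, 15, 2, 4, 5, 8, 17, 18, 6, 0, 7, 21, 12, 19, 16, 13, 22, 20, 9, 14, 3, 23],
   [],
   [],
   [],
   [],
   [],
   [],
   [],
   [],
   [],
   [],
   [],
   [],
   [],
   [],
   [],
   [],
   [],
   [],
   [],
   [],
   [],
   [],
   [],
   [],
   [],
   [],
   [],
   [],
   [],
   [],
   [],
   [],
   [],
   [],
   [],
   [],
   [],
   [],
   [],
   [],
   [],
   [],
   [],
   [],
   [],
   [],
   [],
   [10, 1, 5, 9, 2, 4, 6, 17, 19, 14, 11, 0, 12, 18, 3, 8, 13, 22, 16, 15, 20, 21, 7, 23],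
   [],
   [],
   [],
   [],
   [],
   [],
   [],
   [],
   [],
   [],
   [],
   [],
   [],
   [],
   [],
   [],
   [],
   [],
   [],
   [],
   [],
   [],
   [],
   [],
   [],
   [],
   [],
   [],
   [],
   [],
   [],
   [],
   [],
   [],
   [],
   [],
   [],
   [],
   [],
   [],
   [],
   [],
   [],
   [],
   [],
   [],
   [],
   [],
   [],
   [],
   [],
   [],
   [],
   [],
   [],
   [],
   [],
   [],
   [],
   [],
   [],
   [],
   [],
   [],
   [],
   [],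
   [],
   [],
   [],
   [],
   [],
   [],
   [],
   [],
   [],
   [],
   [],
   [],
   [],
   [],
   [],
   [],
   [],
   [],
   [],
   [],
   [],
   [],
   [],
   [],
   [],
   [],
   [],
   [],
   [],
   [],
   [],
   [],
   [],
   [],
   [],
   [],
   [],
   [],
   [],
   [],
   [],
   [],
   [],
   [],
   [],
   [],
   [],
   [],
   [],
   [],
   [],
   [],
   [],
   [],
   [],
   [],
   [],
   [],
   [],
   [],
   [],
   [],
   [],
   [],
   [],
   [],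
   [],
   [],
   [],
   [],
   [],
   [],
   [],
   [],
   [],
   [],
   [],
   [],
   [0, 1, 6, 8, 5, 10, 2, 19, 12, 14, 11, 4, 17, 18, 13, 16, 22, 3, 9, 7, 15, 21, 20, 23],
   [],
   [],
   [],
   [],
   [],
   [],
   [],
   [],
   [],
   [],
   [],
   [],
   [],
   [],
   [],
   [],
   [],
   [],
   [],
   [],
   [],
   [],
   [],
   [],
   [],
   [],
   [],
   [],
   [],
   [],
   [],
   [],
   [],
   [],
   [],
   [],
   [],
   [],
   [],
   [],
   [],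
   [],
   [],
   [],
   [],
   [],
   [],
   [],
   [],
   [],
   [],
   [],
   [],
   [],
   [],
   [],
   [],
   [],
   [],
   [],
   [],
   []]

theorem orbF_11 : orbChunkL [O0] [1, 23] clsF repsF 256 11 certsF_11 = true := by
  decide +kernel

def certsF_12 : List (List Nat) :=
  [[],
   [0, 1, 11, 9, 6, 5, 10, 22, 20, 8, 2, 4, 3, 15, 21, 18, 14, 13, 19, 17, 12, 7, 16, 23],
   [],
   [],
   [5, 1, 2, 22, 10, 11, 6, 8, 20, 17, 0, 4, 21, 18, 19, 14, 13, 15, 12, 9, 3, 16, 7, 23],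
   [],
   [],
   [],
   [],
   [],
   [],
   [],
   [],
   [],
   [],
   [],
   [11, 1, 6, 3, 0, 5, 10, 9, 21, 17, 2, 4, 22, 16, 12, 13, 15, 7, 8, 19, 20, 18, 14, 23],
   [],
   [],
   [],
   [],
   [],
   [],
   [],
   [],
   [],
   [],
   [],
   [],
   [],
   [],
   [],
   [6, 1, 11, 8, 10, 4, 5, 7, 16, 17, 2, 0, 15, 9, 22, 20, 18, 21, 14, 3, 13, 12, 19, 23],
   [],
   [],
   [],
   [],
   [],
   [],
   [],
   [6, 1, 11, 14, 5, 0, 10, 18, 22, 17, 2, 4, 21, 12, 16, 20, 7, 15, 8, 19, 13, 9, 3, 23],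
   [],
   [],
   [],
   [],
   [],
   [],
   [],
   [],
   [],
   [],
   [],
   [],
   [],
   [],
   [],
   [],
   [],
   [],
   [],
   [],
   [],
   [],
   [],
   [],
   [],
   [],
   [],
   [],
   [],
   [],
   [],
   [10, 1, 11, 19, 5, 6, 2, 21, 17, 13, 4, 0, 7, 8, 9, 15, 20, 18, 22, 16, 12, 3, 14, 23],
   [],
   [],
   [],
   [],
   [],
   [],
   [],
   [],
   [],
   [],
   [],
   [],
   [],
   [],
   [],
   [],
   [],
   [],
   [],
   [],
   [],
   [],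
   [],
   [],
   [],
   [],
   [],
   [],
   [],
   [],
   [],
   [],
   [],
   [],
   [],
   [],
   [],
   [],
   [],
   [],
   [],
   [],
   [],
   [],
   [0, 1, 2, 3, 4, 5, 6, 7, 8, 9, 10, 11, 12, 13, 14, 15, 16, 17, 18, 19, 20, 21, 22, 23],
   [],
   [],
   [],
   [],
   [],
   [],
   [],
   [],
   [],
   [],
   [],
   [],
   [],
   [],
   [11, 1, 0, 22, 5, 10, 6, 14, 8, 3, 4, 2, 12, 21, 17, 20, 13, 7, 18, 15, 19, 16, 9, 23],
   [],
   [],
   [],
   [],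
   [],
   [],
   [],
   [],
   [],
   [],
   [],
   [],
   [],
   [],
   [],
   [],
   [],
   [],
   [],
   [],
   [],
   [],
   [],
   [],
   [],
   [],
   [],
   [],
   [],
   [],
   [],
   [],
   [],
   [],
   [],
   [],
   [],
   [],
   [],
   [],
   [],
   [],
   [],
   [],
   [],
   [],
   [],
   [],
   [],
   [],
   [],
   [],
   [],
   [],
   [],
   [],
   [],
   [],
   [],
   [5, 1, 11, 20, 6, 10, 2, 15, 21, 16, 4, 0, 9, 12, 14, 17, 3, 8, 13, 22, 18, 19, 7, 23],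
   [],
   [],
   [],
   [],
   [],
   [],
   [],
   [],
   [],
   [],
   [],
   [],
   [],
   [],
   [],
   [],
   [],
   [],
   [],
   [],
   [],
   [],
   [],
   [],
   [],
   [],
   [],
   [],
   [],
   [],
   [],
   [],
   [],
   [],
   [],
   [],
   [],
   [],
   [],
   [],
   [],
   [],
   [],
   [],
   [],
   [],
   [],
   [],
   [],
   [],
   [],
   [],
   [],
   [],
   [],
   [],
   [],
   [],
   [],
   [],
   [],
   [],
   []]

theorem orbF_12 : orbChunkL [O0] [1, 23] clsF repsF 256 12 certsF_12 = true := by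
  decide +kernel

def certsF_13 : List (List Nat) :=
  [[],
   [2, 1, 6, 9, 11, 5, 10, 22, 15, 21, 0, 4, 3, 20, 8, 19, 17, 16, 18, 14, 7, 12, 13, 23],
   [],
   [],
   [],
   [],
   [],
   [],
   [],
   [],
   [],
   [],
   [],
   [],
   [],
   [],
   [],
   [],
   [],
   [],
   [],
   [],
   [],
   [],
   [],
   [],
   [],
   [],
   [],
   [],
   [],
   [],
   [],
   [],
   [],
   [],
   [],
   [],
   [],
   [],
   [],
   [],
   [],
   [],
   [],
   [],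
   [],
   [],
   [],
   [],
   [],
   [],
   [],
   [],
   [],
   [],
   [],
   [],
   [],
   [],
   [],
   [],
   [],
   [],
   [5, 1, 10, 20, 6, 11, 4, 3, 12, 13, 2, 0, 19, 21, 8, 7, 15, 14, 16, 22, 18, 9, 17, 23],
   [],
   [],
   [],
   [],
   [],
   [],
   [],
   [],
   [],
   [],
   [],
   [],
   [],
   [],
   [],
   [],
   [],
   [],
   [],
   [],
   [],
   [],
   [],
   [],
   [],
   [],
   [],
   [],
   [],
   [],
   [],
   [],
   [],
   [],
   [],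
   [],
   [],
   [],
   [],
   [],
   [],
   [],
   [],
   [],
   [],
   [],
   [],
   [],
   [],
   [],
   [],
   [],
   [],
   [],
   [],
   [],
   [],
   [],
   [],
   [],
   [],
   [],
   [],
   [],
   [],
   [],
   [],
   [],
   [],
   [],
   [],
   [],
   [],
   [],
   [],
   [],
   [],
   [],
   [],
   [],
   [],
   [],
   [],
   [],
   [],
   [],
   [],
   [5, 1, 10, 15, 4, 6, 11, 14, 19, 18, 2, 0, 16, 22, 21, 13, 9, 17, 12, 8, 7, 20, 3, 23],
   [],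
   [],
   [],
   [],
   [],
   [],
   [],
   [],
   [],
   [],
   [],
   [],
   [],
   [],
   [],
   [],
   [],
   [],
   [],
   [],
   [],
   [],
   [],
   [],
   [],
   [],
   [],
   [],
   [],
   [],
   [],
   [],
   [],
   [],
   [],
   [],
   [],
   [],
   [],
   [],
   [],
   [],
   [],
   [],
   [],
   [],
   [],
   [],
   [],
   [],
   [],
   [],
   [],
   [],
   [],
   [],
   [],
   [],
   [],
   [],
   [],
   [],
   [],
   [],
   [],
   [],
   [],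
   [],
   [],
   [],
   [],
   [],
   [],
   [],
   [],
   [],
   [],
   [],
   [],
   [],
   [],
   [],
   [],
   [],
   [],
   [],
   [],
   [],
   [],
   [],
   [],
   [],
   [],
   [],
   [],
   [],
   [],
   [],
   [],
   [],
   [],
   [],
   []]

theorem orbF_13 : orbChunkL [O0] [1, 23] clsF repsF 256 13 certsF_13 = true := by
  decide +kernel

def certsF_14 : List (List Nat) :=
  [[],
   [],
   [],
   [],
   [],
   [],
   [],
   [],
   [],
   [4, 1, 10, 15, 5, 11, 6, 16, 18, 19, 2, 0, 14, 3, 12, 17, 9, 13, 21, 7, 8, 20, 22, 23],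
   [],
   [],
   [],
   [],
   [],
   [],
   [5, 1, 11, 8, 4, 10, 6, 3, 9, 19, 2, 0, 13, 16, 20, 22, 18, 14, 21, 7, 15, 12, 17, 23],
   [],
   [],
   [],
   [],
   [],
   [],
   [],
   [],
   [],
   [],
   [],
   [],
   [],
   [],
   [],
   [],
   [],
   [],
   [],
   [],
   [],
   [],
   [],
   [],
   [],
   [],
   [],
   [],
   [],
   [],
   [],
   [],
   [],
   [],
   [],
   [],
   [],
   [],
   [],
   [],
   [],
   [],
   [],
   [],
   [],
   [],
   [],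
   [],
   [],
   [],
   [],
   [],
   [],
   [],
   [],
   [],
   [],
   [],
   [],
   [],
   [],
   [],
   [],
   [],
   [],
   [],
   [],
   [],
   [],
   [],
   [],
   [],
   [],
   [],
   [],
   [],
   [],
   [],
   [],
   [],
   [],
   [],
   [],
   [],
   [],
   [],
   [],
   [],
   [],
   [],
   [],
   [],
   [],
   [],
   [],
   [],
   [],
   [],
   [],
   [],
   [],
   [],
   [],
   [],
   [],
   [],
   [],
   [],
   [],
   [],
   [],
   [],
   [],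
   [],
   [],
   [],
   [],
   [],
   [],
   [],
   [],
   [],
   [],
   [],
   [],
   [],
   [],
   [],
   [],
   [],
   [],
   [],
   [],
   [],
   [],
   [],
   [],
   [],
   [],
   [],
   [],
   [],
   [],
   [10, 1, 6, 7, 11, 4, 5, 15, 13, 14, 2, 0, 8, 18, 16, 12, 19, 20, 3, 17, 22, 21, 9, 23],
   [],
   [],
   [],
   [],
   [],
   [],
   [],
   [],
   [],
   [],
   [],
   [],
   [],
   [],
   [],
   [],
   [],
   [],
   [],
   [],
   [],
   [],
   [],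
   [],
   [],
   [],
   [],
   [],
   [],
   [],
   [],
   [],
   [],
   [],
   [],
   [],
   [],
   [],
   [],
   [],
   [],
   [],
   [],
   [],
   [],
   [],
   [],
   [],
   [],
   [],
   [],
   [],
   [],
   [],
   [],
   [],
   [],
   [],
   [],
   [],
   [],
   [],
   [],
   [],
   [],
   [],
   [],
   [],
   [],
   [],
   [],
   [],
   [],
   [],
   [],
   [],
   [],
   [],
   [],
   [],
   [],
   [],
   [],
   [],
   [],
   [],
   [],
   [],
   [],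
   [],
   [],
   [],
   [],
   [],
   []]

theorem orbF_14 : orbChunkL [O0] [1, 23] clsF repsF 256 14 certsF_14 = true := by
  decide +kernel

def certsF_15 : List (List Nat) :=
  [[],
   [],
   [],
   [],
   [10, 1, 2, 13, 6, 5, 11, 21, 15, 19, 4, 0, 9, 12, 7, 17, 22, 18, 20, 3, 8, 16, 14, 23],
   [],
   [],
   [],
   [],
   [],
   [],
   [],
   [],
   [],
   [],
   [],
   [],
   [],
   [],
   [],
   [],
   [],
   [],
   [],
   [],
   [],
   [],
   [],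
   [],
   [],
   [],
   [],
   [],
   [],
   [],
   [],
   [],
   [],
   [],
   [],
   [],
   [],
   [],
   [],
   [],
   [],
   [],
   [],
   [],
   [],
   [],
   [],
   [],
   [],
   [],
   [],
   [],
   [],
   [],
   [],
   [],
   [],
   [],
   [],
   [],
   [],
   [],
   [],
   [],
   [],
   [],
   [],
   [],
   [],
   [],
   [],
   [],
   [],
   [],
   [],
   [],
   [],
   [],
   [],
   [],
   [],
   [],
   [],
   [],
   [],
   [],
   [],
   [],
   [],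
   [],
   [],
   [],
   [],
   [],
   [],
   [],
   [],
   [],
   [],
   [],
   [],
   [],
   [],
   [],
   [],
   [],
   [],
   [],
   [],
   [],
   [],
   [],
   [],
   [],
   [],
   [],
   [],
   [],
   [],
   [],
   [],
   [],
   [],
   [],
   [],
   [],
   [],
   [],
   [],
   [],
   [],
   [],
   [],
   [],
   [],
   [],
   [],
   [],
   [],
   [],
   [],
   [],
   [],
   [],
   [],
   [],
   [],
   [],
   [],
   [],
   [],
   [],
   [],
   [],
   [],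
   [],
   [],
   [],
   [],
   [],
   [],
   [],
   [],
   [],
   [],
   [],
   [],
   [],
   [],
   [],
   [],
   [],
   [],
   [],
   [],
   [],
   [],
   [],
   [],
   [],
   [],
   [],
   [],
   [],
   [],
   [],
   [],
   [],
   [],
   [],
   [],
   [],
   [],
   [],
   [],
   [],
   [],
   [],
   [],
   [],
   [],
   [],
   [],
   [],
   [],
   [],
   [],
   [],
   [],
   [],
   [],
   [],
   [],
   [],
   [],
   [],
   [],
   [],
   [],
   [],
   [],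
   [],
   [],
   [],
   [],
   [],
   [],
   [],
   [],
   [],
   [],
   [],
   [],
   [],
   [],
   [],
   [],
   [],
   [],
   [],
   [],
   [],
   [],
   [],
   [],
   [],
   [],
   [],
   [],
   [],
   []]

theorem orbF_15 : orbChunkL [O0] [1, 23] clsF repsF 256 15 certsF_15 = true := by
  decide +kernel

theorem orbF : OrbOK [O0] [1, 23] clsF repsF := by
  refine orbOK_of_chunks (by simp) fun k hk => ?_
  interval_cases k
  · exact ⟨certsF_0, orbF_0⟩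
  · exact ⟨certsF_1, orbF_1⟩
  · exact ⟨certsF_2, orbF_2⟩
  · exact ⟨certsF_3, orbF_3⟩
  · exact ⟨certsF_4, orbF_4⟩
  · exact ⟨certsF_5, orbF_5⟩
  · exact ⟨certsF_6, orbF_6⟩
  · exact ⟨certsF_7, orbF_7⟩
  · exact ⟨certsF_8, orbF_8⟩
  · exact ⟨certsF_9, orbF_9⟩
  · exact ⟨certsF_10, orbF_10⟩
  · exact ⟨certsF_11, orbF_11⟩
  · exact ⟨certsF_12, orbF_12⟩
  · exact ⟨certsF_13, orbF_13⟩
  · exact ⟨certsF_14, orbF_14⟩
  · exact ⟨certsF_15, orbF_15⟩

end Golay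
end Cfsg.Agent.Helper28
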