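import Mathlib
import Cfsg.Agent.Helper28.Hist

set_option autoImplicit false

namespace Cfsg.Agent.Helper28

/-- table lookup with a default -/
def lookupD {κ : Type} (tbl : List (Nat × κ)) (d : κ) (v : Nat) : κ :=
  match tbl with
  | [] => d
  | (w, r) :: t => bif Nat.beq v w then r else lookupD t d v

theorem lookupD_mem {κ : Type} (P : κ → Prop) : ∀ (tbl : List (Nat × κ)) (d : κ), P d →
    (∀ e ∈ tbl, P e.2) → ∀ v : Nat, P (lookupD tbl d v)
  | [], d, hd, _, v => hd
  | (w, r) :: t, d, hd, h, v => by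
    rw [lookupD]
    cases Nat.beq v w
    · exact lookupD_mem P t d hd (fun e he => h e (List.mem_cons_of_mem _ he)) v
    · exact h (w, r) List.mem_cons_self

namespace Golay

open Cfsg
open scoped Pointwise

/-! ### Certificates for the three families -/

open Classical in
theorem trio_family_cert {A : Type} [MulAction (Equiv.Perm GolayPt) A] (x0 : A)
    (X0 : Finset (Finset GolayPt)) (Lx : List Nat) (hLx : Presents Lx X0)
    (repc : ℕ → Nat × Nat) (hrep : ∀ v, repc v ∈ trioL)
    (hz : ∀ p ∈ trioL, ∃ T : List Nat, inM24 T = true ∧ permOf T • x0 = x0 ∧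
      imgTrio T p (repc (histM Lx [p.1, p.2, 16777215 ^^^ p.1 ^^^ p.2])) = true) :
    (∀ X ∈ trios, ∃ g ∈ M24, g • x0 = x0 ∧ g • X = trioM (repc (hist X0 X))) ∧
    (∀ v, {X | X ∈ trios ∧ hist X0 X = v}.ncard =
      (trioL.filter fun p => Nat.beq (histM Lx [p.1, p.2, 16777215 ^^^ p.1 ^^^ p.2]) v).length) := by
  have hcls : ∀ p ∈ trioL,
      hist X0 (trioM p) = histM Lx [p.1, p.2, 16777215 ^^^ p.1 ^^^ p.2] := by
    rintro ⟨a, b⟩ hp
    exact hist_eq hLx (presents_trio hp)
  constructor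
  · refine cert_sound trios trioL trioM (fun X hX => trio_param hX) x0 (hist X0)
      (fun p => histM Lx [p.1, p.2, 16777215 ^^^ p.1 ^^^ p.2]) hcls repc
      (fun p T => decide (inM24 T = true ∧ permOf T • x0 = x0 ∧
        imgTrio T p (repc (histM Lx [p.1, p.2, 16777215 ^^^ p.1 ^^^ p.2])) = true)) ?_ ?_
    · intro p hp T hT
      obtain ⟨h1, h2, h3⟩ := of_decide_eq_true hT
      exact ⟨permOf_mem_M24 h1, h2, imgTrio_sound (isPerm_of_inM24 h1) hp (hrep _) h3⟩
    · intro p hp
      obtain ⟨T, hT⟩ := hz p hp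
      exact ⟨T, decide_eq_true hT⟩
  · intro v
    refine ncard_trio _ _ fun p hp => ?_
    rw [hcls p hp, nbeq_iff]

open Classical in
theorem sext_family_cert {A : Type} [MulAction (Equiv.Perm GolayPt) A] (x0 : A)
    (X0 : Finset (Finset GolayPt)) (Lx : List Nat) (hLx : Presents Lx X0)
    (repc : ℕ → Nat) (hrep : ∀ v, wt (repc v) = 4 ∧ repc v < 2 ^ 24)
    (hz : ∀ m ∈ tetL, ∃ T : List Nat, inM24 T = true ∧ permOf T • x0 = x0 ∧
      inSext (repc (histM Lx (sextM m))) (permMask (tf T) m) = true) :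
    (∀ X ∈ sextets, ∃ g ∈ M24, g • x0 = x0 ∧ g • X = sextOf (toSet (repc (hist X0 X)))) ∧
    (∀ v, {X | X ∈ sextets ∧ hist X0 X = v}.ncard =
      (tetL.filter fun m => Nat.beq (histM Lx (sextM m)) v).length) := by
  have hcls : ∀ m ∈ tetL, hist X0 (sextOf (toSet m)) = histM Lx (sextM m) := by
    intro m hm
    exact hist_eq hLx (presents_sext (tetL_spec hm).1 (tetL_spec hm).2.2)
  constructor
  · refine cert_sound sextets tetL (fun m => sextOf (toSet m)) (fun X hX => sext_dec hX) x0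
      (hist X0) (fun m => histM Lx (sextM m)) hcls repc
      (fun m T => decide (inM24 T = true ∧ permOf T • x0 = x0 ∧
        inSext (repc (histM Lx (sextM m))) (permMask (tf T) m) = true)) ?_ ?_
    · intro m hm T hT
      obtain ⟨h1, h2, h3⟩ := of_decide_eq_true hT
      exact ⟨permOf_mem_M24 h1, h2,
        imgSext_sound h1 (tetL_spec hm).1 (hrep _).1 (hrep _).2 h3⟩
    · intro m hm
      obtain ⟨T, hT⟩ := hz m hm
      exact ⟨T, decide_eq_true hT⟩
  · intro v
    refine ncard_sext _ _ fun m hm => ?_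
    rw [hcls m hm, nbeq_iff]

open Classical in
theorem oct_family_cert {A : Type} [MulAction (Equiv.Perm GolayPt) A] (x0 : A)
    (X0 : Finset (Finset GolayPt)) (Lx : List Nat) (hLx : Presents Lx X0)
    (repc : ℕ → Nat)
    (hz : ∀ o ∈ octL, ∃ T : List Nat, inM24 T = true ∧ permOf T • x0 = x0 ∧
      Nat.beq (permMask (tf T) o) (repc (histM Lx [o])) = true) :
    (∀ o ∈ octads, ∃ g ∈ M24, g • x0 = x0 ∧ g • o = toSet (repc (hist X0 {o}))) ∧
    (∀ v, {o | o ∈ octads ∧ hist X0 {o} = v}.ncard =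
      (octL.filter fun o => Nat.beq (histM Lx [o]) v).length) := by
  have hcls : ∀ c ∈ octL, hist X0 {toSet c} = histM Lx [c] := by
    intro c _
    exact hist_eq hLx (presents_single c)
  constructor
  · refine cert_sound octads octL toSet (fun X hX => oct_dec hX) x0
      (fun o => hist X0 {o}) (fun o => histM Lx [o]) hcls repc
      (fun o T => decide (inM24 T = true ∧ permOf T • x0 = x0 ∧
        Nat.beq (permMask (tf T) o) (repc (histM Lx [o])) = true)) ?_ ?_
    · intro o ho T hT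
      obtain ⟨h1, h2, h3⟩ := of_decide_eq_true hT
      exact ⟨permOf_mem_M24 h1, h2, imgOct_sound (isPerm_of_inM24 h1) h3⟩
    · intro o ho
      obtain ⟨T, hT⟩ := hz o ho
      exact ⟨T, decide_eq_true hT⟩
  · intro v
    refine ncard_oct _ _ fun c hc => ?_
    rw [hcls c hc, nbeq_iff]

/-! ### Stabiliser tests -/

theorem stab_oct_sound (O : Nat) (T : List Nat)
    (h : (inM24 T && Nat.beq (permMask (tf T) O) O) = true) :
    inM24 T = true ∧ permOf T • toSet O = toSet O := by
  rw [Bool.and_eq_true] at h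
  exact ⟨h.1, imgOct_sound (isPerm_of_inM24 h.1) h.2⟩

theorem stab_sext_sound {m0 : Nat} (h4 : wt m0 = 4) (hlt : m0 < 2 ^ 24) (T : List Nat)
    (h : (inM24 T && inSext m0 (permMask (tf T) m0)) = true) :
    inM24 T = true ∧ permOf T • sextOf (toSet m0) = sextOf (toSet m0) := by
  rw [Bool.and_eq_true] at h
  exact ⟨h.1, imgSext_sound h.1 h4 h4 hlt h.2⟩

theorem stab_trio_sound {p0 : Nat × Nat} (hp0 : p0 ∈ trioL) (T : List Nat)
    (h : (inM24 T && imgTrio T p0 p0) = true) :
    inM24 T = true ∧ permOf T • trioM p0 = trioM p0 := by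
  rw [Bool.and_eq_true] at h
  exact ⟨h.1, imgTrio_sound (isPerm_of_inM24 h.1) hp0 hp0 h.2⟩

theorem stab_pair_sound (d0 : Nat) (T : List Nat)
    (h : (inM24 T && stabPair d0 T) = true) :
    inM24 T = true ∧ permOf T • ({toSet d0, Finset.univ \ toSet d0} : Finset (Finset GolayPt)) =
      {toSet d0, Finset.univ \ toSet d0} := by
  rw [Bool.and_eq_true] at h
  exact ⟨h.1, stabPair_sound (isPerm_of_inM24 h.1) h.2⟩

end Golay
end Cfsg.Agent.Helper28
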