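import Mathlib
import Cfsg.Prelude.Def_Spor_Mathieu
import Cfsg.Agent.Helper28.AutGen2

set_option autoImplicit false

namespace Cfsg.Agent.Helper28
namespace Golay

open Cfsg
open scoped Pointwise

/-! ### The automorphisms of the stabiliser of the dodecad of squares -/

theorem M12_eq : Spor.M12 = GS [d0] [] := by
  ext σ
  rw [Spor.M12, Subgroup.mem_inf, MulAction.mem_stabilizer_iff, mem_GS, ← toSet_d0]
  constructor
  · rintro ⟨h1, h2⟩
    refine ⟨h1, fun m hm => ?_, fun i hi => absurd hi List.not_mem_nil⟩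
    rw [List.mem_singleton] at hm
    subst hm
    exact h2
  · rintro ⟨h1, h2, -⟩
    exact ⟨h1, h2 d0 (by simp)⟩

theorem card_M12 : Nat.card ↥Spor.M12 = 95040 := by
  rw [M12_eq]
  exact card_GS12

theorem M12_le : Spor.M12 ≤ M24 := by
  rw [M12_eq]
  exact fun σ h => (mem_GS.1 h).1

theorem M12_smul {σ : Equiv.Perm GolayPt} (h : σ ∈ Spor.M12) : σ • toSet d0 = toSet d0 := by
  rw [M12_eq] at h
  exact (mem_GS.1 h).2.1 d0 (by simp)

/-- the involution commuting with the twist -/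
def tau12T : List Nat := [3, 12, 13, 0, 16, 19, 9, 11, 18, 6, 17, 7, 1, 2, 20, 23, 4, 10, 8, 5, 14, 22, 21, 15]

theorem gens12_in : inGS [d0] [] dbT = true ∧ inGS [d0] [] twT = true ∧
    inGS [d0] [] tau12T = true := by decide +kernel

theorem tau12_perm : isPerm tau12T = true :=
  isPerm_of_inM24 (permOf_mem_GS (by simp) gens12_in.2.2).1

theorem db_mem12 : permOf dbT ∈ Spor.M12 := by
  rw [M12_eq]
  exact (permOf_mem_GS (by simp) gens12_in.1).2

theorem tw_mem12 : permOf twT ∈ Spor.M12 := by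
  rw [M12_eq]
  exact (permOf_mem_GS (by simp) gens12_in.2.1).2

theorem tau_mem12 : permOf tau12T ∈ Spor.M12 := by
  rw [M12_eq]
  exact (permOf_mem_GS (by simp) gens12_in.2.2).2

theorem rel_tau12 : comp tau12T twT = comp (tpow twT 1) tau12T := by decide +kernel

/-- the centraliser of the twist -/
def CL12 : List (List Nat) :=
  [[0, 1, 2, 3, 4, 5, 6, 7, 8, 9, 10, 11, 12, 13, 14, 15, 16, 17, 18, 19, 20, 21, 22, 23],
   [0, 2, 18, 3, 1, 10, 4, 20, 9, 16, 21, 14, 13, 8, 19, 15, 12, 22, 6, 17, 5, 7, 11, 23],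
   [0, 4, 1, 3, 6, 20, 18, 21, 13, 8, 5, 22, 16, 12, 11, 15, 9, 19, 2, 14, 7, 10, 17, 23],
   [0, 6, 4, 3, 18, 7, 2, 10, 12, 13, 20, 17, 9, 16, 22, 15, 8, 14, 1, 11, 21, 5, 19, 23],
   [0, 18, 6, 3, 2, 21, 1, 5, 16, 12, 7, 19, 8, 9, 17, 15, 13, 11, 4, 22, 10, 20, 14, 23],
   [3, 8, 9, 0, 13, 22, 12, 19, 4, 1, 11, 5, 18, 6, 10, 23, 2, 7, 16, 21, 17, 14, 20, 15],
   [3, 9, 16, 0, 8, 11, 13, 17, 1, 2, 14, 10, 6, 4, 21, 23, 18, 20, 12, 7, 22, 19, 5, 15],
   [3, 12, 13, 0, 16, 19, 9, 11, 18, 6, 17, 7, 1, 2, 20, 23, 4, 10, 8, 5, 14, 22, 21, 15],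
   [3, 13, 8, 0, 12, 17, 16, 14, 6, 4, 22, 20, 2, 18, 5, 23, 1, 21, 9, 10, 19, 11, 7, 15],
   [3, 16, 12, 0, 9, 14, 8, 22, 2, 18, 19, 21, 4, 1, 7, 23, 6, 5, 13, 20, 11, 17, 10, 15]]

theorem CL12_perm : CL12.all isPerm = true := by decide +kernel

theorem filt12 : (CLtw.all fun Z => !(Nat.beq (permMask (tf Z) d0) d0) || CL12.contains Z) = true := by
  decide +kernel

theorem rel12_tab : tpow (wordT [dbT, twT, tau12T] [0, 0, 2, 0, 1, 2, 2]) 6 = idT := by decide +kernel

theorem final12 : (CL12.all fun Z =>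
    !(tpow (wordT [dbT, twT, comp tau12T Z] [0, 0, 2, 0, 1, 2, 2]) 6 == idT) || Z == idT) = true := by
  decide +kernel

/-- a straight-line program for the stabiliser of the dodecad -/
def prog12g : List (Nat × Nat) :=
  [(0, 0), (0, 3), (3, 3), (5, 5), (4, 6), (0, 2), (0, 8), (1, 8), (2, 8), (1, 9), (0, 10), (1, 10), (0, 12), (0, 13), (2, 13), (1, 1), (1, 18), (1, 19), (19, 0), (20, 21), (22, 1), (22, 18), (22, 20), (1, 23), (1, 24), (22, 24), (22, 22), (22, 29), (22, 30), (8, 8), (32, 32), (33, 33), (32, 34), (8, 22), (36, 0), (35, 37), (8, 0), (39, 0), (40, 1), (41, 1), (25, 25), (43, 43), (42, 0), (45, 1), (46, 0), (47, 22), (35, 48), (48, 1), (35, 50), (50, 0), (52, 22), (35, 53), (53, 0), (55, 1), (56, 22), (57, 0), (35, 58), (52, 0), (35, 60), (60, 1), (35, 62), (54, 54), (62, 0), (65, 22), (66, 1), (67, 2), (10, 10), (69, 69), (10, 70), (71, 68), (64, 72), (73, 29), (73, 30), (22, 74), (73, 74), (22, 75), (73, 73), (73, 79), (68, 1), (71, 81),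 (44, 82), (22, 83), (84, 80), (73, 84), (84, 84), (84, 85), (81, 1), (71, 89), (1, 90), (30, 91), (79, 92), (93, 93), (93, 94), (89, 1), (71, 96), (51, 97), (75, 75), (75, 99), (100, 98), (96, 22), (71, 102), (51, 103), (76, 76), (76, 105), (106, 104), (101, 107), (108, 93), (108, 94), (108, 95), (102, 108), (112, 2), (113, 1), (114, 1), (115, 73), (116, 1), (117, 108), (118, 1), (38, 119), (106, 120), (119, 0), (74, 74), (74, 123), (123, 123), (124, 125), (122, 1), (78, 78), (78, 128), (127, 93), (130, 108), (131, 84), (132, 73), (133, 93), (134, 93), (135, 73), (136, 22), (137, 1), (138, 2), (17, 17), (140, 140), (139, 1), (142, 1), (143, 22), (144, 108), (145, 93), (146, 73), (147, 93), (141, 148), (44, 149), (30, 150), (148, 22), (152, 1), (153, 1), (154, 108), (155, 84), (156, 2), (14, 14), (14, 158), (158, 158), (159, 160), (157, 73), (161, 162), (20, 163), (129, 164), (162, 2), (166, 93), (167, 84), (168, 0), (71, 169), (49, 170), (22, 171),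 (169, 1), (173, 108), (174, 73), (175, 73), (176, 73), (177, 93), (178, 93), (179, 1), (180, 1), (181, 22), (182, 93), (183, 1), (184, 0), (185, 22), (186, 93), (187, 22), (71, 188), (64, 189), (126, 190), (188, 84), (192, 73), (71, 193), (64, 194), (10, 19), (196, 22), (13, 20), (198, 31), (199, 84), (200, 108), (2, 26), (202, 87), (203, 109), (16, 1), (205, 74), (206, 94), (37, 79), (12, 26), (209, 78), (210, 84), (211, 109), (11, 20), (213, 30), (214, 86), (215, 109), (9, 27), (217, 109), (17, 25), (219, 30), (220, 85), (221, 94), (15, 23), (223, 77), (224, 88), (225, 95), (14, 19), (227, 31), (228, 73), (229, 95), (51, 80), (231, 93), (28, 74), (233, 79), (234, 95), (18, 76), (236, 88), (237, 93), (59, 85), (239, 95), (63, 85), (27, 78), (242, 73), (243, 94), (23, 78), (245, 84), (246, 108), (61, 86), (248, 95), (25, 77), (250, 85), (251, 108), (1, 75), (253, 88), (254, 108), (75, 108), (22, 85), (257, 95), (30, 84), (259, 109), (83, 95), (77, 85),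 (262, 111), (78, 80), (264, 108), (29, 94), (76, 84), (267, 111), (79, 108), (84, 95), (86, 94)]

set_option maxRecDepth 100000 in
theorem slp12g : (targets12.all fun T => (slpRun prog12g [dbT, twT, tau12T]).contains T) = true := by
  decide +kernel

theorem gen12 : Spor.M12 ≤ Subgroup.closure {σ | ∃ T ∈ [dbT, twT, tau12T], σ = permOf T} := by
  have ht := slp_closure [dbT, twT, tau12T] (perm3 db_perm tw_perm tau12_perm) prog12g targets12
    slp12g
  rw [M12_eq]
  exact chain_le [d0] _ ch12 [] lv12 fin12 fun lv hlv T hT =>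
    ht T (List.mem_flatMap.2 ⟨lv, hlv, hT⟩)

theorem cent_tw12 : ∀ z ∈ Spor.M12, z * permOf twT = permOf twT * z →
    ∃ Z ∈ CL12, isPerm Z = true ∧ z = permOf Z := by
  intro z hz e
  obtain ⟨Z, hZ, hZp, eZ, hm⟩ := cent_tw_D z (M12_le hz) (M12_smul hz) e
  have hf := List.all_eq_true.1 filt12 Z hZ
  rw [hm] at hf
  simp only [Bool.not_true, Bool.false_or, List.contains_eq_mem, decide_eq_true_eq] at hf
  exact ⟨Z, hf, hZp, eZ⟩

/-- an automorphism fixing the doubling map and the twist is trivial -/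
theorem aut12_fix (ψ : MulAut ↥Spor.M12)
    (htw : ψ (mkE Spor.M12 twT tw_mem12) = mkE Spor.M12 twT tw_mem12)
    (hdb : ((ψ (mkE Spor.M12 dbT db_mem12) : ↥Spor.M12) : Equiv.Perm GolayPt) = permOf dbT) :
    ∀ y, ψ y = y := by
  obtain ⟨Z, hZ, hZp, eZ⟩ := autC 1 tw_perm tau12_perm tw_mem12 tau_mem12 permOf_twi _ cent_tw12
    rel_tau12 ψ (Or.inl (by rw [htw]; rfl))
  have hX := isPerm_comp tau12_perm hZp
  have hr := rel_transfer ψ (gen3 (mkE Spor.M12 dbT db_mem12) (mkE Spor.M12 twT tw_mem12)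
    (mkE Spor.M12 tau12T tau_mem12)) [dbT, twT, tau12T] [dbT, twT, comp tau12T Z]
    (perm3 db_perm tw_perm tau12_perm) (perm3 db_perm tw_perm hX)
    (val_gen3 _ _ _ _ _ _ rfl rfl rfl)
    (val_map_gen3 ψ _ _ _ _ _ _ hdb (by rw [htw]; rfl) eZ) [0, 0, 2, 0, 1, 2, 2] 5 rel12_tab
  have hf := List.all_eq_true.1 final12 Z hZ
  rw [hr] at hf
  simp only [beq_self_eq_true, Bool.not_true, Bool.false_or, beq_iff_eq] at hf
  subst hf
  refine aut_id_of_closure [dbT, twT, tau12T] (by
    intro T hT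
    simp only [List.mem_cons, List.not_mem_nil, or_false] at hT
    rcases hT with rfl | rfl | rfl
    · exact db_mem12
    · exact tw_mem12
    · exact tau_mem12) gen12 ψ ?_
  intro T hT
  simp only [List.mem_cons, List.not_mem_nil, or_false] at hT
  rcases hT with rfl | rfl | rfl
  · exact Subtype.ext hdb
  · exact htw
  · apply Subtype.ext
    rw [eZ, ← permOf_mul tau12_perm isPerm_idT]
    show permOf tau12T * permOf idT = permOf tau12T
    rw [permOf_idT, mul_one]

theorem pj_invol' : comp pjT pjT = idT := by decide +kernel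

theorem pj_inv' : (permOf pjT)⁻¹ = permOf pjT := by
  have h := permOf_mul pj_perm pj_perm
  rw [pj_invol', permOf_idT] at h
  exact inv_eq_of_mul_eq_one_left h

theorem pj_d0 : permMask (tf pjT) d0 = 16436384 ∧ permMask (tf pjT) 16436384 = d0 := by
  decide +kernel

theorem compl_d0' : toSet 16436384 = Finset.univ \ toSet d0 := by decide +kernel

theorem ne_d0' : toSet 16436384 ≠ toSet d0 := by decide +kernel

theorem pj_norm12 : ∀ y ∈ Spor.M12, permOf pjT * y * (permOf pjT)⁻¹ ∈ Spor.M12 := by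
  intro y hy
  have hD := M12_smul hy
  rw [M12_eq, mem_GS]
  have hx := permOf_mem_M24 in_pjT
  refine ⟨M24.mul_mem (M24.mul_mem hx (M12_le hy)) (M24.inv_mem hx), fun m hm => ?_,
    fun i hi => absurd hi List.not_mem_nil⟩
  rw [List.mem_singleton] at hm
  subst hm
  rw [pj_inv', mul_smul, mul_smul, smul_toSet_permOf pj_perm, pj_d0.1, compl_d0',
    Finset.smul_finset_sdiff, Finset.smul_finset_univ, hD, ← compl_d0',
    smul_toSet_permOf pj_perm, pj_d0.2]

theorem pj_norm12' : ∀ y ∈ Spor.M12, (permOf pjT)⁻¹ * y * permOf pjT ∈ Spor.M12 := by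
  intro y hy
  have h := pj_norm12 y hy
  rw [pj_inv'] at h ⊢
  exact h

/-- the automorphism induced by the inversion -/
noncomputable def xi12 : MulAut ↥Spor.M12 :=
  conjRestr Spor.M12 (permOf pjT) pj_norm12 pj_norm12'

theorem pj_db' : comp pjT (tpow dbT 10) = comp dbT pjT := by decide +kernel

theorem hp12 : ¬ 11 ^ 2 ∣ Nat.card ↥Spor.M12 := by
  rw [card_M12]
  norm_num

theorem aut12 (α : MulAut ↥Spor.M12) : α ∈ Inn ↥Spor.M12 ∨ xi12 * α ∈ Inn ↥Spor.M12 := by
  obtain ⟨g, h1, h2⟩ := autAB11 M12_le hp12 db_mem12 tw_mem12 α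
  rcases h2 with h2 | h2
  · left
    exact inn_of_conj_id g α (aut12_fix _ h1 h2)
  · right
    have h0 : (((xi12 * (MulAut.conj g * α)) (mkE Spor.M12 dbT db_mem12) : ↥Spor.M12) :
        Equiv.Perm GolayPt) = permOf dbT := by
      show permOf pjT * (((MulAut.conj g * α) (mkE Spor.M12 dbT db_mem12) : ↥Spor.M12) :
        Equiv.Perm GolayPt) * (permOf pjT)⁻¹ = permOf dbT
      rw [h2, permOf_mul pj_perm (tpow_perm db_perm 10), pj_db', ← permOf_mul db_perm pj_perm,
        mul_inv_cancel_right]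
    obtain ⟨i, hi⟩ := autB 11 3 db_perm tw_perm db_mem12 tw_mem12 permOf_dbi'
      (fun z hz e => cent_db z (M12_le hz) e) rel_du_tab chkB11 (xi12 * (MulAut.conj g * α))
      (Or.inl h0)
    have hk := conj_pow_keep1 db_perm db_mem12 i _ h0
    exact inn_of_twist xi12 α g (mkE Spor.M12 dbT db_mem12 ^ i)
      (aut12_fix (MulAut.conj (mkE Spor.M12 dbT db_mem12 ^ i) * (xi12 * (MulAut.conj g * α)))
        hi hk)

theorem xi12_not_inn : xi12 ∉ Inn ↥Spor.M12 := by
  rintro ⟨h, hh⟩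
  have e := congrArg (fun f : MulAut ↥Spor.M12 =>
    ((f (mkE Spor.M12 dbT db_mem12) : ↥Spor.M12) : Equiv.Perm GolayPt)) hh
  have e' : (h : Equiv.Perm GolayPt) * permOf dbT * (h : Equiv.Perm GolayPt)⁻¹ =
      permOf pjT * permOf dbT * (permOf pjT)⁻¹ := e
  have hz : ((h : Equiv.Perm GolayPt)⁻¹ * permOf pjT) * permOf dbT =
      permOf dbT * ((h : Equiv.Perm GolayPt)⁻¹ * permOf pjT) := by
    have e2 : (h : Equiv.Perm GolayPt)⁻¹ * (permOf pjT * permOf dbT * (permOf pjT)⁻¹) *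
        (h : Equiv.Perm GolayPt) = permOf dbT := by
      rw [← e']
      group
    calc ((h : Equiv.Perm GolayPt)⁻¹ * permOf pjT) * permOf dbT
        = ((h : Equiv.Perm GolayPt)⁻¹ * (permOf pjT * permOf dbT * (permOf pjT)⁻¹) *
          (h : Equiv.Perm GolayPt)) * ((h : Equiv.Perm GolayPt)⁻¹ * permOf pjT) := by group
      _ = permOf dbT * ((h : Equiv.Perm GolayPt)⁻¹ * permOf pjT) := by rw [e2]
  obtain ⟨j, hj, ej⟩ := cent_db _
    (M24.mul_mem (M24.inv_mem (M12_le h.2)) (permOf_mem_M24 in_pjT)) hz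
  have hx : permOf pjT ∈ Spor.M12 := by
    have e3 : permOf pjT = (h : Equiv.Perm GolayPt) * permOf (tpow dbT j) := by
      rw [← ej]
      group
    rw [e3, permOf_tpow db_perm]
    exact Spor.M12.mul_mem h.2 (Spor.M12.pow_mem db_mem12 j)
  have h3 := M12_smul hx
  rw [smul_toSet_permOf pj_perm, pj_d0.1] at h3
  exact ne_d0' h3

end Golay
end Cfsg.Agent.Helper28
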