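import Mathlib
import Cfsg.Prelude.Def_Spor_Mathieu
import Cfsg.Agent.Helper28.AutGen2

set_option autoImplicit false

namespace Cfsg.Agent.Helper28
namespace Golay

open Cfsg
open scoped Pointwise

/-! ### The automorphisms of the stabiliser of two points -/

theorem M22_eq : Spor.M22 = GS [] [0, 23] := by
  ext σ
  rw [Spor.M22, Spor.M23, Subgroup.mem_inf, Subgroup.mem_inf, MulAction.mem_stabilizer_iff,
    MulAction.mem_stabilizer_iff, mem_GS_nil]
  constructor
  · rintro ⟨⟨h1, h2⟩, h3⟩
    refine ⟨h1, fun i hi => ?_⟩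
    simp only [List.mem_cons, List.not_mem_nil, or_false] at hi
    rcases hi with rfl | rfl
    · exact h3
    · exact h2
  · rintro ⟨h1, h2⟩
    exact ⟨⟨h1, h2 23 (by simp)⟩, h2 0 (by simp)⟩

theorem card_M22 : Nat.card ↥Spor.M22 = 443520 := by
  rw [M22_eq]
  exact card_GS22

theorem M22_le : Spor.M22 ≤ M24 := by
  rw [M22_eq]
  exact fun σ h => (mem_GS_nil.1 h).1

/-- an element of order four normalising the twist -/
def t22T : List Nat := [0, 1, 18, 15, 6, 13, 2, 8, 10, 7, 9, 14, 21, 20, 17, 3, 5, 19, 4, 11, 16, 12, 22, 23]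

theorem gens22_in : inGS [] [0, 23] dbT = true ∧ inGS [] [0, 23] twT = true ∧
    inGS [] [0, 23] t22T = true := by decide +kernel

theorem t22_perm : isPerm t22T = true := isPerm_of_inM24 (permOf_mem_GS (by simp) gens22_in.2.2).1

theorem db_mem22 : permOf dbT ∈ Spor.M22 := by
  rw [M22_eq]
  exact (permOf_mem_GS (by simp) gens22_in.1).2

theorem tw_mem22 : permOf twT ∈ Spor.M22 := by
  rw [M22_eq]
  exact (permOf_mem_GS (by simp) gens22_in.2.1).2

theorem t_mem22 : permOf t22T ∈ Spor.M22 := by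
  rw [M22_eq]
  exact (permOf_mem_GS (by simp) gens22_in.2.2).2

theorem rel_t22 : comp t22T twT = comp (tpow twT 2) t22T := by decide +kernel

theorem filt22 : (CLtw.all fun Z => !(Nat.beq (tf Z 23) 23 && Nat.beq (tf Z 0) 0) ||
    ((List.range 5).map (tpow twT)).contains Z) = true := by decide +kernel

theorem rel22_tab : tpow (wordT [dbT, twT, t22T] [0, 2, 2, 0, 2, 2, 1]) 2 = idT := by decide +kernel

theorem final22 : ∀ j, j < 5 →
    tpow (wordT [dbT, twT, comp t22T (tpow twT j)] [0, 2, 2, 0, 2, 2, 1]) 2 = idT → j = 0 := by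
  decide +kernel

/-- a straight-line program for the stabiliser of two points -/
def prog22g : List (Nat × Nat) :=
  [(0, 0), (0, 3), (3, 3), (5, 5), (4, 6), (1, 1), (1, 8), (1, 9), (9, 0), (9, 11), (12, 1), (12, 9), (12, 13), (1, 14), (12, 15), (12, 12), (12, 18), (12, 19), (14, 14), (21, 21), (14, 0), (23, 2), (15, 15), (25, 25), (26, 24), (19, 27), (28, 13), (28, 14), (28, 4), (28, 15), (28, 16), (28, 17), (1, 29), (28, 29), (12, 31), (28, 31), (12, 32), (28, 12), (28, 18), (28, 19), (28, 20), (12, 40), (28, 40), (28, 41), (28, 42), (12, 43), (12, 44), (12, 45), (12, 46), (12, 47), (12, 50), (12, 51), (12, 54), (28, 28), (28, 56), (28, 57), (24, 12), (59, 0), (36, 36), (36, 61), (61, 61), (62, 63), (64, 60), (52, 52), (52, 66), (67, 65), (68, 28), (68, 56), (68, 57), (28, 68), (68, 68), (68, 69), (28, 70), (68, 70), (68, 71), (28, 72), (68, 72), (28, 73), (28, 76), (68, 79), (60, 12), (64, 83), (55, 55), (85, 85), (86, 84), (77, 87), (83, 1), (32, 32), (90, 90), (91, 91), (90,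 92), (93, 89), (50, 50), (95, 95), (95, 96), (97, 94), (70, 70), (99, 99), (100, 98), (101, 88), (88, 101), (101, 101), (88, 102), (101, 102), (101, 103), (88, 104), (101, 107), (101, 108), (89, 0), (64, 111), (45, 45), (113, 113), (113, 114), (115, 112), (72, 72), (117, 117), (118, 116), (102, 119), (120, 101), (120, 102), (120, 103), (120, 105), (120, 120), (111, 1), (41, 41), (127, 127), (127, 128), (126, 68), (130, 68), (22, 131), (131, 1), (29, 29), (134, 134), (134, 135), (133, 1), (4, 4), (6, 137), (115, 139), (122, 122), (137, 1), (142, 101), (143, 68), (144, 0), (75, 75), (145, 120), (147, 1), (148, 1), (149, 120), (150, 0), (151, 120), (152, 120), (153, 68), (154, 0), (155, 1), (10, 156), (40, 40), (158, 158), (158, 159), (160, 157), (68, 161), (156, 0), (136, 163), (129, 164), (74, 74), (74, 166), (167, 165), (163, 101), (136, 169), (129, 170), (167, 171), (123, 123), (169, 2), (174, 12), (175, 68), (76, 76), (176, 2), (178, 101), (179, 1), (17, 17), (181, 181), (182,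 180), (18, 183), (146, 184), (180, 120), (186, 12), (187, 101), (188, 2), (189, 1), (190, 120), (191, 120), (192, 1), (136, 193), (43, 43), (195, 195), (196, 194), (193, 28), (198, 1), (199, 101), (200, 1), (201, 120), (202, 0), (203, 120), (204, 1), (205, 88), (1, 206), (58, 207), (206, 101), (209, 68), (210, 28), (211, 88), (212, 120), (213, 88), (214, 28), (215, 12), (1, 216), (67, 217), (177, 218), (38, 41), (220, 79), (221, 104), (34, 46), (223, 28), (224, 104), (225, 125), (14, 18), (33, 43), (228, 78), (229, 109), (230, 120), (35, 42), (232, 81), (233, 109), (234, 125), (16, 12), (31, 12), (237, 79), (238, 110), (39, 41), (240, 72), (241, 108), (242, 125), (29, 72), (244, 102), (245, 120), (32, 12), (247, 69), (248, 109), (249, 120), (30, 53), (251, 81), (252, 108), (37, 48), (254, 57), (255, 106), (36, 18), (257, 70), (258, 102), (259, 125), (51, 76), (261, 125), (46, 82), (263, 106), (264, 120), (45, 77), (266, 110), (267, 125), (54, 72), (269, 88), (270, 120), (50, 81),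 (272, 106), (273, 120), (55, 58), (275, 123), (276, 125), (20, 75), (278, 122), (279, 125), (132, 106), (281, 120), (48, 71), (283, 109), (284, 120), (18, 73), (286, 124), (287, 120), (42, 28), (289, 124), (290, 120), (40, 125), (52, 122), (12, 70), (294, 121), (295, 120), (53, 73), (297, 109), (298, 125), (19, 56), (300, 122), (301, 120), (47, 69), (303, 103), (304, 125), (43, 80), (306, 106), (44, 75), (308, 123), (309, 120), (49, 56), (311, 105), (312, 125), (73, 121), (81, 104), (315, 125), (79, 107), (82, 104), (318, 120), (69, 106), (76, 110), (71, 102), (322, 120), (80, 123), (324, 120), (70, 124), (58, 121), (327, 120), (78, 122), (329, 125), (68, 102), (331, 120), (77, 122), (75, 106), (334, 125), (56, 123), (74, 105), (72, 123), (338, 120), (88, 120), (124, 120)]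

set_option maxRecDepth 100000 in
theorem slp22g : (targets22.all fun T => (slpRun prog22g [dbT, twT, t22T]).contains T) = true := by
  decide +kernel

theorem gen22 : Spor.M22 ≤ Subgroup.closure {σ | ∃ T ∈ [dbT, twT, t22T], σ = permOf T} := by
  have ht := slp_closure [dbT, twT, t22T] (perm3 db_perm tw_perm t22_perm) prog22g targets22
    slp22g
  have h' : ∀ U : List (List Nat), (∀ T ∈ U, T ∈ targets22) → ∀ T ∈ U,
      permOf T ∈ Subgroup.closure {σ | ∃ T ∈ [dbT, twT, t22T], σ = permOf T} :=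
    fun U hU T hT => ht T (hU T hT)
  rw [M22_eq, GS_nil_eq_Gfix]
  refine level_le lv3 _ (h' U3 (by intro T hT; simp [targets22, hT])) ?_
  refine level_le lv4 _ (h' U4 (by intro T hT; simp [targets22, hT])) ?_
  refine level_le lv5 _ (h' U5 (by intro T hT; simp [targets22, hT])) ?_
  refine level_le lv6 _ (h' U6 (by intro T hT; simp [targets22, hT])) ?_
  refine level_le lv7 _ (h' U7 (by intro T hT; simp [targets22, hT])) ?_
  rw [triv_sound lvT]
  exact bot_le

theorem cent_tw22 : ∀ z ∈ Spor.M22, z * permOf twT = permOf twT * z →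
    ∃ Z ∈ (List.range 5).map (tpow twT), isPerm Z = true ∧ z = permOf Z := by
  intro z hz e
  have hz' := hz
  rw [M22_eq, mem_GS_nil] at hz'
  obtain ⟨h1, h2⟩ := hz'
  have f23 := h2 23 (by simp)
  have f0 := h2 0 (by simp)
  obtain ⟨Z, hZ, hZp, eZ⟩ := cent_tw z h1 e
    (Or.inl (by rw [f23, idx_pt 23 (by norm_num)])) (Or.inl (by rw [f0, idx_pt 0 (by norm_num)]))
  have a1 : tf Z 23 = 23 := by
    have h3 := congrArg idx f23
    rw [eZ, idx_permOf hZp, idx_pt 23 (by norm_num)] at h3
    exact h3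
  have a0 : tf Z 0 = 0 := by
    have h3 := congrArg idx f0
    rw [eZ, idx_permOf hZp, idx_pt 0 (by norm_num)] at h3
    exact h3
  have hf := List.all_eq_true.1 filt22 Z hZ
  rw [a1, a0] at hf
  simp only [Nat.beq_refl, Bool.and_self, Bool.not_true, Bool.false_or, List.contains_eq_mem,
    decide_eq_true_eq] at hf
  exact ⟨Z, hf, hZp, eZ⟩

/-- an automorphism fixing the doubling map and the twist is trivial -/
theorem aut22_fix (ψ : MulAut ↥Spor.M22)
    (htw : ψ (mkE Spor.M22 twT tw_mem22) = mkE Spor.M22 twT tw_mem22)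
    (hdb : ((ψ (mkE Spor.M22 dbT db_mem22) : ↥Spor.M22) : Equiv.Perm GolayPt) = permOf dbT) :
    ∀ y, ψ y = y := by
  obtain ⟨Z, hZ, hZp, eZ⟩ := autC 2 tw_perm t22_perm tw_mem22 t_mem22 permOf_twi _ cent_tw22
    rel_t22 ψ (Or.inl (by rw [htw]; rfl))
  obtain ⟨j, hj, rfl⟩ := List.mem_map.1 hZ
  have hX := isPerm_comp t22_perm hZp
  have hr := rel_transfer ψ (gen3 (mkE Spor.M22 dbT db_mem22) (mkE Spor.M22 twT tw_mem22)
    (mkE Spor.M22 t22T t_mem22)) [dbT, twT, t22T] [dbT, twT, comp t22T (tpow twT j)]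
    (perm3 db_perm tw_perm t22_perm) (perm3 db_perm tw_perm hX)
    (val_gen3 _ _ _ _ _ _ rfl rfl rfl)
    (val_map_gen3 ψ _ _ _ _ _ _ hdb (by rw [htw]; rfl) eZ) [0, 2, 2, 0, 2, 2, 1] 1 rel22_tab
  have hj0 := final22 j (List.mem_range.1 hj) hr
  subst hj0
  refine aut_id_of_closure [dbT, twT, t22T] (by
    intro T hT
    simp only [List.mem_cons, List.not_mem_nil, or_false] at hT
    rcases hT with rfl | rfl | rfl
    · exact db_mem22
    · exact tw_mem22
    · exact t_mem22) gen22 ψ ?_
  intro T hT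
  simp only [List.mem_cons, List.not_mem_nil, or_false] at hT
  rcases hT with rfl | rfl | rfl
  · exact Subtype.ext hdb
  · exact htw
  · apply Subtype.ext
    rw [eZ, ← permOf_mul t22_perm (tpow_perm tw_perm 0)]
    show permOf t22T * permOf idT = permOf t22T
    rw [permOf_idT, mul_one]

theorem pj_swap : tf pjT 0 = 23 ∧ tf pjT 23 = 0 := by decide +kernel

theorem pj_invol : comp pjT pjT = idT := by decide +kernel

theorem pj_inv : (permOf pjT)⁻¹ = permOf pjT := by
  have h := permOf_mul pj_perm pj_perm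
  rw [pj_invol, permOf_idT] at h
  exact inv_eq_of_mul_eq_one_left h

theorem pj_norm22 : ∀ y ∈ Spor.M22, permOf pjT * y * (permOf pjT)⁻¹ ∈ Spor.M22 := by
  intro y hy
  rw [M22_eq, mem_GS_nil] at hy ⊢
  obtain ⟨h1, h2⟩ := hy
  have hx := permOf_mem_M24 in_pjT
  refine ⟨M24.mul_mem (M24.mul_mem hx h1) (M24.inv_mem hx), fun i hi => ?_⟩
  simp only [List.mem_cons, List.not_mem_nil, or_false] at hi
  rw [pj_inv]
  rcases hi with rfl | rfl
  · rw [Equiv.Perm.mul_apply, Equiv.Perm.mul_apply, permOf_pt pj_perm (by norm_num), pj_swap.1,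
      h2 23 (by simp), permOf_pt pj_perm (by norm_num), pj_swap.2]
  · rw [Equiv.Perm.mul_apply, Equiv.Perm.mul_apply, permOf_pt pj_perm (by norm_num), pj_swap.2,
      h2 0 (by simp), permOf_pt pj_perm (by norm_num), pj_swap.1]

theorem pj_norm22' : ∀ y ∈ Spor.M22, (permOf pjT)⁻¹ * y * permOf pjT ∈ Spor.M22 := by
  intro y hy
  have h := pj_norm22 y hy
  rw [pj_inv] at h ⊢
  exact h

/-- the automorphism induced by the inversion -/
noncomputable def xi22 : MulAut ↥Spor.M22 :=
  conjRestr Spor.M22 (permOf pjT) pj_norm22 pj_norm22'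

theorem pj_db : comp pjT (tpow dbT 10) = comp dbT pjT := by decide +kernel

theorem hp22 : ¬ 11 ^ 2 ∣ Nat.card ↥Spor.M22 := by
  rw [card_M22]
  norm_num

theorem aut22 (α : MulAut ↥Spor.M22) : α ∈ Inn ↥Spor.M22 ∨ xi22 * α ∈ Inn ↥Spor.M22 := by
  obtain ⟨g, h1, h2⟩ := autAB11 M22_le hp22 db_mem22 tw_mem22 α
  rcases h2 with h2 | h2
  · left
    exact inn_of_conj_id g α (aut22_fix _ h1 h2)
  · right
    have h0 : (((xi22 * (MulAut.conj g * α)) (mkE Spor.M22 dbT db_mem22) : ↥Spor.M22) :
        Equiv.Perm GolayPt) = permOf dbT := by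
      show permOf pjT * (((MulAut.conj g * α) (mkE Spor.M22 dbT db_mem22) : ↥Spor.M22) :
        Equiv.Perm GolayPt) * (permOf pjT)⁻¹ = permOf dbT
      rw [h2, permOf_mul pj_perm (tpow_perm db_perm 10), pj_db, ← permOf_mul db_perm pj_perm,
        mul_inv_cancel_right]
    obtain ⟨i, hi⟩ := autB 11 3 db_perm tw_perm db_mem22 tw_mem22 permOf_dbi'
      (fun z hz e => cent_db z (M22_le hz) e) rel_du_tab chkB11 (xi22 * (MulAut.conj g * α))
      (Or.inl h0)
    have hk := conj_pow_keep1 db_perm db_mem22 i _ h0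
    exact inn_of_twist xi22 α g (mkE Spor.M22 dbT db_mem22 ^ i)
      (aut22_fix (MulAut.conj (mkE Spor.M22 dbT db_mem22 ^ i) * (xi22 * (MulAut.conj g * α)))
        hi hk)

theorem xi22_not_inn : xi22 ∉ Inn ↥Spor.M22 := by
  rintro ⟨h, hh⟩
  have e := congrArg (fun f : MulAut ↥Spor.M22 =>
    ((f (mkE Spor.M22 dbT db_mem22) : ↥Spor.M22) : Equiv.Perm GolayPt)) hh
  have e' : (h : Equiv.Perm GolayPt) * permOf dbT * (h : Equiv.Perm GolayPt)⁻¹ =
      permOf pjT * permOf dbT * (permOf pjT)⁻¹ := e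
  have hz : ((h : Equiv.Perm GolayPt)⁻¹ * permOf pjT) * permOf dbT =
      permOf dbT * ((h : Equiv.Perm GolayPt)⁻¹ * permOf pjT) := by
    have e2 : (h : Equiv.Perm GolayPt)⁻¹ * (permOf pjT * permOf dbT * (permOf pjT)⁻¹) *
        (h : Equiv.Perm GolayPt) = permOf dbT := by
      rw [← e']
      group
    calc ((h : Equiv.Perm GolayPt)⁻¹ * permOf pjT) * permOf dbT
        = ((h : Equiv.Perm GolayPt)⁻¹ * (permOf pjT * permOf dbT * (permOf pjT)⁻¹) *
          (h : Equiv.Perm GolayPt)) * ((h : Equiv.Perm GolayPt)⁻¹ * permOf pjT) := by group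
      _ = permOf dbT * ((h : Equiv.Perm GolayPt)⁻¹ * permOf pjT) := by rw [e2]
  obtain ⟨j, hj, ej⟩ := cent_db _
    (M24.mul_mem (M24.inv_mem (M22_le h.2)) (permOf_mem_M24 in_pjT)) hz
  have hx : permOf pjT ∈ Spor.M22 := by
    have e3 : permOf pjT = (h : Equiv.Perm GolayPt) * permOf (tpow dbT j) := by
      rw [← ej]
      group
    rw [e3, permOf_tpow db_perm]
    exact Spor.M22.mul_mem h.2 (Spor.M22.pow_mem db_mem22 j)
  rw [M22_eq, mem_GS_nil] at hx
  have h3 := hx.2 0 (by simp)
  rw [permOf_pt pj_perm (by norm_num), pj_swap.1] at h3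
  exact pt23_ne0 h3

end Golay
end Cfsg.Agent.Helper28
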