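import Mathlib
import Cfsg.Prelude.Def_Spor_Mathieu
import Cfsg.Agent.Helper28.AutGen
import Cfsg.Agent.Helper28.SimpleM

set_option autoImplicit false

namespace Cfsg.Agent.Helper28
namespace Golay

open Cfsg
open scoped Pointwise

/-! ### Every automorphism of the point stabiliser is inner -/

theorem M23_eq : Spor.M23 = GS [] [23] := by
  ext σ
  rw [Spor.M23, Subgroup.mem_inf, MulAction.mem_stabilizer_iff, mem_GS_nil]
  constructor
  · rintro ⟨h1, h2⟩
    refine ⟨h1, fun i hi => ?_⟩
    rw [List.mem_singleton] at hi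
    subst hi
    exact h2
  · rintro ⟨h1, h2⟩
    exact ⟨h1, h2 23 (by simp)⟩

theorem card_M23 : Nat.card ↥Spor.M23 = 10200960 := by
  rw [M23_eq]
  exact card_GS23

theorem gens23_in : inGS [] [23] shT = true ∧ inGS [] [23] dbT = true ∧
    inGS [] [23] twT = true := by decide +kernel

theorem sh_mem23 : permOf shT ∈ Spor.M23 := by
  rw [M23_eq]
  exact (permOf_mem_GS (by simp) gens23_in.1).2

theorem db_mem23 : permOf dbT ∈ Spor.M23 := by
  rw [M23_eq]
  exact (permOf_mem_GS (by simp) gens23_in.2.1).2

theorem tw_mem23 : permOf twT ∈ Spor.M23 := by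
  rw [M23_eq]
  exact (permOf_mem_GS (by simp) gens23_in.2.2).2

theorem M23_le : Spor.M23 ≤ M24 := by
  rw [Spor.M23]
  exact inf_le_left

theorem relB23 : comp dbT shT = comp (tpow shT 2) dbT := by decide +kernel

theorem chkB23 : ∀ j, j < 23 → ∃ i, i < 23 ∧
    comp (tpow shT i) (comp dbT (tpow shT j)) = comp dbT (tpow shT i) := by decide +kernel

theorem dbi_eq : comp dbT (tpow dbT 10) = idT := by decide +kernel

theorem permOf_dbi : permOf (tpow dbT 10) = (permOf dbT)⁻¹ := by
  have h := permOf_mul db_perm (tpow_perm db_perm 10)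
  rw [dbi_eq, permOf_idT] at h
  exact eq_inv_of_mul_eq_one_right h

theorem shT_ne : tf shT 0 ≠ 0 := by decide +kernel

theorem rel23_tab : tpow (comp shT (comp twT twT)) 5 = idT := by decide +kernel

theorem final23 : ∀ j, j < 11 →
    (tpow (comp shT (comp (comp twT (tpow dbT j)) (comp twT (tpow dbT j)))) 5 = idT → j = 0) ∧
    ¬ tpow (comp shiT (comp (comp twT (tpow dbT j)) (comp twT (tpow dbT j)))) 5 = idT := by
  decide +kernel

/-- a straight-line program for the point stabiliser -/
def prog23g : List (Nat × Nat) :=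
  [(0, 0), (0, 3), (3, 3), (4, 5), (5, 5), (7, 7), (6, 8), (1, 1), (1, 10), (1, 11), (1, 12), (1, 13), (1, 14), (1, 15), (1, 16), (1, 17), (11, 0), (1, 19), (19, 19), (1, 20), (19, 20), (1, 21), (1, 22), (19, 23), (1, 24), (19, 24), (1, 25), (1, 28), (19, 0), (31, 19), (32, 0), (24, 24), (34, 34), (35, 35), (34, 36), (33, 2), (37, 38), (12, 39), (40, 40), (40, 41), (40, 42), (38, 19), (25, 25), (45, 45), (46, 46), (45, 47), (48, 44), (41, 49), (50, 10), (50, 14), (50, 15), (50, 16), (50, 17), (50, 18), (1, 51), (1, 54), (50, 54), (40, 55), (40, 57), (50, 41), (50, 42), (50, 43), (40, 62), (50, 62), (40, 63), (50, 63), (50, 64), (40, 65), (50, 65), (50, 66), (50, 67), (40, 69), (40, 71), (50, 71), (40, 72), (50, 50), (50, 78), (50, 79), (44, 0), (28, 28), (29, 29), (82, 83), (84, 81), (51, 51), (86, 86), (86, 87), (88, 85), (62, 62), (90, 90), (91, 89), (92, 50), (92, 78), (92, 79), (50, 92), (50, 93), (50, 94), (50, 96), (50, 98), (50, 99), (81, 1), (102, 0), (26, 26), (104, 104), (105, 105), (104, 106), (107,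 103), (61, 61), (109, 109), (61, 110), (111, 108), (68, 68), (113, 113), (113, 114), (115, 112), (100, 100), (117, 117), (118, 116), (119, 50), (119, 79), (119, 99), (119, 101), (50, 121), (119, 119), (103, 1), (126, 50), (127, 50), (128, 1), (107, 129), (12, 130), (91, 131), (97, 97), (133, 132), (134, 119), (134, 125), (119, 134), (134, 134), (134, 135), (119, 137), (119, 138), (119, 139), (129, 1), (107, 143), (54, 54), (145, 145), (146, 146), (145, 147), (148, 144), (115, 149), (80, 150), (140, 151), (152, 125), (152, 134), (152, 139), (152, 141), (152, 152), (143, 1), (107, 158), (58, 58), (160, 160), (160, 161), (162, 159), (63, 63), (164, 164), (164, 165), (166, 163), (118, 167), (158, 119), (107, 169), (162, 170), (166, 171), (118, 172), (169, 50), (174, 0), (6, 6), (176, 176), (176, 177), (177, 177), (120, 120), (120, 180), (175, 134), (182, 1), (121, 121), (183, 1), (93, 93), (186, 186), (185, 152), (188, 152), (189, 134), (8, 190), (11, 191), (187, 192), (190, 0), (194, 134), (195, 134), (196, 50),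 (197, 0), (198, 1), (199, 0), (200, 119), (201, 2), (202, 19), (30, 30), (204, 204), (205, 205), (206, 206), (65, 65), (208, 208), (208, 209), (203, 50), (211, 2), (52, 52), (213, 213), (52, 214), (212, 119), (4, 216), (215, 217), (210, 218), (216, 1), (220, 134), (221, 19), (83, 84), (223, 222), (18, 224), (70, 70), (70, 226), (227, 225), (181, 228), (222, 119), (230, 152), (231, 2), (232, 1), (233, 134), (234, 134), (235, 152), (236, 1), (237, 40), (238, 1), (239, 119), (240, 1), (241, 134), (242, 0), (243, 134), (8, 244), (162, 245), (210, 246), (95, 247), (244, 1), (249, 92), (250, 152), (8, 251), (227, 252), (24, 12), (22, 14), (27, 11), (29, 12), (26, 1), (25, 13), (18, 41), (15, 43), (1, 43), (53, 68), (263, 97), (264, 119), (265, 157), (55, 68), (267, 124), (268, 154), (269, 152), (12, 40), (51, 76), (272, 124), (273, 135), (274, 152), (61, 62), (276, 153), (277, 157), (17, 40), (56, 66), (280, 78), (281, 136), (282, 157), (52, 43), (284, 92), (285, 139), (286, 157), (11, 40), (60, 63), (289, 96), (290,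 135), (291, 152), (13, 42), (59, 70), (294, 120), (295, 142), (296, 157), (57, 40), (298, 96), (299, 137), (300, 157), (58, 124), (54, 62), (303, 78), (304, 134), (75, 98), (306, 152), (71, 120), (308, 153), (309, 157), (76, 121), (311, 156), (312, 152), (64, 95), (314, 125), (62, 50), (316, 137), (63, 124), (318, 139), (319, 157), (43, 100), (321, 134), (322, 152), (68, 120), (324, 141), (72, 101), (326, 125), (327, 157), (41, 50), (67, 80), (330, 157), (77, 121), (332, 135), (333, 152), (73, 79), (335, 125), (336, 157), (40, 121), (338, 135), (339, 157), (65, 78), (341, 119), (42, 93), (343, 155), (70, 50), (74, 79), (346, 142), (347, 152), (66, 79), (349, 135), (69, 93), (351, 125), (50, 155), (353, 157), (80, 141), (355, 152), (94, 134), (357, 157), (97, 156), (359, 157), (123, 140), (361, 152), (101, 156), (363, 152), (92, 140), (365, 157), (121, 141), (367, 157), (78, 152), (124, 155), (370, 152), (95, 153), (372, 157), (122, 156), (100, 141), (375, 152), (219, 152), (99, 152), (98, 142), (379, 157), (136,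 152), (135, 152), (141, 157), (154, 157), (142, 157)]

set_option maxRecDepth 100000 in
theorem slp23g : (targets23.all fun T => (slpRun prog23g [shT, dbT, twT]).contains T) = true := by
  decide +kernel

theorem gen23 : Spor.M23 ≤ Subgroup.closure {σ | ∃ T ∈ [shT, dbT, twT], σ = permOf T} := by
  have ht := slp_closure [shT, dbT, twT] (by
    intro T hT
    simp only [List.mem_cons, List.not_mem_nil, or_false] at hT
    rcases hT with rfl | rfl | rfl
    · exact sh_perm
    · exact db_perm
    · exact tw_perm) prog23g targets23 slp23g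
  have h' : ∀ U : List (List Nat), (∀ T ∈ U, T ∈ targets23) → ∀ T ∈ U,
      permOf T ∈ Subgroup.closure {σ | ∃ T ∈ [shT, dbT, twT], σ = permOf T} :=
    fun U hU T hT => ht T (hU T hT)
  rw [M23_eq, GS_nil_eq_Gfix]
  refine level_le lv2 _ (h' U2 (by intro T hT; simp [targets23, hT])) ?_
  refine level_le lv3 _ (h' U3 (by intro T hT; simp [targets23, hT])) ?_
  refine level_le lv4 _ (h' U4 (by intro T hT; simp [targets23, hT])) ?_
  refine level_le lv5 _ (h' U5 (by intro T hT; simp [targets23, hT])) ?_
  refine level_le lv6 _ (h' U6 (by intro T hT; simp [targets23, hT])) ?_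
  refine level_le lv7 _ (h' U7 (by intro T hT; simp [targets23, hT])) ?_
  rw [triv_sound lvT]
  exact bot_le

theorem val_word23 {H : Subgroup (Equiv.Perm GolayPt)} {c d : ↥H} {C D : List Nat}
    (hC : isPerm C = true) (hD : isPerm D = true)
    (ec : (c : Equiv.Perm GolayPt) = permOf C) (ed : (d : Equiv.Perm GolayPt) = permOf D)
    (h : (c * (d * d)) ^ 5 = 1) : tpow (comp C (comp D D)) 5 = idT := by
  have h1 := isPerm_comp hD hD
  have hW : isPerm (comp C (comp D D)) = true := isPerm_comp hC h1
  rw [← tpow_eq_id_iff hW 4]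
  have hv := congrArg Subtype.val h
  simp only [Subgroup.coe_pow, Subgroup.coe_mul, Subgroup.coe_one] at hv
  rw [ec, ed, permOf_mul hD hD, permOf_mul hC h1] at hv
  exact hv

theorem map_word23 {G : Type*} [Group G] (φ : G ≃* G) (a b : G)
    (h : (a * (b * b)) ^ 5 = 1) : (φ a * (φ b * φ b)) ^ 5 = 1 := by
  rw [← map_mul, ← map_mul, ← map_pow, h, map_one]

theorem rel23 : (mkE Spor.M23 shT sh_mem23 * (mkE Spor.M23 twT tw_mem23 *
    mkE Spor.M23 twT tw_mem23)) ^ 5 = 1 := by
  apply Subtype.ext
  show (permOf shT * (permOf twT * permOf twT)) ^ 5 = 1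
  have h1 := isPerm_comp tw_perm tw_perm
  rw [permOf_mul tw_perm tw_perm, permOf_mul sh_perm h1]
  exact (tpow_eq_id_iff (isPerm_comp sh_perm h1) 4).2 rel23_tab

theorem inn_of_conj_mul {G : Type*} [Group G] (g : G) (α : MulAut G)
    (h : ∀ y, (MulAut.conj g * α) y = y) : α ∈ Inn G := by
  refine ⟨g⁻¹, ?_⟩
  rw [map_inv]
  exact (eq_inv_of_mul_eq_one_right (MulEquiv.ext h)).symm

theorem aut_inner23 (α : MulAut ↥Spor.M23) : α ∈ Inn ↥Spor.M23 := by
  have hp2 : ¬ 23 ^ 2 ∣ Nat.card ↥Spor.M23 := by
    rw [card_M23]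
    norm_num
  have : Fact (Nat.Prime 23) := ⟨by norm_num⟩
  obtain ⟨g, hg⟩ := autA 23 hp2 sh_perm shi_perm db_perm sh_mem23 db_mem23 shT_pow23 0
    (by norm_num) shT_ne 11 step2_check α
  have hβ : (((MulAut.conj g * α) (mkE Spor.M23 shT sh_mem23) : ↥Spor.M23) :
      Equiv.Perm GolayPt) = permOf shT ∨
      (((MulAut.conj g * α) (mkE Spor.M23 shT sh_mem23) : ↥Spor.M23) :
      Equiv.Perm GolayPt) = permOf shiT := hg
  obtain ⟨i, hi⟩ := autB 23 2 sh_perm db_perm sh_mem23 db_mem23 permOf_shiT
    (fun z _ e => cent_sh z e) relB23 chkB23 (MulAut.conj g * α) hβ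
  have hφsh := conj_pow_keep sh_perm sh_mem23 permOf_shiT i _ hβ
  have hφdb : (MulAut.conj (mkE Spor.M23 shT sh_mem23 ^ i) * (MulAut.conj g * α))
      (mkE Spor.M23 dbT db_mem23) = mkE Spor.M23 dbT db_mem23 := hi
  have hCdb : ∀ z ∈ Spor.M23, z * permOf dbT = permOf dbT * z →
      ∃ Z ∈ (List.range 11).map (tpow dbT), isPerm Z = true ∧ z = permOf Z := by
    intro z hz e
    obtain ⟨j, hj, ej⟩ := cent_db z (M23_le hz) e
    exact ⟨tpow dbT j, List.mem_map.2 ⟨j, List.mem_range.2 hj, rfl⟩, tpow_perm db_perm j, ej⟩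
  obtain ⟨Z, hZ, hZp, eZ⟩ := autC 3 db_perm tw_perm db_mem23 tw_mem23 permOf_dbi _ hCdb
    rel_du_tab (MulAut.conj (mkE Spor.M23 shT sh_mem23 ^ i) * (MulAut.conj g * α))
    (Or.inl (by rw [hφdb]; rfl))
  obtain ⟨j, hj, rfl⟩ := List.mem_map.1 hZ
  have hj' := List.mem_range.1 hj
  have hZp' := isPerm_comp tw_perm hZp
  have hφsh' : (((MulAut.conj (mkE Spor.M23 shT sh_mem23 ^ i) * (MulAut.conj g * α))
      (mkE Spor.M23 shT sh_mem23) : ↥Spor.M23) : Equiv.Perm GolayPt) = permOf shT ∨
      (((MulAut.conj (mkE Spor.M23 shT sh_mem23 ^ i) * (MulAut.conj g * α))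
      (mkE Spor.M23 shT sh_mem23) : ↥Spor.M23) : Equiv.Perm GolayPt) = permOf shiT := hφsh
  have r1 := map_word23 (MulAut.conj (mkE Spor.M23 shT sh_mem23 ^ i) * (MulAut.conj g * α))
    _ _ rel23
  have fc := final23 j hj'
  have hid : ∀ y, (MulAut.conj (mkE Spor.M23 shT sh_mem23 ^ i) * (MulAut.conj g * α)) y = y := by
    rcases hφsh' with hc | hc
    · have hj0 := fc.1 (val_word23 sh_perm hZp' hc eZ r1)
      subst hj0
      refine aut_id_of_closure [shT, dbT, twT] (by
        intro T hT
        simp only [List.mem_cons, List.not_mem_nil, or_false] at hT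
        rcases hT with rfl | rfl | rfl
        · exact sh_mem23
        · exact db_mem23
        · exact tw_mem23) gen23 _ ?_
      intro T hT
      simp only [List.mem_cons, List.not_mem_nil, or_false] at hT
      rcases hT with rfl | rfl | rfl
      · exact Subtype.ext hc
      · exact hφdb
      · apply Subtype.ext
        rw [eZ, ← permOf_mul tw_perm (tpow_perm db_perm 0)]
        show permOf twT * permOf idT = permOf twT
        rw [permOf_idT, mul_one]
    · exact absurd (val_word23 shi_perm hZp' hc eZ r1) fc.2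
  have e : ∀ y, (MulAut.conj (mkE Spor.M23 shT sh_mem23 ^ i * g) * α) y = y := by
    intro y
    rw [map_mul, mul_assoc]
    exact hid y
  exact inn_of_conj_mul _ α e

end Golay
end Cfsg.Agent.Helper28
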