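import Mathlib
import Cfsg.Agent.Helper12.SL2Orders
import Cfsg.Agent.Helper14.PslAdj

set_option autoImplicit false

namespace Cfsg.Agent.Helper28.Psl3x

open Matrix Cfsg.Agent.Helper12

theorem gcd_aux (q : ℕ) (hq : 2 ≤ q) : Nat.gcd (q ^ 2 - 1) (q + 2) = Nat.gcd 3 (q - 1) := by
  obtain ⟨k, rfl⟩ : ∃ k, q = k + 2 := ⟨q - 2, by omega⟩
  have h1 : (k + 2) ^ 2 - 1 = 3 + k * (k + 2 + 2) := by
    have : (k + 2) ^ 2 = 3 + k * (k + 2 + 2) + 1 := by ring
    omega
  rw [h1, Nat.gcd_add_mul_right_left]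
  have h2 : k + 2 + 2 = (k + 2 - 1) + 3 := by omega
  rw [h2, Nat.gcd_add_self_right]

/-- `T4`: an element of `SL₃(q)` whose image in `PSL₃(q)` has order `(q² - 1)/gcd(3, q - 1)`. -/
theorem ex_q2m1 {F : Type*} [Field F] [Fintype F] (p : ℕ) [Fact p.Prime] [CharP F p] :
    ∃ M : Matrix (Fin 3) (Fin 3) F, M.det = 1 ∧
      (∃ c : F, M ^ ((Fintype.card F ^ 2 - 1) / Nat.gcd 3 (Fintype.card F - 1)) =
        c • (1 : Matrix (Fin 3) (Fin 3) F)) ∧
      ∀ j : ℕ, (∃ c : F, M ^ j = c • (1 : Matrix (Fin 3) (Fin 3) F)) →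
        (Fintype.card F ^ 2 - 1) / Nat.gcd 3 (Fintype.card F - 1) ∣ j := by
  classical
  have hfr : Module.finrank F (QuadExt F p) = 2 := FiniteField.finrank_extension F p 2
  obtain ⟨b⟩ : Nonempty (Module.Basis (Fin 2) F (QuadExt F p)) :=
    ⟨Module.finBasisOfFinrankEq F _ hfr⟩
  have hphi : Function.Injective (Algebra.leftMulMatrix b) := Algebra.leftMulMatrix_injective b
  have hq1 : 1 < Fintype.card F := Fintype.one_lt_card
  obtain ⟨z, hz⟩ := IsCyclic.exists_generator (α := (QuadExt F p)ˣ)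
  have hcardK : Nat.card (QuadExt F p) = Fintype.card F ^ 2 := by
    rw [FiniteField.natCard_extension F p 2, Nat.card_eq_fintype_card]
  have hord : orderOf z = Fintype.card F ^ 2 - 1 := by
    rw [orderOf_eq_card_of_forall_mem_zpowers hz, Nat.card_units, hcardK]
  obtain ⟨Z, hZ⟩ : ∃ Z : Matrix (Fin 2) (Fin 2) F,
      Z = Algebra.leftMulMatrix b (z : QuadExt F p) := ⟨_, rfl⟩
  obtain ⟨δ, hδ⟩ : ∃ δ : F, δ = Z.det := ⟨_, rfl⟩
  have hnorm : algebraMap F (QuadExt F p) δ = (z : QuadExt F p) ^ (Fintype.card F + 1) := by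
    have h1 := FiniteField.algebraMap_norm_eq_pow (K := F) (K' := QuadExt F p)
      (x := (z : QuadExt F p))
    rw [Algebra.norm_eq_matrix_det b, hcardK, Nat.card_eq_fintype_card, ← hZ, ← hδ] at h1
    rw [h1]
    congr 1
    obtain ⟨k, hk⟩ : ∃ k, Fintype.card F = k + 2 := ⟨Fintype.card F - 2, by omega⟩
    rw [hk]
    have e1 : (k + 2) ^ 2 - 1 = (k + 2 + 1) * (k + 2 - 1) := by
      have : (k + 2) ^ 2 = (k + 2 + 1) * (k + 1) + 1 := by ring
      have e2 : k + 2 - 1 = k + 1 := by omega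
      rw [e2]; omega
    rw [e1, Nat.mul_div_cancel _ (by omega)]
  have hδ0 : δ ≠ 0 := by
    intro h0
    rw [h0, map_zero] at hnorm
    exact (pow_ne_zero _ (Units.ne_zero z)) hnorm.symm
  obtain ⟨M, hMdet, hM⟩ := Cfsg.Agent.Helper14.PslAdj.exists_block 3 2 1 rfl Z
    (δ⁻¹ • (1 : Matrix (Fin 1) (Fin 1) F))
  have hYpow : ∀ j : ℕ, (δ⁻¹ • (1 : Matrix (Fin 1) (Fin 1) F)) ^ j =
      (δ⁻¹) ^ j • (1 : Matrix (Fin 1) (Fin 1) F) := by
    intro j
    rw [smul_pow, one_pow]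
  have hYc : ∀ (j : ℕ) (c : F), (δ⁻¹ • (1 : Matrix (Fin 1) (Fin 1) F)) ^ j =
      c • (1 : Matrix (Fin 1) (Fin 1) F) ↔ c = (δ⁻¹) ^ j := by
    intro j c
    rw [hYpow]
    constructor
    · intro h
      have := congrFun (congrFun h 0) 0
      simpa using this.symm
    · rintro rfl; rfl
  have hmap : ∀ c : F, Algebra.leftMulMatrix b (algebraMap F (QuadExt F p) c) =
      c • (1 : Matrix (Fin 2) (Fin 2) F) := by
    intro c
    rw [AlgHom.commutes, Algebra.algebraMap_eq_smul_one]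
  have hcancel : ∀ j : ℕ, algebraMap F (QuadExt F p) δ ^ j *
      algebraMap F (QuadExt F p) ((δ⁻¹) ^ j) = 1 := by
    intro j
    rw [← map_pow, ← map_mul, ← mul_pow, mul_inv_cancel₀ hδ0, one_pow, map_one]
  have key : ∀ j : ℕ, (∃ c : F, M ^ j = c • (1 : Matrix (Fin 3) (Fin 3) F)) ↔
      (z ^ (Fintype.card F + 2)) ^ j = 1 := by
    intro j
    constructor
    · rintro ⟨c, hc⟩
      obtain ⟨h1, h2⟩ := (hM j c).mp hc
      rw [hYc] at h2
      subst h2
      have h3 : Algebra.leftMulMatrix b ((z : QuadExt F p) ^ j) =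
          Algebra.leftMulMatrix b (algebraMap F (QuadExt F p) ((δ⁻¹) ^ j)) := by
        rw [map_pow, ← hZ, h1, hmap]
      have h4 := hphi h3
      apply Units.ext
      rw [Units.val_one, Units.val_pow_eq_pow_val, Units.val_pow_eq_pow_val,
        show Fintype.card F + 2 = (Fintype.card F + 1) + 1 from rfl, pow_succ, mul_pow, ← hnorm,
        h4]
      exact hcancel j
    · intro h
      have h1 : ((z : QuadExt F p) ^ (Fintype.card F + 2)) ^ j = 1 := by
        have := congrArg (fun u : (QuadExt F p)ˣ => (u : QuadExt F p)) h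
        simpa [Units.val_pow_eq_pow_val] using this
      rw [show Fintype.card F + 2 = (Fintype.card F + 1) + 1 from rfl, pow_succ, mul_pow,
        ← hnorm] at h1
      have h4 : (z : QuadExt F p) ^ j = algebraMap F (QuadExt F p) ((δ⁻¹) ^ j) := by
        have h5 := hcancel j
        have hne : algebraMap F (QuadExt F p) δ ^ j ≠ 0 := by
          intro h0
          rw [h0, zero_mul] at h5
          exact zero_ne_one h5
        exact mul_left_cancel₀ hne (h1.trans h5.symm)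
      refine ⟨(δ⁻¹) ^ j, (hM j _).mpr ⟨?_, (hYc j _).mpr rfl⟩⟩
      rw [hZ, ← map_pow, h4, hmap]
  have hordw : orderOf (z ^ (Fintype.card F + 2)) =
      (Fintype.card F ^ 2 - 1) / Nat.gcd 3 (Fintype.card F - 1) := by
    rw [orderOf_pow' _ (by omega), hord, gcd_aux _ hq1]
  refine ⟨M, ?_, ?_, ?_⟩
  · rw [hMdet, ← hδ]
    have : (δ⁻¹ • (1 : Matrix (Fin 1) (Fin 1) F)).det = δ⁻¹ := by
      simp
    rw [this, mul_inv_cancel₀ hδ0]
  · rw [key, ← hordw]
    exact pow_orderOf_eq_one _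
  · intro j hj
    rw [key] at hj
    rw [← hordw]
    exact orderOf_dvd_of_pow_eq_one hj

end Cfsg.Agent.Helper28.Psl3x
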