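import Mathlib

namespace Cfsg.Agent.Helper28.S4349c

variable {α : Type*} [Fintype α] [DecidableEq α]

theorem ais (f : Equiv.Perm α) (z : α) : f (f⁻¹ z) = z := Equiv.apply_symm_apply f z

theorem ias (f : Equiv.Perm α) (z : α) : f⁻¹ (f z) = z := Equiv.symm_apply_apply f z

theorem sw_exists (π : Equiv.Perm α) (S : Finset α) (hS : ∀ z ∈ S, π z ∉ S) :
    ∃ t : Equiv.Perm α, t * t = 1 ∧ (∀ z ∈ S, t z = π z) ∧ (∀ w ∈ S, t (π w) = w) ∧
      (∀ z, z ∉ S → π⁻¹ z ∉ S → t z = z) := by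
  classical
  have hinv : Function.Involutive
      (fun z => if z ∈ S then π z else if π.symm z ∈ S then π.symm z else z) := by
    intro z
    by_cases h1 : z ∈ S
    · have h2 : π z ∉ S := hS z h1
      simp [h1, h2]
    · by_cases h2 : π.symm z ∈ S
      · simp [h1, h2]
      · simp [h1, h2]
  refine ⟨Function.Involutive.toPerm _ hinv, ?_, ?_, ?_, ?_⟩
  · ext z
    simp only [Equiv.Perm.mul_apply, Function.Involutive.coe_toPerm, Equiv.Perm.one_apply]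
    exact hinv z
  · intro z hz
    simp [Function.Involutive.coe_toPerm, hz]
  · intro w hw
    have h2 : π w ∉ S := hS w hw
    simp [Function.Involutive.coe_toPerm, hw, h2]
  · intro z h1 h2
    have h2' : π.symm z ∉ S := h2
    simp [Function.Involutive.coe_toPerm, h1, h2']

theorem out_of_mem {x c : Equiv.Perm α} (hx : ∀ a ∈ c.support, c a = x a) {z : α}
    (h : x z ∈ c.support) : z ∈ c.support := by
  have hw : c⁻¹ (x z) ∈ c.support := by
    rw [← Equiv.Perm.apply_mem_support (f := c)]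
    simpa using h
  have h1 := hx _ hw
  rw [ais] at h1
  have h2 : z = c⁻¹ (x z) := x.injective h1
  rw [h2]
  exact hw

theorem half_swap (x c₁ c₂ : Equiv.Perm α) (hc₁ : c₁ ∈ x.cycleFactorsFinset)
    (hc₂ : c₂ ∈ x.cycleFactorsFinset) (hne : c₁ ≠ c₂)
    (hcard : c₁.support.card = c₂.support.card) (heven : Even c₁.support.card) :
    ∃ t τ : Equiv.Perm α, t * t = 1 ∧ τ * τ = 1 ∧ τ * x = x * τ ∧ t * x * t⁻¹ = τ * x ∧
      ∃ a : α, (t * (c₁ * t * c₁⁻¹)) a ≠ a ∧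
        (t * (c₁ * t * c₁⁻¹)) ((t * (c₁ * t * c₁⁻¹)) ((t * (c₁ * t * c₁⁻¹)) a)) = a := by
  classical
  obtain ⟨hcy1, hx1⟩ := Equiv.Perm.mem_cycleFactorsFinset_iff.mp hc₁
  obtain ⟨hcy2, hx2⟩ := Equiv.Perm.mem_cycleFactorsFinset_iff.mp hc₂
  have hdisj : Equiv.Perm.Disjoint c₁ c₂ :=
    Equiv.Perm.cycleFactorsFinset_pairwise_disjoint x hc₁ hc₂ hne
  obtain ⟨π, hπ⟩ := isConj_iff.mp (hcy1.isConj hcy2 hcard)
  have F2 : ∀ z, π (c₁ z) = c₂ (π z) := by
    intro z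
    rw [← hπ]
    simp
  have F3 : ∀ z, z ∈ c₁.support ↔ π z ∈ c₂.support := by
    intro z
    rw [Equiv.Perm.mem_support, Equiv.Perm.mem_support, ← F2]
    simp
  have F5 : ∀ z, z ∈ c₁.support → z ∉ c₂.support := by
    intro z hz
    exact Finset.disjoint_left.mp hdisj.disjoint_support hz
  have F1 : ∀ z, z ∈ c₁.support → c₁ z ∈ c₁.support :=
    fun z hz => Equiv.Perm.apply_mem_support.mpr hz
  have G1 : ∀ z, π⁻¹ z ∈ c₁.support ↔ z ∈ c₂.support := by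
    intro z
    rw [F3 (π⁻¹ z), ais]
  have X1 : ∀ z, z ∈ c₁.support → x z = c₁ z := fun z hz => (hx1 z hz).symm
  have X2 : ∀ w, w ∈ c₁.support → x (π w) = π (c₁ w) := by
    intro w hw
    rw [F2, hx2 (π w) ((F3 w).mp hw)]
  have X3 : ∀ z, z ∉ c₁.support → x z ∉ c₁.support := fun z hz h => hz (out_of_mem hx1 h)
  have X4 : ∀ z, z ∉ c₂.support → x z ∉ c₂.support := fun z hz h => hz (out_of_mem hx2 h)
  obtain ⟨a0, ha0⟩ : ∃ a0, c₁ a0 ≠ a0 := by
    obtain ⟨a0, ha0, _⟩ := hcy1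
    exact ⟨a0, ha0⟩
  have ha0S : a0 ∈ c₁.support := Equiv.Perm.mem_support.mpr ha0
  obtain ⟨E, hEdef⟩ : ∃ E : Finset α,
      E = c₁.support.filter (fun z => ∃ i : ℕ, Even i ∧ (c₁ ^ i) a0 = z) := ⟨_, rfl⟩
  have hES : ∀ z ∈ E, z ∈ c₁.support := by
    intro z hz
    rw [hEdef] at hz
    exact (Finset.mem_filter.mp hz).1
  have hpar : ∀ z ∈ c₁.support, (z ∈ E ↔ c₁ z ∉ E) := by
    intro z hz
    constructor
    · intro h1 h2
      rw [hEdef] at h1 h2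
      obtain ⟨_, i, hi, rfl⟩ := Finset.mem_filter.mp h1
      obtain ⟨_, j, hj, hij⟩ := Finset.mem_filter.mp h2
      have h3 : (c₁ ^ j) a0 = (c₁ ^ (i + 1)) a0 := by
        rw [hij, pow_succ']
        rfl
      have h4 : c₁ ^ j = c₁ ^ (i + 1) := hcy1.pow_eq_pow_iff.mpr ⟨a0, ha0, h3⟩
      have h5 : j ≡ i + 1 [MOD orderOf c₁] := pow_eq_pow_iff_modEq.mp h4
      rw [hcy1.orderOf] at h5
      have h6 : j ≡ i + 1 [MOD 2] := h5.of_dvd heven.two_dvd
      rcases hi with ⟨i', rfl⟩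
      rcases hj with ⟨j', rfl⟩
      unfold Nat.ModEq at h6
      omega
    · intro h1
      obtain ⟨i, hi⟩ := hcy1.exists_pow_eq ha0 (Equiv.Perm.mem_support.mp hz)
      rcases Nat.even_or_odd i with he | ho
      · rw [hEdef]
        exact Finset.mem_filter.mpr ⟨hz, i, he, hi⟩
      · exfalso
        apply h1
        rw [hEdef]
        refine Finset.mem_filter.mpr ⟨F1 z hz, i + 1, ho.add_one, ?_⟩
        rw [pow_succ', Equiv.Perm.mul_apply, hi]
  have ha0E : a0 ∈ E := by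
    rw [hEdef]
    exact Finset.mem_filter.mpr ⟨ha0S, 0, Even.zero, by simp⟩
  have hS1 : ∀ z ∈ c₁.support, π z ∉ c₁.support := fun z hz h => F5 _ h ((F3 z).mp hz)
  have hE1 : ∀ z ∈ E, π z ∉ E := fun z hz h => hS1 z (hES z hz) (hES _ h)
  obtain ⟨t, htt, tE, tπE, tout⟩ := sw_exists π E hE1
  obtain ⟨τ, hττ, τS, τπ, τout⟩ := sw_exists π c₁.support hS1
  have tfix1 : ∀ z, z ∈ c₁.support → z ∉ E → t z = z := by
    intro z hz hzE
    refine tout z hzE (fun h => ?_)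
    exact F5 z hz ((G1 z).mp (hES _ h))
  have tfix2 : ∀ w, w ∈ c₁.support → w ∉ E → t (π w) = π w := by
    intro w hw hwE
    refine tout (π w) (fun h => hS1 w hw (hES _ h)) ?_
    rw [ias]
    exact hwE
  have tfix3 : ∀ z, z ∉ c₁.support → z ∉ c₂.support → t z = z := by
    intro z h1 h2
    exact tout z (fun h => h1 (hES _ h)) (fun h => h2 ((G1 z).mp (hES _ h)))
  have τfix : ∀ z, z ∉ c₁.support → z ∉ c₂.support → τ z = z := by
    intro z h1 h2
    exact τout z h1 (fun h => h2 ((G1 z).mp h))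
  have hcases : ∀ z, z ∈ c₁.support ∨ (∃ w ∈ c₁.support, z = π w) ∨
      (z ∉ c₁.support ∧ z ∉ c₂.support) := by
    intro z
    by_cases h1 : z ∈ c₁.support
    · exact Or.inl h1
    · by_cases h2 : z ∈ c₂.support
      · exact Or.inr (Or.inl ⟨π⁻¹ z, (G1 z).mpr h2, by simp⟩)
      · exact Or.inr (Or.inr ⟨h1, h2⟩)
  have hnot : ∀ z ∈ c₁.support, z ∉ E → c₁ z ∈ E := by
    intro z hz hzE
    by_contra h
    exact hzE ((hpar z hz).mpr h)
  have htinv : t⁻¹ = t := inv_eq_of_mul_eq_one_left htt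
  refine ⟨t, τ, htt, hττ, ?_, ?_, ?_⟩
  · ext z
    simp only [Equiv.Perm.mul_apply]
    rcases hcases z with hz | ⟨w, hw, rfl⟩ | ⟨h1, h2⟩
    · rw [X1 z hz, τS (c₁ z) (F1 z hz), τS z hz, X2 z hz]
    · rw [X2 w hw, τπ (c₁ w) (F1 w hw), τπ w hw, X1 w hw]
    · rw [τfix z h1 h2, τfix (x z) (X3 z h1) (X4 z h2)]
  · rw [htinv]
    ext z
    simp only [Equiv.Perm.mul_apply]
    rcases hcases z with hz | ⟨w, hw, rfl⟩ | ⟨h1, h2⟩
    · by_cases hzE : z ∈ E
      · have hcz : c₁ z ∉ E := (hpar z hz).mp hzE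
        rw [tE z hzE, X2 z hz, tfix2 (c₁ z) (F1 z hz) hcz, X1 z hz, τS (c₁ z) (F1 z hz)]
      · have hcz : c₁ z ∈ E := hnot z hz hzE
        rw [tfix1 z hz hzE, X1 z hz, tE (c₁ z) hcz, τS (c₁ z) (F1 z hz)]
    · by_cases hwE : w ∈ E
      · have hcw : c₁ w ∉ E := (hpar w hw).mp hwE
        rw [tπE w hwE, X1 w hw, tfix1 _ (F1 w hw) hcw, X2 w hw, τπ _ (F1 w hw)]
      · have hcw : c₁ w ∈ E := hnot w hw hwE
        rw [tfix2 w hw hwE, X2 w hw, tπE _ hcw, τπ _ (F1 w hw)]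
    · rw [tfix3 z h1 h2, tfix3 (x z) (X3 z h1) (X4 z h2), τfix (x z) (X3 z h1) (X4 z h2)]
  · have hπa0 : π a0 ∉ c₁.support := hS1 a0 ha0S
    have hc1π : c₁ (π a0) = π a0 := Equiv.Perm.notMem_support.mp hπa0
    have hc1πinv : c₁⁻¹ (π a0) = π a0 := by
      rw [Equiv.Perm.inv_eq_iff_eq]
      exact hc1π.symm
    have hbS : c₁⁻¹ a0 ∈ c₁.support := by
      rw [← Equiv.Perm.apply_mem_support (f := c₁), ais]
      exact ha0S
    have hbE : c₁⁻¹ a0 ∉ E := by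
      intro h
      have := (hpar _ hbS).mp h
      rw [ais] at this
      exact this ha0E
    have hca0E : c₁ a0 ∉ E := (hpar a0 ha0S).mp ha0E
    have g1 : (t * (c₁ * t * c₁⁻¹)) a0 = π a0 := by
      simp only [Equiv.Perm.mul_apply]
      rw [tfix1 _ hbS hbE, ais, tE a0 ha0E]
    have g2 : (t * (c₁ * t * c₁⁻¹)) (π a0) = c₁ a0 := by
      simp only [Equiv.Perm.mul_apply]
      rw [hc1πinv, tπE a0 ha0E, tfix1 _ (F1 a0 ha0S) hca0E]
    have g3 : (t * (c₁ * t * c₁⁻¹)) (c₁ a0) = a0 := by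
      simp only [Equiv.Perm.mul_apply]
      rw [ias, tE a0 ha0E, hc1π, tπE a0 ha0E]
    refine ⟨a0, ?_, ?_⟩
    · rw [g1]
      intro h
      rw [h] at hπa0
      exact hπa0 ha0S
    · rw [g1, g2, g3]

end Cfsg.Agent.Helper28.S4349c
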