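import Mathlib

set_option autoImplicit false

namespace Cfsg.Agent.Helper28

open MulAction

/-- The stabilizer of a point in a subgroup `P`, as the `subgroupOf` of the full stabilizer. -/
theorem stabilizer_subgroup_eq {G Ω : Type*} [Group G] [MulAction G Ω] (P : Subgroup G) (ω : Ω) :
    stabilizer ↥P ω = (stabilizer G ω).subgroupOf P := by
  ext g
  simp [Subgroup.mem_subgroupOf, mem_stabilizer_iff, Subgroup.smul_def]

/-- The size of the orbit of a point under a subgroup is a relative index. -/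
theorem ncard_orbit_subgroup {G Ω : Type*} [Group G] [MulAction G Ω] (P : Subgroup G) (ω : Ω) :
    (orbit ↥P ω).ncard = (stabilizer G ω).relIndex P := by
  rw [← index_stabilizer, stabilizer_subgroup_eq]
  rfl

/-- If `G` is finite and transitive on `Ω`, `P` is a Sylow `p`-subgroup and `p ^ j` divides `|Ω|`,
then `p ^ j` divides the size of every `P`-orbit. -/
theorem pow_dvd_ncard_orbit_sylow {G Ω : Type*} [Group G] [Finite G] [MulAction G Ω]
    [IsPretransitive G Ω] {p : ℕ} [Fact p.Prime] (P : Sylow p G) (ω : Ω) (j : ℕ)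
    (h : p ^ j ∣ Nat.card Ω) : p ^ j ∣ (orbit ↥(P : Subgroup G) ω).ncard := by
  rw [ncard_orbit_subgroup]
  set S := stabilizer G ω with hS
  have h1 : ((P : Subgroup G) ⊓ S).relIndex (P : Subgroup G) * (P : Subgroup G).index
      = ((P : Subgroup G) ⊓ S).index := Subgroup.relIndex_mul_index inf_le_left
  have h2 : ((P : Subgroup G) ⊓ S).relIndex S * S.index = ((P : Subgroup G) ⊓ S).index :=
    Subgroup.relIndex_mul_index inf_le_right
  have h3 : S.index = Nat.card Ω := index_stabilizer_of_transitive G ω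
  rw [Subgroup.inf_relIndex_left] at h1
  have h4 : p ^ j ∣ S.relIndex (P : Subgroup G) * (P : Subgroup G).index := by
    rw [h1, ← h2, h3]
    exact Dvd.dvd.mul_left h _
  have hcop : Nat.Coprime (p ^ j) (P : Subgroup G).index := by
    apply Nat.Coprime.pow_left
    exact (Nat.Prime.coprime_iff_not_dvd (Fact.out)).2 P.not_dvd_index
  exact hcop.dvd_of_dvd_mul_right h4

/-- A Sylow `p`-subgroup of a finite group acting transitively on a set of `p`-power size acts
transitively. -/
theorem sylow_transitive_of_card_eq_pow {G Ω : Type*} [Group G] [Finite G] [MulAction G Ω]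
    [Finite Ω] [IsPretransitive G Ω] {p : ℕ} [Fact p.Prime] (P : Sylow p G) {k : ℕ}
    (hΩ : Nat.card Ω = p ^ k) (ω ω' : Ω) : ∃ h ∈ (P : Subgroup G), h • ω = ω' := by
  have hdvd := pow_dvd_ncard_orbit_sylow P ω k (by rw [hΩ])
  have hpos : 0 < (orbit ↥(P : Subgroup G) ω).ncard := by
    rw [Set.ncard_pos]
    exact ⟨ω, mem_orbit_self ω⟩
  have hle : p ^ k ≤ (orbit ↥(P : Subgroup G) ω).ncard := Nat.le_of_dvd hpos hdvd
  have huniv : orbit ↥(P : Subgroup G) ω = Set.univ := by
    apply Set.eq_of_subset_of_ncard_le (Set.subset_univ _)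
    rw [Set.ncard_univ, hΩ]
    exact hle
  have hmem : ω' ∈ orbit ↥(P : Subgroup G) ω := by rw [huniv]; trivial
  obtain ⟨⟨h, hh⟩, hh'⟩ := hmem
  exact ⟨h, hh, hh'⟩

end Cfsg.Agent.Helper28
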