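import Mathlib
import Cfsg.Prelude.Def_GeometricClasses

namespace Cfsg.Agent.Helper28.U3B1

open Matrix

theorem conj_pow {n : Type*} [Fintype n] [DecidableEq n] {K : Type*} [CommRing K]
    (Tm X : Matrix n n K) (hTT : Tm * Tm = 1) (j : ℕ) :
    Tm * X ^ j * Tm = (Tm * X * Tm) ^ j := by
  induction j with
  | zero => simp [hTT]
  | succ j ih =>
    rw [pow_succ, pow_succ, ← ih]
    calc Tm * (X ^ j * X) * Tm = Tm * X ^ j * (1 : Matrix n n K) * X * Tm := by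
          simp only [Matrix.mul_assoc, Matrix.one_mul]
      _ = Tm * X ^ j * Tm * (Tm * X * Tm) := by
          rw [← hTT]
          simp only [Matrix.mul_assoc]

variable {F : Type*} [Field F] [Fintype F] {p : ℕ} [Fact p.Prime] [CharP F p]

theorem nz_T (R : Subgroup (GL (Fin 3) F)) (g : GL (Fin 3) F) (ω : F) (hω : ω ≠ 1)
    (hω3 : ω ^ 3 = 1)
    (hRd : ∀ y : GL (Fin 3) F, y ∈ R ↔ ∃ i j k : ℕ, (y : Matrix (Fin 3) (Fin 3) F) =
      (g : Matrix (Fin 3) (Fin 3) F) * (ω ^ i • (Matrix.diagonal ![1, ω ^ 2, ω] ^ j *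
        !![0, 0, 1; 1, 0, 0; 0, 1, 0] ^ k)) * ((g⁻¹ : GL (Fin 3) F) : Matrix (Fin 3) (Fin 3) F))
    (T : GL (Fin 3) F) (hT : (T : Matrix (Fin 3) (Fin 3) F) = !![-1, 0, 0; 0, 0, -1; 0, -1, 0]) :
    g * T * g⁻¹ ∈ Cfsg.Geo.subgroupNormalizer R := by
  have hTT : (!![-1, 0, 0; 0, 0, -1; 0, -1, 0] : Matrix (Fin 3) (Fin 3) F) *
      !![-1, 0, 0; 0, 0, -1; 0, -1, 0] = 1 := by
    ext i j
    fin_cases i <;> fin_cases j <;> simp [Matrix.mul_apply, Fin.sum_univ_three]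
  have hA : (!![-1, 0, 0; 0, 0, -1; 0, -1, 0] : Matrix (Fin 3) (Fin 3) F) *
      Matrix.diagonal ![1, ω ^ 2, ω] * !![-1, 0, 0; 0, 0, -1; 0, -1, 0] =
      Matrix.diagonal ![1, ω ^ 2, ω] * Matrix.diagonal ![1, ω ^ 2, ω] := by
    have h4 : ω ^ 2 * ω ^ 2 = ω := by linear_combination ω * hω3
    have hD : Matrix.diagonal ![1, ω ^ 2, ω] =
        (!![1, 0, 0; 0, ω ^ 2, 0; 0, 0, ω] : Matrix (Fin 3) (Fin 3) F) := by
      ext i j
      fin_cases i <;> fin_cases j <;> rfl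
    rw [hD]
    ext i j
    fin_cases i <;> fin_cases j <;>
      simp [Matrix.mul_apply, Fin.sum_univ_three, h4] <;> ring
  have hC : (!![-1, 0, 0; 0, 0, -1; 0, -1, 0] : Matrix (Fin 3) (Fin 3) F) *
      !![0, 0, 1; 1, 0, 0; 0, 1, 0] * !![-1, 0, 0; 0, 0, -1; 0, -1, 0] =
      (!![0, 0, 1; 1, 0, 0; 0, 1, 0] : Matrix (Fin 3) (Fin 3) F) *
        !![0, 0, 1; 1, 0, 0; 0, 1, 0] := by
    ext i j
    fin_cases i <;> fin_cases j <;> simp [Matrix.mul_apply, Fin.sum_univ_three]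
  have hTg : T * T = 1 := by
    apply Units.ext
    rw [Units.val_mul, hT, hTT]
    rfl
  have hnn : (g * T * g⁻¹) * (g * T * g⁻¹) = 1 := by
    calc (g * T * g⁻¹) * (g * T * g⁻¹) = g * (T * T) * g⁻¹ := by group
      _ = 1 := by rw [hTg]; group
  have hninv : (g * T * g⁻¹)⁻¹ = g * T * g⁻¹ := inv_eq_of_mul_eq_one_left hnn
  have hGi : ((g⁻¹ : GL (Fin 3) F) : Matrix (Fin 3) (Fin 3) F) *
      (g : Matrix (Fin 3) (Fin 3) F) = 1 := Units.inv_mul g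
  have key : ∀ M : Matrix (Fin 3) (Fin 3) F,
      ((g : Matrix (Fin 3) (Fin 3) F) * !![-1, 0, 0; 0, 0, -1; 0, -1, 0] *
          ((g⁻¹ : GL (Fin 3) F) : Matrix (Fin 3) (Fin 3) F)) *
        ((g : Matrix (Fin 3) (Fin 3) F) * M * ((g⁻¹ : GL (Fin 3) F) : Matrix (Fin 3) (Fin 3) F)) *
        ((g : Matrix (Fin 3) (Fin 3) F) * !![-1, 0, 0; 0, 0, -1; 0, -1, 0] *
          ((g⁻¹ : GL (Fin 3) F) : Matrix (Fin 3) (Fin 3) F)) =
      (g : Matrix (Fin 3) (Fin 3) F) * (!![-1, 0, 0; 0, 0, -1; 0, -1, 0] * M *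
          !![-1, 0, 0; 0, 0, -1; 0, -1, 0]) *
        ((g⁻¹ : GL (Fin 3) F) : Matrix (Fin 3) (Fin 3) F) := by
    intro M
    generalize (g : Matrix (Fin 3) (Fin 3) F) = G at *
    generalize ((g⁻¹ : GL (Fin 3) F) : Matrix (Fin 3) (Fin 3) F) = Gi at *
    generalize (!![-1, 0, 0; 0, 0, -1; 0, -1, 0] : Matrix (Fin 3) (Fin 3) F) = Tm at *
    calc G * Tm * Gi * (G * M * Gi) * (G * Tm * Gi)
        = G * Tm * (Gi * G) * M * (Gi * G) * Tm * Gi := by simp only [Matrix.mul_assoc]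
      _ = G * (Tm * M * Tm) * Gi := by
          rw [hGi]
          simp only [Matrix.mul_one, Matrix.mul_assoc]
  have hstep : ∀ y ∈ R, (g * T * g⁻¹) * y * (g * T * g⁻¹)⁻¹ ∈ R := by
    intro y hy
    obtain ⟨i, j, k, hyM⟩ := (hRd y).mp hy
    rw [hninv]
    refine (hRd _).mpr ⟨i, 2 * j, 2 * k, ?_⟩
    rw [Units.val_mul, Units.val_mul, Units.val_mul, Units.val_mul, hyM, hT, key]
    congr 2
    rw [Matrix.mul_smul, Matrix.smul_mul]
    congr 1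
    generalize (!![-1, 0, 0; 0, 0, -1; 0, -1, 0] : Matrix (Fin 3) (Fin 3) F) = Tm at *
    calc Tm * (Matrix.diagonal ![1, ω ^ 2, ω] ^ j * !![0, 0, 1; 1, 0, 0; 0, 1, 0] ^ k) * Tm
        = Tm * Matrix.diagonal ![1, ω ^ 2, ω] ^ j * (1 : Matrix (Fin 3) (Fin 3) F) *
            !![0, 0, 1; 1, 0, 0; 0, 1, 0] ^ k * Tm := by
          simp only [Matrix.mul_assoc, Matrix.one_mul]
      _ = (Tm * Matrix.diagonal ![1, ω ^ 2, ω] ^ j * Tm) *
            (Tm * !![0, 0, 1; 1, 0, 0; 0, 1, 0] ^ k * Tm) := by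
          rw [← hTT]
          simp only [Matrix.mul_assoc]
      _ = Matrix.diagonal ![1, ω ^ 2, ω] ^ (2 * j) * !![0, 0, 1; 1, 0, 0; 0, 1, 0] ^ (2 * k) := by
          rw [conj_pow _ _ hTT, conj_pow _ _ hTT, hA, hC, ← pow_two, ← pow_two, ← pow_mul,
            ← pow_mul]
  unfold Cfsg.Geo.subgroupNormalizer
  rw [Subgroup.mem_normalizer_iff]
  intro y
  constructor
  · exact hstep y
  · intro h
    have h2 := hstep _ h
    rw [hninv] at h2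
    have e : (g * T * g⁻¹) * ((g * T * g⁻¹) * y * (g * T * g⁻¹)) * (g * T * g⁻¹) = y := by
      calc (g * T * g⁻¹) * ((g * T * g⁻¹) * y * (g * T * g⁻¹)) * (g * T * g⁻¹)
          = ((g * T * g⁻¹) * (g * T * g⁻¹)) * y * ((g * T * g⁻¹) * (g * T * g⁻¹)) := by
            simp only [mul_assoc]
        _ = y := by rw [hnn]; simp
    rwa [e] at h2

end Cfsg.Agent.Helper28.U3B1
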